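import Groth.Agent.Synt.K563.GCI2
import Groth.Agent.S2842
import Mathlib.RingTheory.EssentialFiniteness

/-!
# `Synt.IsCIOver` and `Pi1.IsCompleteIntersection`

* `isCI_of_isCIOver`, `isCIOver_iff`: a local algebra essentially of finite type over a field `k` is a complete
  intersection over `k` iff its completion is a regular local ring modulo a regular sequence;
* `isCIOver_of_algEquiv`.
-/

set_option autoImplicit false

universe u

namespace K563.CIOver

open IsLocalRing RingTheory.Sequence

variable {k : Type u} [Field k]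

theorem isCI_of_isCIOver {S : Type u} [CommRing S] [Algebra k S] [IsLocalRing S]
    (h : Synt.IsCIOver k S) : Pi1.IsCompleteIntersection S := by
  obtain ⟨R, _, _, _, -, rs, -, hreg, ⟨e⟩⟩ := h
  let φ : R →+* S := (e.symm : R ⧸ Ideal.ofList rs →+* S).comp (Ideal.Quotient.mk _)
  have hφ : Function.Surjective φ := e.symm.surjective.comp Ideal.Quotient.mk_surjective
  rw [Groth.Agent.S2842.isCompleteIntersection_iff_of_surjective φ hφ]
  refine ⟨rs, hreg, ?_⟩
  have : RingHom.ker φ = (RingHom.ker (e.symm : R ⧸ Ideal.ofList rs →+* S)).comap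
      (Ideal.Quotient.mk _) := RingHom.comap_ker _ _ |>.symm
  rw [this]
  have h2 : RingHom.ker (e.symm : R ⧸ Ideal.ofList rs →+* S) = ⊥ :=
    (RingHom.injective_iff_ker_eq_bot _).mp e.symm.injective
  rw [h2, ← RingHom.ker_eq_comap_bot, Ideal.mk_ker]

theorem essFiniteType_of_isCIOver {S : Type u} [CommRing S] [Algebra k S] [IsLocalRing S]
    (h : Synt.IsCIOver k S) : Algebra.EssFiniteType k S := by
  obtain ⟨R, _, _, _, hE, rs, -, hreg, ⟨e⟩⟩ := h
  have : Algebra.EssFiniteType k (R ⧸ Ideal.ofList rs) := inferInstance
  exact (Algebra.EssFiniteType.iff_of_algEquiv e).mpr this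

theorem isCIOver_of_algEquiv {S T : Type u} [CommRing S] [Algebra k S] [IsLocalRing S] [CommRing T]
    [Algebra k T] [IsLocalRing T] (e : S ≃ₐ[k] T) (h : Synt.IsCIOver k S) : Synt.IsCIOver k T := by
  obtain ⟨R, i1, i2, i3, hE, rs, hmem, hreg, ⟨e'⟩⟩ := h
  exact ⟨R, i1, i2, i3, hE, rs, hmem, hreg, ⟨e.symm.trans e'⟩⟩

/-- A surjection from a regular local ring essentially of finite type onto a complete intersection. -/
theorem isCIOver_of_surjective {S R : Type u} [CommRing S] [Algebra k S] [IsLocalRing S]
    [CommRing R] [IsRegularLocalRing R] [Algebra k R] [Algebra.EssFiniteType k R]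
    (φ : R →ₐ[k] S) (hφ : Function.Surjective φ) (h : Pi1.IsCompleteIntersection S) :
    Synt.IsCIOver k S := by
  obtain ⟨rs, hreg, hrs⟩ :=
    (Groth.Agent.S2842.isCompleteIntersection_iff_of_surjective φ.toRingHom hφ).mp h
  refine ⟨R, inferInstance, inferInstance, inferInstance, inferInstance, rs, ?_, hreg, ⟨?_⟩⟩
  · intro r hr
    have h1 : r ∈ RingHom.ker φ.toRingHom := hrs ▸ Ideal.subset_span hr
    exact IsLocalRing.le_maximalIdeal (RingHom.ker_ne_top φ.toRingHom) h1
  · exact (Ideal.quotientKerAlgEquivOfSurjective hφ).symm.trans (Ideal.quotientEquivAlgOfEq k hrs.symm)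

/-- Local rings of a finite type `k`-algebra. -/
theorem isCIOver_atPrime_iff {S : Type u} [CommRing S] [Algebra k S] [Algebra.FiniteType k S]
    (q : Ideal S) [q.IsPrime] :
    Synt.IsCIOver k (Localization.AtPrime q) ↔
      Pi1.IsCompleteIntersection (Localization.AtPrime q) := by
  refine ⟨isCI_of_isCIOver, fun h => ?_⟩
  obtain ⟨n, π, hπ⟩ := Algebra.FiniteType.iff_quotient_mvPolynomial''.mp ‹Algebra.FiniteType k S›
  let p : Ideal (MvPolynomial (Fin n) k) := q.comap π.toRingHom
  have hp : p.IsPrime := Ideal.comap_isPrime _ _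
  let f' : Localization.AtPrime p →ₐ[k] Localization.AtPrime q :=
    { Localization.localRingHom p q π.toRingHom rfl with
      commutes' := fun x => by
        change Localization.localRingHom p q π.toRingHom rfl (algebraMap k _ x) = _
        rw [IsScalarTower.algebraMap_apply k (MvPolynomial (Fin n) k) (Localization.AtPrime p),
          Localization.localRingHom_to_map, IsScalarTower.algebraMap_apply k S
            (Localization.AtPrime q)]
        congr 1
        exact π.commutes x }
  have hf' : Function.Surjective f' :=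
    RingHom.surjective_localRingHom_of_surjective π.toRingHom hπ q
  exact isCIOver_of_surjective f' hf' h

/-- For local algebras essentially of finite type over a field the two notions of complete intersection agree. -/
theorem isCIOver_iff {S : Type u} [CommRing S] [Algebra k S] [IsLocalRing S] :
    Synt.IsCIOver k S ↔ Algebra.EssFiniteType k S ∧ Pi1.IsCompleteIntersection S := by
  refine ⟨fun h => ⟨essFiniteType_of_isCIOver h, isCI_of_isCIOver h⟩, fun ⟨hE, h⟩ => ?_⟩
  obtain ⟨S₀, M, hS₀, hM⟩ := (Algebra.essFiniteType_iff_exists_subalgebra k S).mp hE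
  let q : Ideal S₀ := (maximalIdeal S).comap (algebraMap S₀ S)
  have hq : q.IsPrime := Ideal.comap_isPrime _ _
  have hloc : IsLocalization.AtPrime S q := by
    have h1 : IsLocalization.AtPrime S (maximalIdeal S) := by
      refine IsLocalization.of_le_isUnit fun x hx => ?_
      rw [IsUnit.mem_submonoid_iff]
      exact not_not.mp fun h => hx ((IsLocalRing.mem_maximalIdeal x).mpr h)
    exact IsLocalization.isLocalization_isLocalization_atPrime_isLocalization M S (maximalIdeal S)
  have e : Localization.AtPrime q ≃ₐ[S₀] S := IsLocalization.algEquiv q.primeCompl _ _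
  let e' : Localization.AtPrime q ≃ₐ[k] S := e.restrictScalars k
  refine isCIOver_of_algEquiv e' ((isCIOver_atPrime_iff q).mpr ?_)
  exact Groth.Agent.Ega4dB.CITransport.isCompleteIntersection_of_ringEquiv e'.symm.toRingEquiv h

end K563.CIOver
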