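import Groth.Agent.Synt.K563.GCI2
import Mathlib.RingTheory.HopkinsLevitzki
import Mathlib.RingTheory.AdjoinRoot
import Mathlib.Algebra.MvPolynomial.Equiv

/-!
# Syntomic ring maps: criterion by local rings of the fibres, and finite examples
-/

set_option autoImplicit false

universe u

namespace K563.Syn

open K563.Pres K563.GCI K563.GCI2 TensorProduct

variable {R S : Type u} [CommRing R] [CommRing S] [Algebra R S]

theorem isSyntomic_iff : Synt.IsSyntomic R S ↔ Module.Flat R S ∧ Algebra.FinitePresentation R S ∧
    ∀ (p : Ideal R) [p.IsPrime] (q : Ideal (p.Fiber S)) [q.IsPrime],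
      Pi1.IsCompleteIntersection (Localization.AtPrime q) := by
  refine and_congr_right fun _ => and_congr_right fun hfp => ?_
  constructor
  · intro h p hp q hq
    exact (isLCIOver_iff.mp (h ⟨p, hp⟩)).2 q
  · intro h p
    have : Algebra.FiniteType p.asIdeal.ResidueField (p.asIdeal.Fiber S) := inferInstance
    exact isLCIOver_iff.mpr ⟨this, fun q _ => h p.asIdeal q⟩

/-- Presentations by `n` variables and `c ≤ n` relations whose fibres have dimension at most `n - c`. -/
theorem isSyntomic_of_hasPres {n c : ℕ} (hcn : c ≤ n) (h : HasPres R S n c) [Module.Flat R S]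
    (hdim : ∀ (p : Ideal R) [p.IsPrime], ringKrullDim (p.Fiber S) ≤ ((n - c : ℕ) : WithBot ℕ∞)) :
    Synt.IsSyntomic R S :=
  isSyntomic_iff.mpr ⟨inferInstance, h.finitePresentation, fun p _ q _ =>
    isCI_atPrime_of_hasPres hcn (h.baseChange p.ResidueField) (hdim p) q⟩

/-- A finite flat algebra with as many relations as variables. -/
theorem isSyntomic_of_finite {n : ℕ} (h : HasPres R S n n) [Module.Flat R S] [Module.Finite R S] :
    Synt.IsSyntomic R S := by
  refine isSyntomic_of_hasPres le_rfl h fun p _ => ?_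
  have h1 : Module.Finite p.ResidueField (p.Fiber S) := inferInstance
  have h2 : IsArtinianRing (p.Fiber S) := IsArtinianRing.of_finite p.ResidueField _
  have h3 : Ring.KrullDimLE 0 (p.Fiber S) := inferInstance
  rw [Nat.sub_self]
  exact (Order.krullDimLE_iff 0 _).mp h3

theorem hasPres_quotient_span_singleton (f : Polynomial R) :
    HasPres R (Polynomial R ⧸ Ideal.span {f}) 1 1 := by
  let e : MvPolynomial (Fin 1) R ≃ₐ[R] Polynomial R := MvPolynomial.uniqueAlgEquiv R (Fin 1)
  refine ⟨(Ideal.Quotient.mkₐ R _).comp e.toAlgHom, fun _ => e.symm f,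
    Ideal.Quotient.mk_surjective.comp e.surjective, ?_⟩
  have h1 : RingHom.ker ((Ideal.Quotient.mkₐ R (Ideal.span {f})).comp e.toAlgHom).toRingHom =
      (Ideal.span {f}).comap (e : MvPolynomial (Fin 1) R →+* Polynomial R) := by
    ext x
    simp only [RingHom.mem_ker, Ideal.mem_comap]
    exact Ideal.Quotient.eq_zero_iff_mem
  have h2 : (Ideal.span {f}).comap (e : MvPolynomial (Fin 1) R →+* Polynomial R) =
      (Ideal.span {f}).map (e.symm : Polynomial R →+* MvPolynomial (Fin 1) R) :=
    Ideal.comap_symm (I := Ideal.span {f}) e.symm.toRingEquiv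
  rw [h1, h2, Ideal.map_span, Set.image_singleton, Set.range_const]
  rfl

theorem adjoinRoot (f : Polynomial R) (hf : f.Monic) : Synt.IsSyntomic R (AdjoinRoot f) := by
  have h1 : Module.Free R (AdjoinRoot f) := hf.free_adjoinRoot
  have h2 : Module.Finite R (AdjoinRoot f) := hf.finite_adjoinRoot
  exact isSyntomic_of_finite (n := 1) (hasPres_quotient_span_singleton f)

end K563.Syn
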