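import Groth.Agent.Synt.K563.RelNhd2
import Groth.Agent.Synt.K563.CIOver
import Groth.Agent.Synt.K563.Syn
import Groth.Agent.Synt.K562.Rel3
import Groth.Agent.Ega4B.FibLoc
import Groth.Agent.S9147

/-!
# Syntomic near a prime

`tfae`: for `R → S` and `q` prime of `S`: some `S_g`, `g ∉ q` is syntomic over `R` iff some `S_g` is a relative global
complete intersection iff some `S_g` is finitely presented, `S_q` is flat over `R` and the fibre local ring is a
complete intersection.
-/

set_option autoImplicit false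

namespace K563.SynNhd

open IsLocalRing K563.Pres K563.GCI2 Groth.Agent TensorProduct K563.RelNhd

universe u

variable {R S : Type u} [CommRing R] [CommRing S] [Algebra R S]

/-- Local rings of a basic open. -/
theorem nonempty_atPrime_away (g : S) (Q : Ideal (Localization.Away g)) [Q.IsPrime] (q : Ideal S) [q.IsPrime]
    (hq : q = Q.comap (algebraMap S (Localization.Away g))) :
    Nonempty (Localization.AtPrime q ≃ₐ[S] Localization.AtPrime Q) := by
  subst hq
  have h1 : IsLocalization.AtPrime (Localization.AtPrime Q)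
      (Q.comap (algebraMap S (Localization.Away g))) :=
    IsLocalization.isLocalization_isLocalization_atPrime_isLocalization (Submonoid.powers g)
      (Localization.AtPrime Q) Q
  exact ⟨IsLocalization.algEquiv (Q.comap (algebraMap S (Localization.Away g))).primeCompl _ _⟩

theorem exists_prime_away (g : S) (q : Ideal S) [hq : q.IsPrime] (hg : g ∉ q) :
    ∃ Q : Ideal (Localization.Away g), Q.IsPrime ∧ q = Q.comap (algebraMap S (Localization.Away g)) := by
  have hdisj : Disjoint (Submonoid.powers g : Set S) (q : Set S) := by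
    rw [Ideal.disjoint_powers_iff_notMem _ hq.isRadical]
    exact hg
  exact ⟨q.map (algebraMap S (Localization.Away g)),
    IsLocalization.isPrime_of_isPrime_disjoint (Submonoid.powers g) _ q hq hdisj,
    (IsLocalization.under_map_of_isPrime_disjoint (Submonoid.powers g) _ hq hdisj).symm⟩

/-- Fibre local rings of a basic open. -/
theorem nonempty_fibLocRing_away (g : S) (Q : Ideal (Localization.Away g)) [Q.IsPrime] (q : Ideal S) [q.IsPrime]
    (hq : q = Q.comap (algebraMap S (Localization.Away g))) :
    Nonempty (EGA4.FibLocRing R S q ≃+* EGA4.FibLocRing R (Localization.Away g) Q) := by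
  obtain ⟨e⟩ := nonempty_atPrime_away g Q q hq
  refine ⟨Ideal.quotientEquiv _ _ e.toRingEquiv ?_⟩
  have h1 : Q.comap (algebraMap R (Localization.Away g)) = q.comap (algebraMap R S) := by
    rw [hq, Ideal.comap_comap, ← IsScalarTower.algebraMap_eq]
  rw [h1]
  change _ = Ideal.map e.toRingEquiv.toRingHom _
  rw [Ideal.map_map]
  congr 1
  ext r
  change _ = e (algebraMap R (Localization.AtPrime q) r)
  rw [IsScalarTower.algebraMap_apply R S (Localization.AtPrime q), e.commutes,
    ← IsScalarTower.algebraMap_apply]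

/-- A basic open of a basic open. -/
theorem exists_away_away (g : S) (q : Ideal S) [hqp : q.IsPrime] (hg : g ∉ q)
    (Q : Ideal (Localization.Away g)) [Q.IsPrime]
    (hq : q = Q.comap (algebraMap S (Localization.Away g))) (g' : Localization.Away g) (hg' : g' ∉ Q) :
    ∃ a ∉ q, Nonempty (Localization.Away g' ≃ₐ[S] Localization.Away a) := by
  obtain ⟨n, a, ha⟩ := IsLocalization.Away.surj g g'
  have hu : IsUnit (algebraMap S (Localization.Away g) g ^ n) :=
    (IsLocalization.Away.algebraMap_isUnit g).pow n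
  have haQ : a ∉ q := by
    rw [hq, Ideal.mem_comap, ← ha]
    intro h
    exact hg' ((Ideal.mul_unit_mem_iff_mem _ hu).mp h)
  have h1 : IsLocalization.Away (algebraMap S (Localization.Away g) a) (Localization.Away g') := by
    have hassoc : Associated g' (algebraMap S (Localization.Away g) a) := by
      rw [← ha]
      exact (associated_mul_unit_right g' _ hu)
    exact IsLocalization.Away.of_associated hassoc
  have h2 : IsLocalization.Away (g * a) (Localization.Away g') :=
    IsLocalization.Away.mul' (Localization.Away g) _ g a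
  exact ⟨g * a, fun h => (hqp.mem_or_mem h).elim hg haQ,
    ⟨IsLocalization.algEquiv (Submonoid.powers (g * a)) _ _⟩⟩

theorem isLocalRing_fib (q : Ideal S) [q.IsPrime] : IsLocalRing (EGA4.FibLocRing R S q) :=
  Ega4C.SkFlat.isLocalRing_fibLocRing q

attribute [local instance] isLocalRing_fib

theorem isCI_fibLocRing_congr {q q' : Ideal S} [q.IsPrime] [q'.IsPrime] (h : q = q') :
    Pi1.IsCompleteIntersection (EGA4.FibLocRing R S q) ↔ Pi1.IsCompleteIntersection (EGA4.FibLocRing R S q') := by
  subst h
  rfl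

theorem isCI_atPrime_fiber_iff (p : Ideal R) [p.IsPrime] (Q : Ideal (p.Fiber S)) [Q.IsPrime] (q : Ideal S)
    [q.IsPrime] (hq : Ega4C.FibreTower.ctr p Q = q) :
    Pi1.IsCompleteIntersection (Localization.AtPrime Q) ↔
      Pi1.IsCompleteIntersection (EGA4.FibLocRing R S q) := by
  rw [Ega4dB.CITransport.isCompleteIntersection_iff_of_ringEquiv (Ega4C.FibreTower.locFibreEquiv p Q)]
  exact isCI_fibLocRing_congr hq

theorem isSyntomic_iff_fibLocRing : Synt.IsSyntomic R S ↔ Module.Flat R S ∧ Algebra.FinitePresentation R S ∧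
    ∀ (q : Ideal S) [q.IsPrime], Pi1.IsCompleteIntersection (EGA4.FibLocRing R S q) := by
  rw [K563.Syn.isSyntomic_iff]
  refine and_congr_right fun _ => and_congr_right fun _ => ?_
  constructor
  · intro h q hq
    obtain ⟨Q, hQ, hctr⟩ := Ega4C.FibreTower.exists_prime_fibre (q.comap (algebraMap R S)) q rfl
    exact (isCI_atPrime_fiber_iff _ Q q hctr).mp (h _ Q)
  · intro h p hp Q hQ
    exact (isCI_atPrime_fiber_iff p Q _ rfl).mpr (h _)

/-- `exists_relGCI_nhd` when only a basic open is finitely presented. -/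
theorem exists_relGCI_of_away (q : Ideal S) [q.IsPrime] (g : S) (hg : g ∉ q)
    [Algebra.FinitePresentation R (Localization.Away g)] [Module.Flat R (Localization.AtPrime q)]
    (hCI : Pi1.IsCompleteIntersection (EGA4.FibLocRing R S q)) :
    ∃ a ∉ q, ∃ (n c : ℕ) (F : Fin c → MvPolynomial (Fin n) R), c ≤ n ∧ Synt.IsRelGCI R n c F ∧
      Nonempty (Localization.Away a ≃ₐ[R] Synt.RelGCIRing R n c F) := by
  obtain ⟨Q, hQ, hq⟩ := exists_prime_away g q hg
  obtain ⟨e⟩ := nonempty_atPrime_away g Q q hq
  obtain ⟨e2⟩ := nonempty_fibLocRing_away (R := R) g Q q hq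
  have hfl : Module.Flat R (Localization.AtPrime Q) :=
    Module.Flat.of_linearEquiv (e.restrictScalars R).symm.toLinearEquiv
  obtain ⟨g', hg', n, c, F, hcn, hF, ⟨e3⟩⟩ := exists_relGCI_nhd (R := R) Q
    ((Ega4dB.CITransport.isCompleteIntersection_iff_of_ringEquiv e2).mp hCI)
  obtain ⟨a, ha, ⟨e4⟩⟩ := exists_away_away g q hg Q hq g' hg'
  exact ⟨a, ha, n, c, F, hcn, hF, ⟨(e4.restrictScalars R).symm.trans e3⟩⟩

/-- Near a prime of a syntomic algebra. -/
theorem exists_relGCI_of_isSyntomic (h : Synt.IsSyntomic R S) (q : Ideal S) [q.IsPrime] :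
    ∃ a ∉ q, ∃ (n c : ℕ) (F : Fin c → MvPolynomial (Fin n) R), c ≤ n ∧ Synt.IsRelGCI R n c F ∧
      Nonempty (Localization.Away a ≃ₐ[R] Synt.RelGCIRing R n c F) := by
  obtain ⟨h1, h2, h3⟩ := isSyntomic_iff_fibLocRing.mp h
  have hfl : Module.Flat R (Localization.AtPrime q) := by
    have : Module.Flat S (Localization.AtPrime q) := IsLocalization.flat _ q.primeCompl
    exact Module.Flat.trans R S _
  exact exists_relGCI_nhd q (h3 q)

theorem isSyntomic_of_relGCI {T : Type u} [CommRing T] [Algebra R T] {n c : ℕ} {F : Fin c → MvPolynomial (Fin n) R}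
    (hF : Synt.IsRelGCI R n c F) (e : T ≃ₐ[R] Synt.RelGCIRing R n c F) : Synt.IsSyntomic R T :=
  K562.Rel.isSyntomic_of_algEquiv e.symm (S9147.result R n c F hF)

/-- Syntomic near `q`, pointwise. -/
theorem exists_isSyntomic_iff (q : Ideal S) [q.IsPrime] :
    (∃ g ∉ q, Synt.IsSyntomic R (Localization.Away g)) ↔
      (∃ g ∉ q, Algebra.FinitePresentation R (Localization.Away g)) ∧ Module.Flat R (Localization.AtPrime q) ∧
        Pi1.IsCompleteIntersection (EGA4.FibLocRing R S q) := by
  constructor
  · rintro ⟨g, hg, h⟩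
    obtain ⟨h1, h2, h3⟩ := isSyntomic_iff_fibLocRing.mp h
    obtain ⟨Q, hQ, hq⟩ := exists_prime_away g q hg
    obtain ⟨e⟩ := nonempty_atPrime_away g Q q hq
    obtain ⟨e2⟩ := nonempty_fibLocRing_away (R := R) g Q q hq
    refine ⟨⟨g, hg, h2⟩, ?_, (Ega4dB.CITransport.isCompleteIntersection_iff_of_ringEquiv e2).mpr (h3 Q)⟩
    have h4 : Module.Flat (Localization.Away g) (Localization.AtPrime Q) := IsLocalization.flat _ Q.primeCompl
    have h5 : Module.Flat R (Localization.AtPrime Q) := Module.Flat.trans R (Localization.Away g) _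
    exact Module.Flat.of_linearEquiv (e.restrictScalars R).toLinearEquiv
  · rintro ⟨⟨g, hg, h1⟩, h2, h3⟩
    obtain ⟨a, ha, n, c, F, -, hF, ⟨e⟩⟩ := exists_relGCI_of_away q g hg h3
    exact ⟨a, ha, isSyntomic_of_relGCI hF e⟩

end K563.SynNhd
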