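import Groth.Agent.Synt.K563.GCI
import Groth.Agent.Ega43.FibChev
import Groth.Agent.Dual.H319.FibDim
import Groth.Agent.Synt.K562.Rel2

/-!
# Local dimension of the fibres of relative global complete intersections
-/

set_option autoImplicit false

namespace K563.FibDim

open MvPolynomial K563.Pres K563.DimLoc AlgebraicGeometry CategoryTheory Groth.Agent

universe u

section Field

variable (k : Type u) [Field k]

/-- The local dimension of `k[x_1..x_n]/(r_1..r_c)` is at least `n - c` everywhere. -/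
theorem le_localDim_of_hasPres {T : Type u} [CommRing T] [Algebra k T] {n c : ℕ}
    (h : HasPres k T n c) (Q : PrimeSpectrum T) :
    ((n - c : ℕ) : WithBot ℕ∞) ≤ FlatMor.localDim (PrimeSpectrum T) Q := by
  have hft := h.finiteType
  obtain ⟨φ, r, hφ, hker⟩ := h
  have hQ : Q.asIdeal.IsPrime := Q.2
  have h1 : Ideal.span (Set.range r) ≤ Q.asIdeal.comap φ.toRingHom := by
    rw [← hker]
    exact Ideal.comap_mono bot_le
  have hcp : (Q.asIdeal.comap φ.toRingHom).IsPrime := Ideal.comap_isPrime _ _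
  obtain ⟨p, hp, hpQ⟩ := Ideal.exists_minimalPrimes_le h1
  have hpp : p.IsPrime := hp.1.1
  have h2 : p.height ≤ (c : ℕ∞) := by
    refine (Ideal.height_le_card_of_mem_minimalPrimes_span (Set.finite_range r) hp).trans ?_
    have := Set.ncard_image_le (f := r) (Set.finite_univ (α := Fin c))
    rw [Set.image_univ, Set.ncard_univ, Nat.card_fin] at this
    exact_mod_cast this
  have h5 : RingHom.ker φ.toRingHom ≤ p := hker ▸ hp.1.2
  have hcomap : (p.map φ.toRingHom).comap φ.toRingHom = p := by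
    rw [Ideal.comap_map_of_surjective' φ.toRingHom hφ]
    exact sup_eq_left.mpr h5
  have ht : (p.map φ.toRingHom).IsPrime := Ideal.map_isPrime_of_surjective hφ h5
  have key := Ega43.FibChev.le_localDim_iff k (T := T) Q.asIdeal ((n - c : ℕ) : WithBot ℕ∞)
  refine key.mpr ⟨p.map φ.toRingHom, ht, ?_, ?_⟩
  · exact (Ideal.map_mono hpQ).trans Ideal.map_comap_le
  · rw [← Ega43.FibChev.ringKrullDim_quotient_comap φ.toRingHom hφ,
      ringKrullDim_eq_of_ringEquiv (Ideal.quotEquivOfEq hcomap)]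
    exact le_ringKrullDim_quotient_of_height_le k p h2

theorem localDim_eq_of_hasPres {T : Type u} [CommRing T] [Algebra k T] {n c : ℕ}
    (h : HasPres k T n c) (hd : ringKrullDim T ≤ ((n - c : ℕ) : WithBot ℕ∞)) (Q : PrimeSpectrum T) :
    FlatMor.localDim (PrimeSpectrum T) Q = ((n - c : ℕ) : WithBot ℕ∞) :=
  le_antisymm ((K562.Rel.localDim_le_ringKrullDim T Q).trans hd) (le_localDim_of_hasPres k h Q)

end Field

section Rel

variable {R A : Type u} [CommRing R] [CommRing A] [Algebra R A]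

/-- The fibre dimension through the fibre ring. -/
theorem exists_fibreDimAt_eq (x : PrimeSpectrum A) :
    ∃ Q : PrimeSpectrum ((x.asIdeal.comap (algebraMap R A)).Fiber A),
      x.asIdeal = Ega4C.FibreTower.ctr (x.asIdeal.comap (algebraMap R A)) Q.asIdeal ∧
      FlatMor.fibreDimAt (Spec.map (CommRingCat.ofHom (algebraMap R A))) x =
        FlatMor.localDim (PrimeSpectrum ((x.asIdeal.comap (algebraMap R A)).Fiber A)) Q := by
  have hx : x.asIdeal.IsPrime := x.2
  obtain ⟨Q, hQ, h⟩ := Ega4C.FibreTower.exists_prime_fibre (x.asIdeal.comap (algebraMap R A)) x.asIdeal rfl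
  exact ⟨⟨Q, hQ⟩, h.symm, Dual.H319.FibDim.fibreDimAt_spec
    ⟨x.asIdeal.comap (algebraMap R A), inferInstance⟩ ⟨Q, hQ⟩ x h.symm⟩

theorem fibreDimAt_eq_of_hasPres {n c : ℕ} (h : HasPres R A n c)
    (hd : ∀ p : PrimeSpectrum R, ringKrullDim (p.asIdeal.Fiber A) ≤ ((n - c : ℕ) : WithBot ℕ∞))
    (x : PrimeSpectrum A) :
    FlatMor.fibreDimAt (Spec.map (CommRingCat.ofHom (algebraMap R A))) x = ((n - c : ℕ) : WithBot ℕ∞) := by
  have hx : x.asIdeal.IsPrime := x.2
  obtain ⟨Q, -, h2⟩ := exists_fibreDimAt_eq (R := R) x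
  rw [h2]
  exact localDim_eq_of_hasPres (x.asIdeal.comap (algebraMap R A)).ResidueField (h.baseChange _)
    (hd ⟨x.asIdeal.comap (algebraMap R A), inferInstance⟩) Q

theorem fibreDimAt_relGCI {n c : ℕ} (F : Fin c → MvPolynomial (Fin n) R)
    (hF : Synt.IsRelGCI R n c F) (x : PrimeSpectrum (Synt.RelGCIRing R n c F)) :
    FlatMor.fibreDimAt (Spec.map (CommRingCat.ofHom (algebraMap R (Synt.RelGCIRing R n c F)))) x =
      ((n - c : ℕ) : WithBot ℕ∞) := by
  refine fibreDimAt_eq_of_hasPres (HasPres.quotient F) (fun p => ?_) x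
  rcases subsingleton_or_nontrivial (p.asIdeal.Fiber (Synt.RelGCIRing R n c F)) with h | h
  · rw [ringKrullDim_eq_bot_of_subsingleton]
    exact bot_le
  · exact (hF p h).2.le

end Rel

end K563.FibDim
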