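import Groth.Agent.Lefpen.H718.JacRank
import Groth.Agent.Lefpen.H718.Minor
import Groth.Agent.Lefpen.H649.JacSmooth
import Groth.Agent.S2768
import Groth.Agent.Synt.K563.FibDim
import Groth.Agent.Dual.H316.FibDim
import Mathlib.RingTheory.Smooth.StandardSmoothOfFree

/-!
# The Jacobian criterion for relative global complete intersections
-/

set_option autoImplicit false

universe u

namespace K563.Jac

open MvPolynomial TensorProduct AlgebraicGeometry CategoryTheory Groth.Agent K563.Pres

section Minor

variable {R : Type u} [CommRing R] {n c : ℕ} (F : Fin c → MvPolynomial (Fin n) R)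

theorem jacobian_naive (I : Fin c ↪ Fin n) :
    (Algebra.PreSubmersivePresentation.naive (v := F) I I.injective).jacobian =
      Ideal.Quotient.mk (Ideal.span (Set.range F))
        (Matrix.det (Matrix.of fun j i => MvPolynomial.pderiv (I i) (F j))) := by
  rw [Algebra.PreSubmersivePresentation.jacobian_eq_jacobiMatrix_det]
  have h1 : (Algebra.PreSubmersivePresentation.naive (v := F) I I.injective).jacobiMatrix =
      (Matrix.of fun j i => MvPolynomial.pderiv (I i) (F j)).transpose := by
    ext1 i j
    rw [Algebra.PreSubmersivePresentation.jacobiMatrix_naive]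
    rfl
  rw [h1, Matrix.det_transpose]
  rfl

theorem isSmoothAt_of_minor (q : Ideal (Synt.RelGCIRing R n c F)) [q.IsPrime] (I : Fin c ↪ Fin n)
    (h : Ideal.Quotient.mk (Ideal.span (Set.range F))
        (Matrix.det (Matrix.of fun j i => MvPolynomial.pderiv (I i) (F j))) ∉ q) :
    Algebra.IsSmoothAt R q := by
  rw [← jacobian_naive] at h
  let P := Algebra.PreSubmersivePresentation.naive (v := F) I I.injective
  have hsm := Lefpen.H649.JacSmooth.isStandardSmoothOfRelativeDimension_of_isLocalizationAway
    (T := Localization.Away P.jacobian) P P.jacobian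
    (IsLocalization.Away.algebraMap_isUnit P.jacobian) P.dimension rfl
  have hst : Algebra.IsStandardSmooth R (Localization.Away P.jacobian) := hsm.isStandardSmooth
  have hs : Algebra.Smooth R (Localization.Away P.jacobian) := inferInstance
  have hfp : Algebra.FinitePresentation R (Synt.RelGCIRing R n c F) := (HasPres.quotient F).finitePresentation
  exact Algebra.basicOpen_subset_smoothLocus_iff_smooth.mpr hs (show (⟨q, inferInstance⟩ : PrimeSpectrum _) ∈ _ from h)

end Minor

section Dim

variable {R S : Type u} [CommRing R] [CommRing S] [Algebra R S]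

/-- The relative dimension of a standard smooth basic open is the fibre dimension. -/
theorem relDim_eq {m d : ℕ} (f : S) (q : Ideal S) [hq : q.IsPrime] (hf : f ∉ q)
    (h : Algebra.IsStandardSmoothOfRelativeDimension m R (Localization.Away f))
    (hd : FlatMor.fibreDimAt (Spec.map (CommRingCat.ofHom (algebraMap R S))) (⟨q, hq⟩ : PrimeSpectrum S) =
      (d : WithBot ℕ∞)) : m = d := by
  let g := Spec.map (CommRingCat.ofHom (algebraMap R (Localization.Away f)))
  have hg : SmoothOfRelativeDimension m g := by
    rw [HasRingHomProperty.Spec_iff (P := @SmoothOfRelativeDimension m)]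
    exact RingHom.locally_of RingHom.isStandardSmoothOfRelativeDimension_respectsIso _
      ((RingHom.isStandardSmoothOfRelativeDimension_algebraMap m).mpr h)
  let j : Spec (CommRingCat.of (Localization.Away f)) ⟶ Spec (CommRingCat.of S) :=
    Spec.map (CommRingCat.ofHom (algebraMap S (Localization.Away f)))
  have hj : IsOpenImmersion j := IsOpenImmersion.of_isLocalization f
  have hr : (⟨q, hq⟩ : PrimeSpectrum S) ∈ Set.range j := by
    have h2 : Set.range j = (PrimeSpectrum.basicOpen f : Set (PrimeSpectrum S)) :=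
      PrimeSpectrum.localization_away_comap_range (Localization.Away f) f
    rw [h2]
    exact hf
  obtain ⟨y, hy⟩ := hr
  have w : j ≫ Spec.map (CommRingCat.ofHom (algebraMap R S)) = g ≫ 𝟙 _ := by
    rw [Category.comp_id, ← Spec.map_comp, ← CommRingCat.ofHom_comp, ← IsScalarTower.algebraMap_eq]
  have h1 := Dual.H316.FibDim.fibreDimAt_of_square _ g j (𝟙 _) w y
  rw [S2768.result m g y, hy, hd] at h1
  exact_mod_cast h1

end Dim

section Field

variable {k T : Type u} [Field k] [CommRing T] [Algebra k T] {n c : ℕ}

/-- The Jacobian criterion over a field. -/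
theorem exists_minor_field (π : MvPolynomial (Fin n) k →ₐ[k] T) (G : Fin c → MvPolynomial (Fin n) k)
    (hπ : Function.Surjective π) (hker : RingHom.ker π.toRingHom = Ideal.span (Set.range G)) (t : T) (m : ℕ)
    (hm : Algebra.IsStandardSmoothOfRelativeDimension m k (Localization.Away t)) (Q : Ideal T) [Q.IsPrime]
    (ht : t ∉ Q) (hn : n = m + c) :
    ∃ I : Fin c ↪ Fin n, π (Matrix.det (Matrix.of fun j i => MvPolynomial.pderiv (I i) (G j))) ∉ Q := by
  have ht' : algebraMap T Q.ResidueField t ≠ 0 := by
    rw [Ne, Ideal.algebraMap_residueField_eq_zero]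
    exact ht
  obtain ⟨β, hβ⟩ := Lefpen.H718.JacRank.exists_forms (F := Q.ResidueField) m _ ht' hm
  have hli := Lefpen.H718.JacRank.linearIndependent_rows (F := Q.ResidueField)
    G π hn.le hπ (fun x hx => by rw [← hker]; exact hx)
    (fun i => by
      have : G i ∈ RingHom.ker π.toRingHom := by
        rw [hker]
        exact Ideal.subset_span ⟨i, rfl⟩
      exact this) β hβ hn.ge
  obtain ⟨τ, hτ⟩ := Lefpen.H718.Minor.exists_minor _ hli
  have hinj : Function.Injective τ := by
    by_contra hinj
    apply hτ
    rw [Function.Injective] at hinj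
    push Not at hinj
    obtain ⟨a, b, hab, hne⟩ := hinj
    refine Matrix.det_zero_of_column_eq hne fun i => ?_
    simp [hab]
  refine ⟨⟨τ, hinj⟩, fun hdet => hτ ?_⟩
  rw [← Ideal.algebraMap_residueField_eq_zero] at hdet
  rw [← hdet, AlgHom.map_det, RingHom.map_det]
  rfl

end Field

section Main

variable {R : Type u} [CommRing R] {n c : ℕ} (F : Fin c → MvPolynomial (Fin n) R)

theorem fibPres_map (p : Ideal R) [p.IsPrime] (a : MvPolynomial (Fin n) R) :
    K562.Rel.fibPres F p (MvPolynomial.map (algebraMap R p.ResidueField) a) =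
      (1 : p.ResidueField) ⊗ₜ[R] (Ideal.Quotient.mk (Ideal.span (Set.range F)) a) := by
  change (K562.Rel.baseChangeEquiv F p.ResidueField).symm (Ideal.Quotient.mk _ _) = _
  rw [AlgEquiv.symm_apply_eq]
  exact (K562.Rel.baseChangeEquiv_tmul F p.ResidueField a).symm

theorem exists_minor_of_isSmoothAt (hF : Synt.IsRelGCI R n c F) (q : Ideal (Synt.RelGCIRing R n c F))
    [hq : q.IsPrime] [Algebra.IsSmoothAt R q] :
    ∃ I : Fin c ↪ Fin n, Ideal.Quotient.mk (Ideal.span (Set.range F))
        (Matrix.det (Matrix.of fun j i => MvPolynomial.pderiv (I i) (F j))) ∉ q := by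
  let S := Synt.RelGCIRing R n c F
  have hfp : Algebra.FinitePresentation R (Synt.RelGCIRing R n c F) := (HasPres.quotient F).finitePresentation
  obtain ⟨f, hf, hst⟩ := Algebra.IsSmoothAt.exists_notMem_isStandardSmooth R q
  obtain ⟨ι, σ, _, _, ⟨P⟩⟩ := hst
  have hm : Algebra.IsStandardSmoothOfRelativeDimension P.dimension R (Localization.Away f) :=
    P.isStandardSmoothOfRelativeDimension rfl
  have hmd : P.dimension = n - c := relDim_eq f q hf hm (K563.FibDim.fibreDimAt_relGCI F hF ⟨q, hq⟩)
  let p : Ideal R := q.comap (algebraMap R S)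
  obtain ⟨Q, hQ, hctr⟩ := Ega4C.FibreTower.exists_prime_fibre p q rfl
  have hmem : ∀ s : S, ((1 : p.ResidueField) ⊗ₜ[R] s : p.Fiber S) ∈ Q ↔ s ∈ q := by
    intro s
    have h1 : s ∈ Ega4C.FibreTower.ctr p Q ↔ s ∈ q := by rw [hctr]
    exact h1
  have hsm0 : Algebra.IsStandardSmoothOfRelativeDimension P.dimension p.ResidueField
      (p.Fiber (Localization.Away f)) := inferInstance
  have hsm : Algebra.IsStandardSmoothOfRelativeDimension P.dimension p.ResidueField
      (Localization.Away ((1 : p.ResidueField) ⊗ₜ[R] f : p.Fiber S)) :=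
    Algebra.IsStandardSmoothOfRelativeDimension.of_algEquiv _ (K562.Rel.fiberAway p f)
  have hnt : Nontrivial (p.Fiber S) :=
    ⟨⟨0, 1, fun h0 => hQ.ne_top ((Ideal.eq_top_iff_one _).mpr (h0 ▸ zero_mem _))⟩⟩
  have hcn : c ≤ n := (hF ⟨p, inferInstance⟩ hnt).1
  obtain ⟨I, hI⟩ := exists_minor_field (K562.Rel.fibPres F p) (K562.Rel.mapRel F p.ResidueField)
    (K562.Rel.fibPres_surjective F p) (K562.Rel.ker_fibPres F p) _ P.dimension hsm Q
    (by rw [hmem]; exact hf) (by omega)
  refine ⟨I, fun hdet => hI ?_⟩
  rw [← hmem, ← fibPres_map] at hdet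
  convert hdet using 2
  rw [RingHom.map_det]
  congr 1
  refine Matrix.ext fun i l => ?_
  change pderiv (I l) (MvPolynomial.map (algebraMap R p.ResidueField) (F i)) =
    MvPolynomial.map (algebraMap R p.ResidueField) (pderiv (I l) (F i))
  rw [MvPolynomial.pderiv_map]

end Main

end K563.Jac
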