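import Groth.Agent.Synt.K563.SchDict2
import Groth.Agent.Synt.K563.SynNhd
import Groth.Agent.Dual.H316.FibDim

/-!
# Syntomic morphisms near a point: relative global complete intersection charts
-/

set_option autoImplicit false

universe u

open AlgebraicGeometry CategoryTheory K563.SchDict K563.SchDict2 TopologicalSpace

namespace K563.SchNhd

/-- Composition with an open immersion on the source side. -/
theorem isSyntomicMor_openImmersion_comp {U X S : Scheme.{u}} (j : U ⟶ X) [IsOpenImmersion j] (f : X ⟶ S)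
    (hf : Synt.IsSyntomicMor f) : Synt.IsSyntomicMor (j ≫ f) := by
  rw [isSyntomicMor_iff] at hf ⊢
  obtain ⟨h1, h2, h3⟩ := hf
  exact ⟨inferInstance, inferInstance, fun u => (isCI_fiberStalk_openImmersion_iff j f u).mpr (h3 _)⟩

theorem isSyntomicMor_spec_iff (R A : Type u) [CommRing R] [CommRing A] [Algebra R A] :
    Synt.IsSyntomicMor (Spec.map (CommRingCat.ofHom (algebraMap R A))) ↔ Synt.IsSyntomic R A := by
  rw [isSyntomic_iff_isCIMorphism, isSyntomicMor_iff]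

theorem isSyntomicMor_of_chart {X S : Scheme.{u}} (f : X ⟶ S) (U : X.affineOpens) (V : S.affineOpens)
    (e : U.1 ≤ f ⁻¹ᵁ V.1)
    (h : letI := (f.appLE V.1 U.1 e).hom.toAlgebra
      Synt.IsSyntomic Γ(S, V.1) Γ(X, U.1)) : Synt.IsSyntomicMor (U.1.ι ≫ f) := by
  have h1 : Synt.IsSyntomicMor (Spec.map (f.appLE V.1 U.1 e)) := by
    let _ := (f.appLE V.1 U.1 e).hom.toAlgebra
    exact (isSyntomicMor_spec_iff Γ(S, V.1) Γ(X, U.1)).mpr h
  have h2 := isSyntomicMor_openImmersion_comp U.2.isoSpec.hom _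
    (isSyntomicMor_comp_openImmersion _ V.2.fromSpec h1)
  rwa [IsAffineOpen.SpecMap_appLE_fromSpec f V.2 U.2 e, ← Category.assoc,
    IsAffineOpen.isoSpec_hom_fromSpec] at h2

/-- Being syntomic at a point descends along open immersions of the source. -/
theorem isSyntomicAt_of_openImmersion_comp {U X S : Scheme.{u}} (j : U ⟶ X) [IsOpenImmersion j] (f : X ⟶ S)
    (u : U) (h : Synt.IsSyntomicAt (j ≫ f) u) : Synt.IsSyntomicAt f (j u) := by
  obtain ⟨W, V, e, hu, h⟩ := h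
  have e' : j ''ᵁ W.1 ≤ f ⁻¹ᵁ V.1 := by
    rintro _ ⟨w, hw, rfl⟩
    exact e hw
  refine ⟨⟨j ''ᵁ W.1, W.2.image_of_isOpenImmersion j⟩, V, e', ⟨u, hu, rfl⟩, ?_⟩
  have h1 : f.appLE V.1 (j ''ᵁ W.1) e' = (j ≫ f).appLE V.1 W.1 e ≫ (j.appIso W.1).inv := by
    rw [Iso.eq_comp_inv, Scheme.Hom.appIso_hom', Scheme.Hom.appLE_comp_appLE]
  have h2 : Synt.IsSyntomicMor (Spec.map ((j ≫ f).appLE V.1 W.1 e)) := by
    let _ := ((j ≫ f).appLE V.1 W.1 e).hom.toAlgebra
    exact (isSyntomicMor_spec_iff Γ(S, V.1) Γ(U, W.1)).mpr h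
  have h3 : Synt.IsSyntomicMor (Spec.map (f.appLE V.1 (j ''ᵁ W.1) e')) := by
    rw [h1, Spec.map_comp]
    exact isSyntomicMor_openImmersion_comp _ _ h2
  let _ := (f.appLE V.1 (j ''ᵁ W.1) e').hom.toAlgebra
  exact (isSyntomicMor_spec_iff Γ(S, V.1) Γ(X, j ''ᵁ W.1)).mp h3

/-- Relative global complete intersection charts inside a syntomic affine chart. -/
theorem exists_relGCI_chart_of_spec {X S : Scheme.{u}} (f : X ⟶ S) {R A : Type u} [CommRing R] [CommRing A]
    [Algebra R A] (k : Spec (CommRingCat.of A) ⟶ X) [IsOpenImmersion k] (i : Spec (CommRingCat.of R) ⟶ S)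
    (w : k ≫ f = Spec.map (CommRingCat.ofHom (algebraMap R A)) ≫ i) (hA : Synt.IsSyntomic R A)
    (q : PrimeSpectrum A) :
    ∃ (n c : ℕ) (F : Fin c → MvPolynomial (Fin n) R)
      (j : Spec (CommRingCat.of (Synt.RelGCIRing R n c F)) ⟶ X), c ≤ n ∧
      Synt.IsRelGCI R n c F ∧ IsOpenImmersion j ∧ k q ∈ Set.range j ∧
      j ≫ f = Spec.map (CommRingCat.ofHom (algebraMap R (Synt.RelGCIRing R n c F))) ≫ i := by
  have hq : q.asIdeal.IsPrime := q.2
  obtain ⟨a, ha, n, c, F, hcn, hF, ⟨e⟩⟩ := K563.SynNhd.exists_relGCI_of_isSyntomic hA q.asIdeal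
  let ι₁ : Spec (CommRingCat.of (Localization.Away a)) ⟶ Spec (CommRingCat.of A) :=
    Spec.map (CommRingCat.ofHom (algebraMap A (Localization.Away a)))
  have hι₁ : IsOpenImmersion ι₁ := by
    exact IsOpenImmersion.of_isLocalization a
  let ε : Spec (CommRingCat.of (Synt.RelGCIRing R n c F)) ⟶ Spec (CommRingCat.of (Localization.Away a)) :=
    Spec.map (CommRingCat.ofHom (e : Localization.Away a →+* Synt.RelGCIRing R n c F))
  have hε : IsIso ε := by
    have : IsIso (CommRingCat.ofHom (e : Localization.Away a →+* Synt.RelGCIRing R n c F)) :=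
      (RingEquiv.toCommRingCatIso e.toRingEquiv).isIso_hom
    infer_instance
  refine ⟨n, c, F, ε ≫ ι₁ ≫ k, hcn, hF, inferInstance, ?_, ?_⟩
  · have h1 : q ∈ Set.range ι₁ := by
      have h2 : Set.range ι₁ = (PrimeSpectrum.basicOpen a : Set (PrimeSpectrum A)) :=
        PrimeSpectrum.localization_away_comap_range (Localization.Away a) a
      rw [h2]
      exact ha
    obtain ⟨q₁, hq₁⟩ := h1
    obtain ⟨q₂, hq₂⟩ := (inferInstance : Surjective ε).surj q₁
    exact ⟨q₂, by rw [← hq₁, ← hq₂]; simp⟩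
  · have h3 : (CommRingCat.ofHom (algebraMap R (Synt.RelGCIRing R n c F))) =
        CommRingCat.ofHom (algebraMap R A) ≫ CommRingCat.ofHom (algebraMap A (Localization.Away a)) ≫
          CommRingCat.ofHom (e : Localization.Away a →+* Synt.RelGCIRing R n c F) := by
      ext r
      exact (e.commutes r).symm
    simp only [Category.assoc]
    rw [w, h3, Spec.map_comp, Spec.map_comp, Category.assoc, Category.assoc]

theorem exists_relGCI_chart_of_spec' {X S : Scheme.{u}} (f : X ⟶ S) {R A : CommRingCat.{u}} (φ : R ⟶ A)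
    (k : Spec A ⟶ X) [IsOpenImmersion k] (i : Spec R ⟶ S) (w : k ≫ f = Spec.map φ ≫ i)
    (hA : letI := φ.hom.toAlgebra
      Synt.IsSyntomic R A) (q : Spec A) (x : X) (hx : k q = x) :
    ∃ (n c : ℕ) (F : Fin c → MvPolynomial (Fin n) R)
      (j : Spec (CommRingCat.of (Synt.RelGCIRing R n c F)) ⟶ X), c ≤ n ∧
      Synt.IsRelGCI R n c F ∧ IsOpenImmersion j ∧ x ∈ Set.range j ∧
      j ≫ f = Spec.map (CommRingCat.ofHom (algebraMap R (Synt.RelGCIRing R n c F))) ≫ i := by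
  subst hx
  let _ := φ.hom.toAlgebra
  exact exists_relGCI_chart_of_spec f (R := R) (A := A) k i w hA q

/-- Near a point at which it is syntomic, a morphism is a relative global complete intersection over any given affine
open of the base. -/
theorem exists_relGCI_chart {X S : Scheme.{u}} (f : X ⟶ S) (x : X) (V : S.affineOpens)
    (hV : f.base x ∈ V.1) (h : Synt.IsSyntomicAt f x) :
    ∃ (n c : ℕ) (F : Fin c → MvPolynomial (Fin n) Γ(S, V.1))
      (j : Spec (CommRingCat.of (Synt.RelGCIRing Γ(S, V.1) n c F)) ⟶ X), c ≤ n ∧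
      Synt.IsRelGCI Γ(S, V.1) n c F ∧ IsOpenImmersion j ∧ x ∈ Set.range j ∧
      j ≫ f = Spec.map (CommRingCat.ofHom (algebraMap Γ(S, V.1) (Synt.RelGCIRing Γ(S, V.1) n c F))) ≫
        V.2.fromSpec := by
  obtain ⟨U₀, V₀, e₀, hx₀, h₀⟩ := h
  have hs := isSyntomicMor_of_chart f U₀ V₀ e₀ h₀
  let U : Scheme.{u} := U₀.1
  let ι : U ⟶ X := U₀.1.ι
  let x' : U := ⟨x, hx₀⟩
  have hx' : ι x' = x := rfl
  obtain ⟨W, hW, hxW, hWV⟩ := exists_isAffineOpen_mem_and_subset (X := U) (x := x')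
    (U := (ι ≫ f) ⁻¹ᵁ V.1) hV
  have hW2 := isSyntomic_appLE_of_isSyntomicMor (ι ≫ f) hs ⟨W, hW⟩ V hWV
  have h1 := IsAffineOpen.SpecMap_appLE_fromSpec (ι ≫ f) V.2 hW hWV
  exact exists_relGCI_chart_of_spec' f ((ι ≫ f).appLE V.1 W hWV) (hW.fromSpec ≫ ι)
    V.2.fromSpec (by rw [Category.assoc]; exact h1.symm) hW2 (hW.primeIdealOf ⟨x', hxW⟩) x
    (by rw [Scheme.Hom.comp_apply, hW.fromSpec_primeIdealOf]; rfl)

/-- The dimension of the fibre is locally constant. -/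
theorem exists_fibreDimAt_eq {X S : Scheme.{u}} (f : X ⟶ S) (x : X) (h : Synt.IsSyntomicAt f x) :
    ∃ (U : X.Opens) (d : ℕ), x ∈ U ∧ ∀ y ∈ U, FlatMor.fibreDimAt f y = d := by
  obtain ⟨V, hV, hxV, -⟩ := exists_isAffineOpen_mem_and_subset (X := S) (x := f.base x) (U := ⊤) trivial
  obtain ⟨n, c, F, j, hcn, hF, hj, hx, w⟩ := exists_relGCI_chart f x ⟨V, hV⟩ hxV h
  refine ⟨j.opensRange, n - c, hx, ?_⟩
  rintro _ ⟨y, rfl⟩
  rw [← Groth.Agent.Dual.H316.FibDim.fibreDimAt_of_square f _ j hV.fromSpec w y]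
  exact K563.FibDim.fibreDimAt_relGCI F hF y

theorem isStandardSyntomic_resLE {X S : Scheme.{u}} (f : X ⟶ S) (V : S.affineOpens) {n c : ℕ}
    (F : Fin c → MvPolynomial (Fin n) Γ(S, V.1)) (hF : Synt.IsRelGCI Γ(S, V.1) n c F)
    (j : Spec (CommRingCat.of (Synt.RelGCIRing Γ(S, V.1) n c F)) ⟶ X) [IsOpenImmersion j]
    (w : j ≫ f = Spec.map (CommRingCat.ofHom (algebraMap Γ(S, V.1) (Synt.RelGCIRing Γ(S, V.1) n c F))) ≫
        V.2.fromSpec) (e : j.opensRange ≤ f ⁻¹ᵁ V.1) :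
    Synt.IsStandardSyntomic (f.resLE V.1 j.opensRange e) := by
  have hr : Set.range j.opensRange.ι = Set.range j := by
    rw [Scheme.Opens.range_ι]
    rfl
  refine ⟨Γ(S, V.1), inferInstance, n, c, F, hF, IsOpenImmersion.isoOfRangeEq j.opensRange.ι j hr,
    V.2.isoSpec, ?_⟩
  rw [← cancel_mono V.2.fromSpec, Category.assoc, ← w, ← Category.assoc,
    IsOpenImmersion.isoOfRangeEq_hom_fac, Category.assoc, IsAffineOpen.isoSpec_hom_fromSpec,
    Scheme.Hom.resLE_comp_ι]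

theorem isSyntomicMor_of_isStandardSyntomic {X S : Scheme.{u}} (f : X ⟶ S)
    (h : Synt.IsStandardSyntomic f) : Synt.IsSyntomicMor f := by
  obtain ⟨R, _, n, c, F, hF, e₁, e₂, w⟩ := h
  have h1 := (isSyntomicMor_spec_iff R (Synt.RelGCIRing R n c F)).mpr (Groth.Agent.S9147.result R n c F hF)
  have h2 := isSyntomicMor_comp_openImmersion _ e₂.inv (isSyntomicMor_openImmersion_comp e₁.hom _ h1)
  rwa [w, Category.assoc, Iso.hom_inv_id, Category.comp_id] at h2

theorem isSyntomicAt_iff {X S : Scheme.{u}} (f : X ⟶ S) (x : X) (V : S.affineOpens)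
    (hV : f.base x ∈ V.1) :
    Synt.IsSyntomicAt f x ↔
      ∃ (U : X.affineOpens) (e : U.1 ≤ f ⁻¹ᵁ V.1), x ∈ U.1 ∧ Synt.IsStandardSyntomic (f.resLE V.1 U.1 e) := by
  constructor
  · intro h
    obtain ⟨n, c, F, j, -, hF, hj, hx, w⟩ := exists_relGCI_chart f x V hV h
    have e : j.opensRange ≤ f ⁻¹ᵁ V.1 := by
      rintro _ ⟨y, rfl⟩
      change f (j y) ∈ V.1
      rw [← Scheme.Hom.comp_apply, w, Scheme.Hom.comp_apply]
      have h1 : V.2.fromSpec.opensRange = V.1 := IsAffineOpen.opensRange_fromSpec V.2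
      exact h1.le ⟨_, rfl⟩
    exact ⟨⟨j.opensRange, isAffineOpen_opensRange j⟩, e, hx, isStandardSyntomic_resLE f V F hF j w e⟩
  · rintro ⟨U, e, hx, h⟩
    have h1 := isSyntomicMor_comp_openImmersion _ V.1.ι (isSyntomicMor_of_isStandardSyntomic _ h)
    rw [Scheme.Hom.resLE_comp_ι] at h1
    exact isSyntomicAt_of_openImmersion_comp U.1.ι f ⟨x, hx⟩ (h1 _)

end K563.SchNhd
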