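import Groth.Agent.Synt.K563.Syn
import Groth.Agent.Ega4dB.CIFibre
import Mathlib.AlgebraicGeometry.Morphisms.FinitePresentation
import Mathlib.AlgebraicGeometry.Morphisms.Flat
import Mathlib.AlgebraicGeometry.Fiber

/-!
# Syntomic morphisms and `CInt.IsCIMorphism`

* `isSyntomic_iff_isCIMorphism`: for rings;
* `isCIMorphism_of_isPullback_mono`, `isCIMorphism_iff_of_isoSpec`: invariance under open immersions in the target
  and isomorphisms;
* `isSyntomic_appLE_iff`: on affine opens;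
* `isSyntomicMor_iff_isCIMorphism`: the dictionary.
-/

set_option autoImplicit false

universe u

open CategoryTheory CategoryTheory.Limits AlgebraicGeometry TopologicalSpace

namespace K563.SchDict

open Groth.Agent.Ega4dB.CIFibre Groth.Agent.Ega4dB.CIFieldExt

/-- Fibre stalks of a morphism of affine schemes. -/
theorem forall_isCI_fiberStalk_spec_iff (R S : Type u) [CommRing R] [CommRing S] [Algebra R S] :
    (∀ x : ↥(Spec (CommRingCat.of S)), Pi1.IsCompleteIntersection
      (CInt.fiberStalk (Spec.map (CommRingCat.ofHom (algebraMap R S))) x)) ↔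
    ∀ (p : Ideal R) [p.IsPrime] (q : Ideal (p.Fiber S)) [q.IsPrime],
      Pi1.IsCompleteIntersection (Localization.AtPrime q) := by
  let f := Spec.map (CommRingCat.ofHom (algebraMap R S))
  have h1 : (∀ x : ↥(Spec (CommRingCat.of S)), Pi1.IsCompleteIntersection (CInt.fiberStalk f x)) ↔
      ∀ (s : ↥(Spec (CommRingCat.of R))) (y : f.fiber s),
        Pi1.IsCompleteIntersection ((f.fiber s).presheaf.stalk y) := by
    constructor
    · intro h s y
      exact (isCI_fiber_iff f s y _ rfl).mpr (h _)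
    · intro h x
      exact h (f.base x) (f.asFiber x)
  have h2 : ∀ (s : ↥(Spec (CommRingCat.of R))),
      (∀ y : f.fiber s, Pi1.IsCompleteIntersection ((f.fiber s).presheaf.stalk y)) ↔
        ∀ (q : Ideal (s.asIdeal.Fiber S)) [q.IsPrime],
          Pi1.IsCompleteIntersection (Localization.AtPrime q) := by
    intro s
    let E := Spec.fiberToSpecResidueFieldIso R S s
    let e : f.fiber s ≅ Spec (CommRingCat.of (s.asIdeal.Fiber S)) := Arrow.leftFunc.mapIso E
    constructor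
    · intro h q hq
      let z : ↥(Spec (CommRingCat.of (s.asIdeal.Fiber S))) := ⟨q, hq⟩
      rw [← isCI_stalk_Spec_iff z q rfl, ← isCI_congr (show e.hom (e.inv z) = z by
        rw [← Scheme.Hom.comp_apply, e.inv_hom_id]; rfl), isCI_iff_of_isIso_stalkMap e.hom]
      exact h _
    · intro h y
      rw [← isCI_iff_of_isIso_stalkMap e.hom y]
      have : (e.hom y).asIdeal.IsPrime := (e.hom y).isPrime
      exact (isCI_stalk_Spec_iff (e.hom y) (e.hom y).asIdeal rfl).mpr (h _)
  exact h1.trans (forall_congr' h2 |>.trans ⟨fun h p hp => h ⟨p, hp⟩, fun h s => h s.asIdeal⟩)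

/-- The dictionary for ring maps. -/
theorem isSyntomic_iff_isCIMorphism (R S : Type u) [CommRing R] [CommRing S] [Algebra R S] :
    Synt.IsSyntomic R S ↔
      CInt.IsCIMorphism (Spec.map (CommRingCat.ofHom (algebraMap R S))) := by
  rw [K563.Syn.isSyntomic_iff, CInt.IsCIMorphism, forall_isCI_fiberStalk_spec_iff,
    HasRingHomProperty.Spec_iff (P := @Flat), HasRingHomProperty.Spec_iff (P := @LocallyOfFinitePresentation)]
  exact and_congr RingHom.flat_algebraMap_iff.symm
    (and_congr_left fun _ => RingHom.finitePresentation_algebraMap.symm)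

/-- Fibre stalks and composition with a monomorphism on the target side. -/
theorem isCI_fiberStalk_comp_mono_iff {X Y Z : Scheme.{u}} (f : X ⟶ Y) (j : Y ⟶ Z) [Mono j]
    [LocallyOfFiniteType (f ≫ j)] (x : X) :
    Pi1.IsCompleteIntersection (CInt.fiberStalk (f ≫ j) x) ↔
      Pi1.IsCompleteIntersection (CInt.fiberStalk f x) := by
  have h : IsPullback (𝟙 X) f (f ≫ j) j := by
    have h1 : IsPullback (𝟙 X) f f (𝟙 Y) := IsPullback.of_horiz_isIso ⟨by simp⟩
    have h2 : IsPullback (𝟙 Y) (𝟙 Y) j j := IsKernelPair.id_of_mono j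
    simpa using h1.paste_vert h2
  exact isCI_fiberStalk_iff_of_isPullback h x

/-- Fibre stalks and isomorphisms of arrows. -/
theorem isCI_fiberStalk_iff_of_iso {X Y X' Y' : Scheme.{u}} (f : X ⟶ Y) (f' : X' ⟶ Y') (a : X ⟶ X')
    (b : Y ⟶ Y') [IsIso a] [IsIso b] (w : a ≫ f' = f ≫ b) [LocallyOfFiniteType f'] (x : X) :
    Pi1.IsCompleteIntersection (CInt.fiberStalk f' (a x)) ↔
      Pi1.IsCompleteIntersection (CInt.fiberStalk f x) :=
  isCI_fiberStalk_iff_of_isPullback (IsPullback.of_horiz_isIso ⟨w⟩) x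

/-- Fibre stalks and open immersions on the source side. -/
theorem isCI_fiberStalk_openImmersion_iff {U X S : Scheme.{u}} (j : U ⟶ X) [IsOpenImmersion j]
    (f : X ⟶ S) (u : U) :
    Pi1.IsCompleteIntersection (CInt.fiberStalk (j ≫ f) u) ↔
      Pi1.IsCompleteIntersection (CInt.fiberStalk f (j u)) := by
  let g : (j ≫ f).fiber ((j ≫ f).base u) ⟶ f.fiber ((j ≫ f).base u) :=
    CInt.fiberMap j f ((j ≫ f).base u)
  have hg : IsOpenImmersion g := by
    dsimp only [g, CInt.fiberMap]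
    exact Scheme.pullback_map_isOpenImmersion _ _ _ _ _ _ _ _ _
  have hι : g ≫ f.fiberι ((j ≫ f).base u) = (j ≫ f).fiberι ((j ≫ f).base u) ≫ j :=
    pullback.lift_fst _ _ _
  rw [← isCI_fiber_iff f ((j ≫ f).base u) (g ((j ≫ f).asFiber u)) (j u) (by
    rw [← Scheme.Hom.comp_apply, hι, Scheme.Hom.comp_apply, Scheme.Hom.fiberι_asFiber])]
  exact (isCI_iff_of_isIso_stalkMap g ((j ≫ f).asFiber u)).symm

/-- Fibre stalks on affine opens. -/
theorem isCI_fiberStalk_affine_iff {X S : Scheme.{u}} (f : X ⟶ S) [LocallyOfFiniteType f]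
    (U : X.affineOpens) (V : S.affineOpens) (e : U.1 ≤ f ⁻¹ᵁ V.1) (u : U.1) :
    Pi1.IsCompleteIntersection (CInt.fiberStalk f (U.1.ι u)) ↔
      Pi1.IsCompleteIntersection (CInt.fiberStalk (Spec.map (f.appLE V.1 U.1 e)) (U.1.toSpecΓ u)) := by
  have : IsAffine U.1 := U.2
  have : IsAffine V.1 := V.2
  have h1 : LocallyOfFiniteType (Spec.map (f.appLE V.1 U.1 e)) := by
    rw [HasRingHomProperty.Spec_iff (P := @LocallyOfFiniteType)]
    exact HasRingHomProperty.appLE (P := @LocallyOfFiniteType) f inferInstance V U e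
  have h2 : IsIso (U.1.toSpecΓ) := by change IsIso U.2.isoSpec.hom; infer_instance
  have h3 : IsIso (V.1.toSpecΓ) := by change IsIso V.2.isoSpec.hom; infer_instance
  rw [← isCI_fiberStalk_openImmersion_iff U.1.ι f u]
  have h4 : f.resLE V.1 U.1 e ≫ V.1.ι = U.1.ι ≫ f := Scheme.Hom.resLE_comp_ι f e
  have h5 : Pi1.IsCompleteIntersection (CInt.fiberStalk (U.1.ι ≫ f) u) ↔
      Pi1.IsCompleteIntersection (CInt.fiberStalk (f.resLE V.1 U.1 e) u) := by
    have : LocallyOfFiniteType (f.resLE V.1 U.1 e ≫ V.1.ι) := by rw [h4]; infer_instance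
    have h6 := isCI_fiberStalk_comp_mono_iff (f.resLE V.1 U.1 e) V.1.ι u
    rw [h4] at h6
    exact h6
  rw [h5]
  exact (isCI_fiberStalk_iff_of_iso (f.resLE V.1 U.1 e) (Spec.map (f.appLE V.1 U.1 e)) U.1.toSpecΓ
    V.1.toSpecΓ (Scheme.Opens.toSpecΓ_SpecMap_appLE f V.1 U.1 e) u).symm

/-- Syntomic ring maps between affine opens. -/
theorem isSyntomic_appLE_iff {X S : Scheme.{u}} (f : X ⟶ S) [LocallyOfFinitePresentation f]
    (U : X.affineOpens) (V : S.affineOpens) (e : U.1 ≤ f ⁻¹ᵁ V.1) :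
    (letI := (f.appLE V.1 U.1 e).hom.toAlgebra
     Synt.IsSyntomic Γ(S, V.1) Γ(X, U.1)) ↔
      (f.appLE V.1 U.1 e).hom.Flat ∧
        ∀ u : U.1, Pi1.IsCompleteIntersection (CInt.fiberStalk f (U.1.ι u)) := by
  let _ := (f.appLE V.1 U.1 e).hom.toAlgebra
  have h0 : CommRingCat.ofHom (algebraMap Γ(S, V.1) Γ(X, U.1)) = f.appLE V.1 U.1 e := rfl
  rw [isSyntomic_iff_isCIMorphism, h0, CInt.IsCIMorphism,
    HasRingHomProperty.Spec_iff (P := @Flat),
    HasRingHomProperty.Spec_iff (P := @LocallyOfFinitePresentation)]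
  have hU : IsIso (U.1.toSpecΓ) := by change IsIso U.2.isoSpec.hom; infer_instance
  constructor
  · rintro ⟨h1, h2, h3⟩
    exact ⟨h1, fun u => (isCI_fiberStalk_affine_iff f U V e u).mpr (h3 _)⟩
  · rintro ⟨h1, h2⟩
    refine ⟨h1, HasRingHomProperty.appLE (P := @LocallyOfFinitePresentation) f inferInstance V U e,
      fun x => ?_⟩
    obtain ⟨u, rfl⟩ : ∃ u, U.1.toSpecΓ u = x :=
      ⟨inv U.1.toSpecΓ x, by rw [← Scheme.Hom.comp_apply, IsIso.inv_hom_id]; rfl⟩
    exact (isCI_fiberStalk_affine_iff f U V e u).mp (h2 u)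

theorem flat_and_lfp_of_isSyntomicMor {X S : Scheme.{u}} (f : X ⟶ S) (hf : Synt.IsSyntomicMor f) :
    Flat f ∧ LocallyOfFinitePresentation f := by
  constructor
  · rw [HasRingHomProperty.iff_exists_appLE (P := @Flat)
      (RingHom.Flat.stableUnderComposition.stableUnderCompositionWithLocalizationAway
        RingHom.Flat.holdsForLocalizationAway).1]
    intro x
    obtain ⟨U, V, e, hx, h⟩ := hf x
    exact ⟨V, U, hx, e, h.1⟩
  · rw [HasRingHomProperty.iff_exists_appLE (P := @LocallyOfFinitePresentation)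
      (RingHom.finitePresentation_stableUnderComposition.stableUnderCompositionWithLocalizationAway
        RingHom.finitePresentation_holdsForLocalizationAway).1]
    intro x
    obtain ⟨U, V, e, hx, h⟩ := hf x
    exact ⟨V, U, hx, e, h.2.1⟩

/-- The dictionary between syntomic morphisms and `CInt.IsCIMorphism`. -/
theorem isSyntomicMor_iff {X S : Scheme.{u}} (f : X ⟶ S) :
    Synt.IsSyntomicMor f ↔ CInt.IsCIMorphism f := by
  constructor
  · intro hf
    obtain ⟨h1, h2⟩ := flat_and_lfp_of_isSyntomicMor f hf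
    refine ⟨h1, h2, fun x => ?_⟩
    obtain ⟨U, V, e, hx, h⟩ := hf x
    exact ((isSyntomic_appLE_iff f U V e).mp h).2 ⟨x, hx⟩
  · rintro ⟨h1, h2, h3⟩ x
    obtain ⟨V, hV, hxV, -⟩ := exists_isAffineOpen_mem_and_subset (X := S) (x := f.base x)
      (U := ⊤) trivial
    obtain ⟨U, hU, hxU, hUV⟩ := exists_isAffineOpen_mem_and_subset (X := X) (x := x)
      (U := f ⁻¹ᵁ V) hxV
    refine ⟨⟨U, hU⟩, ⟨V, hV⟩, hUV, hxU, ?_⟩
    exact (isSyntomic_appLE_iff f ⟨U, hU⟩ ⟨V, hV⟩ hUV).mpr
      ⟨HasRingHomProperty.appLE (P := @Flat) f h1 ⟨V, hV⟩ ⟨U, hU⟩ hUV, fun u => h3 _⟩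

/-- All pairs of affine opens. -/
theorem isSyntomic_appLE_of_isSyntomicMor {X S : Scheme.{u}} (f : X ⟶ S) (hf : Synt.IsSyntomicMor f)
    (U : X.affineOpens) (V : S.affineOpens) (e : U.1 ≤ f ⁻¹ᵁ V.1) :
    letI := (f.appLE V.1 U.1 e).hom.toAlgebra
    Synt.IsSyntomic Γ(S, V.1) Γ(X, U.1) := by
  obtain ⟨h1, h2, h3⟩ := (isSyntomicMor_iff f).mp hf
  exact (isSyntomic_appLE_iff f U V e).mpr
    ⟨HasRingHomProperty.appLE (P := @Flat) f h1 V U e, fun u => h3 _⟩

end K563.SchDict
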