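import Groth.Agent.Synt.K563.GCI2
import Groth.Agent.S2842
import Groth.Agent.VarietyA.RegSmooth

/-!
# Smooth algebras over a field are local complete intersections
-/

set_option autoImplicit false

universe u

namespace K563.Smooth

/-- The local rings of a smooth algebra over a field are complete intersections. -/
theorem isCI_atPrime {k : Type u} [Field k] {S : Type u} [CommRing S] [Algebra k S]
    [Algebra.Smooth k S] (q : Ideal S) [q.IsPrime] :
    Pi1.IsCompleteIntersection (Localization.AtPrime q) := by
  have : Algebra.IsSmoothAt k q := by
    have := Algebra.FormallySmooth.comp k S (Localization.AtPrime q)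
    exact this
  have := Groth.Agent.VarietyA.RegSmooth.isRegularLocalRing_of_isSmoothAt (R := k) q
  exact Groth.Agent.S2842.isCompleteIntersection_of_isRegularLocalRing _

theorem isLCIOver_of_smooth {k : Type u} [Field k] {S : Type u} [CommRing S] [Algebra k S]
    [Algebra.Smooth k S] : Synt.IsLCIOver k S :=
  K563.GCI2.isLCIOver_iff.mpr ⟨inferInstance, fun q _ => isCI_atPrime (k := k) q⟩

end K563.Smooth
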