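import Groth.Agent.Synt.K563.SchDict
import Groth.Agent.Synt.K563.Smooth
import Groth.Agent.VarietyA.RegSmoothSch

/-!
# Syntomic morphisms: more dictionary

* `isCI_fiberStalk_over_field_iff`: over a field the fibre stalks are the stalks;
* `isSyntomicMor_over_field_iff`;
* `isSyntomicMor_of_fibres`: flat, locally of finite presentation with syntomic fibres;
* composition, base change, open immersions, smooth morphisms.
-/

set_option autoImplicit false

universe u

open CategoryTheory CategoryTheory.Limits AlgebraicGeometry TopologicalSpace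

namespace K563.SchDict2

open Groth.Agent.Ega4dB.CIFibre Groth.Agent.Ega4dB.CIFieldExt K563.SchDict

theorem isIso_fromSpecResidueField (k : Type u) [Field k] (y : ↥(Spec (CommRingCat.of k))) :
    IsIso ((Spec (CommRingCat.of k)).fromSpecResidueField y) := by
  have hs : Subsingleton (Spec (CommRingCat.of k)) :=
    inferInstanceAs (Subsingleton (PrimeSpectrum k))
  have h1 : IsClosedImmersion ((Spec (CommRingCat.of k)).fromSpecResidueField y) := by
    rw [← isClosed_singleton_iff_isClosedImmersion]
    have : ({y} : Set (Spec (CommRingCat.of k))) = Set.univ :=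
      Set.eq_univ_of_forall fun z => Subsingleton.elim _ _
    rw [this]
    exact isClosed_univ
  have h2 : Surjective ((Spec (CommRingCat.of k)).fromSpecResidueField y) := by
    constructor
    intro z
    exact ⟨IsLocalRing.closedPoint _, Subsingleton.elim _ _⟩
  have h3 : IsReduced (Spec (CommRingCat.of k)) := inferInstance
  exact isIso_of_isClosedImmersion_of_surjective _

theorem isCI_fiberStalk_over_field_iff {k : Type u} [Field k] {X : Scheme.{u}}
    (f : X ⟶ Spec (CommRingCat.of k)) (x : X) :
    Pi1.IsCompleteIntersection (CInt.fiberStalk f x) ↔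
      Pi1.IsCompleteIntersection (X.presheaf.stalk x) := by
  have h1 := isIso_fromSpecResidueField k (f.base x)
  have h2 : IsIso (f.fiberι (f.base x)) := by
    dsimp only [Scheme.Hom.fiberι]
    exact MorphismProperty.pullback_fst (P := MorphismProperty.isomorphisms Scheme.{u}) f _ h1
  rw [← isCI_iff_of_isIso_stalkMap (f.fiberι (f.base x)) (f.asFiber x)]
  exact isCI_congr (f.fiberι_asFiber x)

theorem isSyntomicMor_over_field_iff {k : Type u} [Field k] {X : Scheme.{u}}
    (f : X ⟶ Spec (CommRingCat.of k)) [LocallyOfFiniteType f] :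
    Synt.IsSyntomicMor f ↔ ∀ x : X, Pi1.IsCompleteIntersection (X.presheaf.stalk x) := by
  rw [isSyntomicMor_iff]
  constructor
  · rintro ⟨-, -, h⟩ x
    exact (isCI_fiberStalk_over_field_iff f x).mp (h x)
  · intro h
    exact ⟨inferInstance, inferInstance, fun x => (isCI_fiberStalk_over_field_iff f x).mpr (h x)⟩

/-- Flat, locally of finite presentation, with syntomic fibres. -/
theorem isSyntomicMor_of_fibres {X S : Scheme.{u}} (f : X ⟶ S) [Flat f]
    [LocallyOfFinitePresentation f]
    (hfib : ∀ s : S, Synt.IsSyntomicMor (f.fiberToSpecResidueField s)) : Synt.IsSyntomicMor f := by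
  rw [isSyntomicMor_iff]
  refine ⟨inferInstance, inferInstance, fun x => ?_⟩
  have h := hfib (f.base x)
  exact (isSyntomicMor_over_field_iff (k := S.residueField (f.base x))
    (f.fiberToSpecResidueField (f.base x))).mp h (f.asFiber x)

/-- Smooth morphisms are syntomic. -/
theorem isSyntomicMor_of_smooth {X S : Scheme.{u}} (f : X ⟶ S) [Smooth f] :
    Synt.IsSyntomicMor f := by
  refine isSyntomicMor_of_fibres f fun s => ?_
  have h1 : Smooth (f.fiberToSpecResidueField s) := MorphismProperty.pullback_snd _ _ inferInstance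
  refine (isSyntomicMor_over_field_iff (k := S.residueField s) (f.fiberToSpecResidueField s)).mpr
    fun x => ?_
  have h2 : IsRegularLocalRing ((f.fiber s).presheaf.stalk x) := by
    apply Groth.Agent.VarietyA.RegSmoothSch.isRegularLocalRing_stalk_of_mem_smoothLocus
      (k := S.residueField s) (f.fiberToSpecResidueField s)
    rw [Scheme.Hom.smoothLocus_eq_top]
    trivial
  exact Groth.Agent.S2842.isCompleteIntersection_of_isRegularLocalRing _

/-- Open immersions are syntomic. -/
theorem isSyntomicMor_of_isOpenImmersion {X S : Scheme.{u}} (f : X ⟶ S) [IsOpenImmersion f] :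
    Synt.IsSyntomicMor f :=
  isSyntomicMor_of_smooth f

/-- Base change. -/
theorem isSyntomicMor_of_isPullback {P X Y Z : Scheme.{u}} {fst : P ⟶ X}
    {snd : P ⟶ Y} {f : X ⟶ Z} {g : Y ⟶ Z} (h : IsPullback fst snd f g)
    (hf : Synt.IsSyntomicMor f) : Synt.IsSyntomicMor snd := by
  rw [isSyntomicMor_iff] at hf ⊢
  exact isCIMorphism_of_isPullback h hf

/-- Composition with an open immersion on the target side. -/
theorem isSyntomicMor_comp_openImmersion {X Y Z : Scheme.{u}} (f : X ⟶ Y) (j : Y ⟶ Z)
    [IsOpenImmersion j] (hf : Synt.IsSyntomicMor f) : Synt.IsSyntomicMor (f ≫ j) := by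
  rw [isSyntomicMor_iff] at hf ⊢
  obtain ⟨h1, h2, h3⟩ := hf
  have h4 : LocallyOfFinitePresentation (f ≫ j) := inferInstance
  exact ⟨inferInstance, h4, fun x => (isCI_fiberStalk_comp_mono_iff f j x).mpr (h3 x)⟩

end K563.SchDict2
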