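import Groth.Agent.Synt.K563.SchNhd
import Groth.Agent.Desc.K389.SynDesc
import Groth.Agent.CurvesB.NodalExist460
import Groth.Agent.Models.SmoothCase
import Groth.Agent.Dual.H316.FibDim
import Groth.Agent.S9699
import Groth.Agent.S2863
import Groth.Agent.W4c1frobunstiva.K811.SingSmooth
import Groth.Agent.Nrm16.K136.UnivOmega

/-!
# Nodal families are syntomic of relative dimension one with unramified singular locus
-/

set_option autoImplicit false

universe u

open CategoryTheory CategoryTheory.Limits AlgebraicGeometry MvPolynomial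

namespace K563.NodFwd

open K563.SchDict Groth.Agent.Models.NodeRing Groth.Agent.CurvesB.MaxNodal Groth.Agent.Ega4dB.CIFibre

theorem le_one_of_add_one_le (x : WithBot ℕ∞) (h : x + 1 ≤ ((2 : ℕ) : WithBot ℕ∞)) :
    x ≤ ((1 : ℕ) : WithBot ℕ∞) := by
  induction x using WithBot.recBotCoe with
  | bot => exact bot_le
  | coe x =>
    have h0 : ((x + 1 : ℕ∞) : WithBot ℕ∞) ≤ ((2 : ℕ∞) : WithBot ℕ∞) := h
    have h1 : x + 1 ≤ 2 := WithBot.coe_le_coe.mp h0
    have h2 : x ≤ (1 : ℕ) := by
      have : x + 1 ≤ ((1 : ℕ) : ℕ∞) + 1 := by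
        refine h1.trans ?_
        norm_num
      exact (ENat.add_le_add_iff_right ENat.one_ne_top).mp this
    exact_mod_cast h2

theorem isRelGCI_node (D : Type u) [CommRing D] (a : D) :
    Synt.IsRelGCI D 2 1 (fun _ => (X 0 * X 1 - C a : MvPolynomial (Fin 2) D)) := by
  let F : Fin 1 → MvPolynomial (Fin 2) D := fun _ => X 0 * X 1 - C a
  refine K562.Rel.isRelGCI_of_le F fun p _ hnt => ⟨by omega, ?_⟩
  rw [ringKrullDim_eq_of_ringEquiv (K562.Rel.baseChangeEquiv F p.ResidueField).toRingEquiv]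
  have h1 : Set.range (K562.Rel.mapRel F p.ResidueField) =
      {(X 0 * X 1 - C (algebraMap D p.ResidueField a) : MvPolynomial (Fin 2) p.ResidueField)} := by
    ext y
    simp [F]
  have h2 : (X 0 * X 1 - C (algebraMap D p.ResidueField a) :
      MvPolynomial (Fin 2) p.ResidueField) ≠ 0 := by
    intro h
    have := congrArg (MvPolynomial.eval (fun _ => (1 : p.ResidueField))) h
    have h' := congrArg (MvPolynomial.eval (fun _ => (0 : p.ResidueField))) h
    simp only [map_sub, map_mul, eval_X, eval_C, map_zero, mul_one, mul_zero, zero_sub,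
      neg_eq_zero] at this h'
    rw [h', sub_zero] at this
    exact one_ne_zero this
  have h3 := ringKrullDim_quotient_succ_le_of_nonZeroDivisor (mem_nonZeroDivisors_of_ne_zero h2)
  rw [MvPolynomial.ringKrullDim_of_isNoetherianRing, ringKrullDim_eq_zero_of_field, zero_add] at h3
  change ringKrullDim (MvPolynomial (Fin 2) p.ResidueField ⧸ Ideal.span (Set.range _)) ≤ _
  rw [h1]
  refine le_one_of_add_one_le _ (h3.trans ?_)
  simp

theorem isSyntomicMor_str (D : Type u) [CommRing D] (a : D) : Synt.IsSyntomicMor (str D a) := by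
  rw [SchNhd.isSyntomicMor_spec_iff]
  have h := isRelGCI_node D a
  have hr : Set.range (fun _ : Fin 1 => (X 0 * X 1 - C a : MvPolynomial (Fin 2) D)) = {X 0 * X 1 - C a} :=
    Set.range_const
  exact SynNhd.isSyntomic_of_relGCI h (Ideal.quotientEquivAlgOfEq D (by rw [hr]))

theorem isSyntomicMor_comp {X Y Z : Scheme.{u}} (f : X ⟶ Y) (g : Y ⟶ Z) (hf : Synt.IsSyntomicMor f)
    (hg : Synt.IsSyntomicMor g) : Synt.IsSyntomicMor (f ≫ g) := by
  rw [isSyntomicMor_iff] at hf hg ⊢
  obtain ⟨f1, f2, f3⟩ := hf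
  obtain ⟨g1, g2, g3⟩ := hg
  exact ⟨inferInstance, inferInstance, fun x =>
    (K389.SynDesc.isCI_fiberStalk_comp_iff f g x).mpr ⟨g3 _, f3 _⟩⟩

theorem isCI_of_chart {X S : Scheme.{u}} (f : X ⟶ S) [LocallyOfFiniteType f] (x : X) (hx : Chart f x) :
    Pi1.IsCompleteIntersection (CInt.fiberStalk f x) := by
  obtain ⟨U, g, D, _, a, e, h, hg, he, hh, hfac, ⟨z, rfl⟩⟩ := hx
  have h1 : Synt.IsSyntomicMor (g ≫ f) := by
    rw [hfac]
    exact isSyntomicMor_comp e _ (Groth.Agent.S9699.result e)
      (isSyntomicMor_comp _ h (isSyntomicMor_str D a) (Groth.Agent.S9699.result h))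
  rw [isSyntomicMor_iff] at h1
  exact ((K389.SynDesc.isCI_fiberStalk_comp_iff g f z).mp (h1.2.2 z)).1

theorem isNode_asFiber {X S : Scheme.{u}} (f : X ⟶ S) (s : S) (y : f.fiber s) (x' : X)
    (hx' : f.fiberι s y = x') (h : f x' = s)
    (hy : @Curv2.IsNode (S.residueField s) _ (f.fiber s) ⟨f.fiberToSpecResidueField s⟩ y) :
    @Curv2.IsNode (S.residueField (f.base x')) _ (f.fiber (f.base x'))
      ⟨f.fiberToSpecResidueField (f.base x')⟩ (f.asFiber x') := by
  subst h
  have : y = f.asFiber x' := by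
    apply (f.fiberι (f x')).isEmbedding.injective
    rw [Scheme.Hom.fiberι_asFiber, hx']
  rw [← this]
  exact hy

/-- Nodal families are syntomic. -/
theorem isSyntomicMor_of_isNodalFamily {X S : Scheme.{u}} (f : X ⟶ S) (hf : Curv2.IsNodalFamily f) :
    Synt.IsSyntomicMor f := by
  obtain ⟨h1, h2, h3⟩ := hf
  rw [isSyntomicMor_iff]
  refine ⟨h1, h2, fun x => ?_⟩
  obtain ⟨hF, hnod⟩ := h3 (f x)
  have hft : LocallyOfFiniteType (f.fiberToSpecResidueField (f x)) :=
    MorphismProperty.pullback_snd _ _ inferInstance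
  have hJ := LocallyOfFiniteType.jacobsonSpace (f.fiberToSpecResidueField (f x))
  obtain ⟨y', hy', hcl⟩ := nonempty_inter_closedPoints (X := f.fiber (f x))
    (Z := closure {f.asFiber x}) ⟨_, subset_closure rfl⟩ isClosed_closure.isLocallyClosed
  have hsp : f.asFiber x ⤳ y' := specializes_iff_mem_closure.2 hy'
  have hsp' : x ⤳ f.fiberι (f x) y' := by
    have := hsp.map (f.fiberι (f x)).continuous
    rwa [f.fiberι_asFiber x] at this
  have hfy : f (f.fiberι (f x) y') = f x := by
    have h4 : f.fiberι (f x) y' ∈ Set.range (f.fiberι (f x)) := ⟨y', rfl⟩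
    rw [Scheme.Hom.range_fiberι] at h4
    exact h4
  have hgood : Pi1.IsCompleteIntersection (CInt.fiberStalk f (f.fiberι (f x) y')) := by
    have hpb : IsPullback (f.fiberι (f x)) (f.fiberToSpecResidueField (f x)) f (S.fromSpecResidueField (f x)) :=
      IsPullback.of_hasPullback _ _
    rcases hnod y' hcl with ⟨W, hyW, hW⟩ | hn
    · rw [isCI_fiberStalk_iff_of_isPullback hpb y']
      have hW' : Smooth (W.ι ≫ f.fiberToSpecResidueField (f x)) := hW
      have h5 := Groth.Agent.S9699.result (W.ι ≫ f.fiberToSpecResidueField (f x))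
      rw [isSyntomicMor_iff] at h5
      exact (isCI_fiberStalk_openImmersion_iff W.ι _ ⟨y', hyW⟩).mp (h5.2.2 ⟨y', hyW⟩)
    · have hch : Chart f (f.fiberι (f x) y') :=
        chart_of_isNode f _ (isNode_asFiber f (f x) y' _ rfl hfy hn)
      exact isCI_of_chart f _ hch
  exact hsp'.mem_open (Groth.Agent.S2863.isOpen_ciLocus f) hgood

/-- Nodal families have local fibre dimension one. -/
theorem localFibreDim_of_isNodalFamily {X S : Scheme.{u}} (f : X ⟶ S) (hf : Curv2.IsNodalFamily f) (x : X) :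
    Dual3.localFibreDim f x = 1 := by
  obtain ⟨h1, h2, h3⟩ := hf
  obtain ⟨hF, hnod⟩ := h3 (f x)
  have hft : LocallyOfFiniteType (f.fiberToSpecResidueField (f x)) :=
    MorphismProperty.pullback_snd _ _ inferInstance
  have hJ := LocallyOfFiniteType.jacobsonSpace (f.fiberToSpecResidueField (f x))
  rw [Groth.Agent.Dual.H316.FibDim.localFibreDim_eq]
  exact Groth.Agent.Models.SmoothCase.localDim_eq_one hF _

/-- The singular locus of a nodal family is unramified over the base. -/
theorem formallyUnramified_of_isNodalFamily {X S : Scheme.{u}} (f : X ⟶ S) [QuasiSeparated f]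
    (hf : Curv2.IsNodalFamily f) :
    FormallyUnramified ((Fitt.sheafIdeal (Omega.sheaf f) 1).subschemeι ≫ f) :=
  K811.SingGood.formallyUnramified_of_good f _
    (K811.SingSmooth.good f hf (K136.UnivOmega.isUniversal_dOmega f))

end K563.NodFwd
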