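import Groth.Agent.Synt.K563.SingCore
import Groth.Agent.Synt.K563.NodFwd
import Groth.Agent.Sga2lef.H85.UnibTop
import Groth.Agent.Dual.H318.PureDim

/-!
# Syntomic morphisms of relative dimension one with unramified singular locus are nodal families
-/

set_option autoImplicit false

universe u

open CategoryTheory CategoryTheory.Limits AlgebraicGeometry TopologicalSpace

namespace K563.NodBwd

open Groth.Agent.CycB.RelDim Groth.Agent.CycB.LocQuot Groth.Agent Groth.Agent.Ega4fib K563.SchDict

/-- The irreducible components of a fibre have dimension `n` if the fibre has dimension `n` at all of its points. -/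
theorem dim_components_fiber {X Y : Scheme.{u}} (f : X ⟶ Y) [LocallyOfFiniteType f] (y : Y) (n : ℕ)
    (h : ∀ x : X, f x = y → FlatMor.fibreDimAt f x = n) :
    ∀ T ∈ irreducibleComponents ↥(f.fiber y), topologicalKrullDim T = n := by
  intro T hT
  have hTi : IsIrreducible T := hT.1
  have hTc : IsClosed T := isClosed_of_mem_irreducibleComponents T hT
  have hgen := hTi.isGenericPoint_genericPoint hTc
  set z : f.fiber y := hTi.genericPoint with hz
  have hfz : f (f.fiberι y z) = y := S1387.fiberι_map f y z
  have hmax : ∀ x' : X, f x' = f (f.fiberι y z) → x' ⤳ f.fiberι y z → x' = f.fiberι y z := by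
    intro x' hx' hsp
    obtain ⟨w, rfl⟩ := S1387.exists_fiber f y x' (hx'.trans hfz)
    have hwz : w ⤳ z := (f.fiberι y).isEmbedding.isInducing.specializes_iff.1 hsp
    have h1 : T ⊆ closure {w} := by
      rw [← hgen.def]
      exact closure_minimal (Set.singleton_subset_iff.2 hwz.mem_closure) isClosed_closure
    have h2 : closure {w} ⊆ T := hT.2 isIrreducible_singleton.closure h1
    have h3 : z ⤳ w := hgen.specializes (h2 (subset_closure rfl))
    rw [(hwz.antisymm h3).eq]
  obtain ⟨m, hm, hm'⟩ := exists_dim_closure_fiber f y z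
  have h4 := H129.DimFib.fibreDimAt_eq_of_fibGeneric f hmax m hm
  have h5 := h _ hfz
  rw [h4, ← hm', hgen.def] at h5
  exact h5

theorem exists_eq_asFiber {X S : Scheme.{u}} (f : X ⟶ S) (s : S) (y : f.fiber s)
    (P : ∀ s : S, f.fiber s → Prop) (h : ∀ x : X, P (f x) (f.asFiber x)) : P s y := by
  have hf : f (f.fiberι s y) = s := S1387.fiberι_map f s y
  generalize hx : f.fiberι s y = x at hf
  subst hf
  have : y = f.asFiber x := by
    apply (f.fiberι (f x)).isEmbedding.injective
    rw [Scheme.Hom.fiberι_asFiber, hx]
  rw [this]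
  exact h x

/-- **Syntomic families of curves with unramified singular locus are nodal.** -/
theorem isNodalFamily {X S : Scheme.{u}} (f : X ⟶ S) [QuasiSeparated f] (hsyn : Synt.IsSyntomicMor f)
    (hdim : ∀ x : X, Dual3.localFibreDim f x = 1)
    (hunr : FormallyUnramified ((Fitt.sheafIdeal (Omega.sheaf f) 1).subschemeι ≫ f)) :
    Curv2.IsNodalFamily f := by
  rw [isSyntomicMor_iff] at hsyn
  obtain ⟨h1, h2, h3⟩ := hsyn
  refine ⟨h1, h2, fun s => ?_⟩
  have H : IsPullback (f.fiberι s) (f.fiberToSpecResidueField s) f (S.fromSpecResidueField s) :=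
    IsPullback.of_hasPullback _ _
  have hft : LocallyOfFiniteType (f.fiberToSpecResidueField s) := MorphismProperty.of_isPullback H inferInstance
  have hqs : QuasiSeparated (f.fiberToSpecResidueField s) := MorphismProperty.of_isPullback H inferInstance
  have hci : ∀ y : f.fiber s, Pi1.IsCompleteIntersection ((f.fiber s).presheaf.stalk y) := fun y =>
    exists_eq_asFiber f s y (fun s y => Pi1.IsCompleteIntersection ((f.fiber s).presheaf.stalk y)) h3
  have hld : ∀ y : f.fiber s, FlatMor.localDim (f.fiber s) y = 1 := fun y =>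
    exists_eq_asFiber f s y (fun s y => FlatMor.localDim (f.fiber s) y = 1) fun x => by
      rw [← Groth.Agent.Dual.H318.PureDim.localFibreDim_eq_localDim]
      exact hdim x
  refine ⟨?_, fun y hy => ?_⟩
  · have h4 := dim_components_fiber f s 1 fun x _ => by
      rw [← Groth.Agent.Dual.H318.PureDim.localFibreDim_eq_fibreDimAt]
      exact_mod_cast hdim x
    exact_mod_cast h4
  · refine K563.SingCore.smooth_or_isNode (S.residueField s) (f.fiberToSpecResidueField s) hci ?_ hld y hy
    have h5 := SDiv.K474.FittOmega.comap_sheafIdeal_omega H 1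
    rw [← h5]
    let J := Fitt.sheafIdeal (Omega.sheaf f) 1
    have H2 : IsPullback ((J.comapIso (f.fiberι s)).hom ≫ pullback.snd _ _)
        ((J.comap (f.fiberι s)).subschemeι) J.subschemeι (f.fiberι s) :=
      (IsPullback.of_hasPullback (f.fiberι s) J.subschemeι).flip.of_iso (J.comapIso (f.fiberι s)).symm
        (Iso.refl _) (Iso.refl _) (Iso.refl _)
        (by rw [Iso.symm_hom, Iso.refl_hom, Category.comp_id, Iso.inv_hom_id_assoc]) (by simp) (by simp)
        (by simp)
    exact MorphismProperty.of_isPullback (P := @FormallyUnramified) (H2.paste_vert H) hunr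

end K563.NodBwd
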