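import Groth.Agent.Models.CMSeq
import Groth.Agent.Ega4B.DimFT2
import Groth.Agent.Models.CIKer
import Mathlib.RingTheory.RegularLocalRing.Polynomial

/-!
# Dimension bookkeeping for quotients of polynomial rings over a field

* `ringKrullDim_quotient_add_le`: `dim S/J + c ≤ dim S` if `c ≤ ht J` (local Noetherian `S`);
* `le_height_of_ringKrullDim_quotient_le`: over a field, if `dim k[x_1..x_n]/I ≤ n - c` then every prime over `I`
  has height at least `c`;
* `isRegular_atPrime`: `c` elements of `k[x]` contained in `q` such that every prime between `(r)` and `q` has height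
  at least `c` form a regular sequence in `k[x]_q`.
-/

set_option autoImplicit false

universe u

namespace K563.DimLoc

open IsLocalRing RingTheory.Sequence

section Local

variable {S : Type u} [CommRing S] [IsLocalRing S] [IsNoetherianRing S]

theorem ringKrullDim_quotient_add_le (J : Ideal S) (c : ℕ)
    (hc : ∀ p : Ideal S, p.IsPrime → J ≤ p → (c : ℕ∞) ≤ p.height) :
    ringKrullDim (S ⧸ J) + c ≤ ringKrullDim S := by
  by_cases hJ : J = ⊤
  · subst hJ
    rw [ringKrullDim_eq_bot_of_subsingleton, WithBot.bot_add]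
    exact bot_le
  have hnt : Nontrivial (S ⧸ J) := Ideal.Quotient.nontrivial_iff.mpr hJ
  have hloc : IsLocalRing (S ⧸ J) :=
    IsLocalRing.of_surjective' (Ideal.Quotient.mk J) Ideal.Quotient.mk_surjective
  obtain ⟨n, hn⟩ := Groth.Agent.Models.CIKer.exists_ringKrullDim_eq (S ⧸ J)
  obtain ⟨q, hq⟩ := Order.le_krullDim_iff.mp hn.ge
  let q' : LTSeries (PrimeSpectrum S) := q.map (PrimeSpectrum.comap (Ideal.Quotient.mk J))
    (RingHom.strictMono_comap_of_surjective Ideal.Quotient.mk_surjective)
  have h1 : (n : ℕ∞) ≤ Order.coheight q'.head := by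
    rw [← hq]
    exact Order.length_le_coheight (p := q') le_rfl
  have h2 : (c : ℕ∞) ≤ Order.height q'.head := by
    have h3 : J ≤ q'.head.asIdeal := by
      intro x hx
      change Ideal.Quotient.mk J x ∈ q.head.asIdeal
      rw [Ideal.Quotient.eq_zero_iff_mem.mpr hx]
      exact zero_mem _
    have h4 := hc _ q'.head.2 h3
    rwa [PrimeSpectrum.height_eq_orderHeight] at h4
  rw [hn, ringKrullDim, Order.krullDim_eq_iSup_height_add_coheight_of_nonempty]
  have h5 : ((n + c : ℕ) : ℕ∞) ≤ Order.height q'.head + Order.coheight q'.head := by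
    push_cast
    rw [add_comm]
    exact add_le_add h2 h1
  have h6 := h5.trans (le_iSup (fun a : PrimeSpectrum S => Order.height a + Order.coheight a) _)
  exact_mod_cast h6

end Local

/-- In a Noetherian ring whose localization at `q` is regular: a sequence in `q` such that all primes between the
ideal it generates and `q` have height at least its length becomes regular at `q`. -/
theorem isRegular_atPrime {P : Type u} [CommRing P] (q : Ideal P) [q.IsPrime]
    [IsRegularLocalRing (Localization.AtPrime q)] {c : ℕ} (r : Fin c → P) (hr : ∀ i, r i ∈ q)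
    (hc : ∀ p : Ideal P, p.IsPrime → Ideal.span (Set.range r) ≤ p → p ≤ q → (c : ℕ∞) ≤ p.height) :
    IsRegular (Localization.AtPrime q)
      (List.ofFn fun i => algebraMap P (Localization.AtPrime q) (r i)) := by
  refine Groth.Agent.Models.CMSeq.isRegular_of_ringKrullDim_le _ ?_ ?_
  · intro x hx
    obtain ⟨i, rfl⟩ := (List.mem_ofFn' _ _).mp hx
    rw [← Localization.AtPrime.map_eq_maximalIdeal]
    exact Ideal.mem_map_of_mem _ (hr i)
  · rw [List.length_ofFn]
    refine ringKrullDim_quotient_add_le _ c fun p hp hle => ?_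
    have h1 : (p.comap (algebraMap P (Localization.AtPrime q))).IsPrime := Ideal.comap_isPrime _ _
    have h2 : (p.comap (algebraMap P (Localization.AtPrime q))).height = p.height :=
      IsLocalization.height_under q.primeCompl p
    rw [← h2]
    refine hc _ h1 ?_ ?_
    · rw [Ideal.span_le]
      rintro _ ⟨i, rfl⟩
      refine hle (Ideal.subset_span ?_)
      simp only [Set.mem_ofPred_eq, List.mem_ofFn]
      exact ⟨i, rfl⟩
    · refine le_trans (Ideal.comap_mono (IsLocalRing.le_maximalIdeal hp.ne_top)) ?_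
      exact (Localization.AtPrime.under_maximalIdeal (I := q)).le

section Field

variable (k : Type u) [Field k]

/-- `dim k[x_1..x_n]/p + ht p = n`. -/
theorem height_add_dim (n : ℕ) (p : Ideal (MvPolynomial (Fin n) k)) [p.IsPrime] :
    (p.height : WithBot ℕ∞) + ringKrullDim (MvPolynomial (Fin n) k ⧸ p) = n := by
  rw [Groth.Agent.Ega4B.DimFT2.height_add_dim k, MvPolynomial.ringKrullDim_of_isNoetherianRing]
  simp [ringKrullDim_eq_zero_of_field]

/-- If `dim k[x_1..x_n]/I ≤ n - c` then primes over `I` have height at least `c`. -/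
theorem le_height_of_ringKrullDim_quotient_le {n c : ℕ} (hcn : c ≤ n)
    (I : Ideal (MvPolynomial (Fin n) k))
    (hI : ringKrullDim (MvPolynomial (Fin n) k ⧸ I) ≤ ((n - c : ℕ) : WithBot ℕ∞))
    (p : Ideal (MvPolynomial (Fin n) k)) [p.IsPrime] (hp : I ≤ p) : (c : ℕ∞) ≤ p.height := by
  have h1 := height_add_dim k n p
  have h2 : ringKrullDim (MvPolynomial (Fin n) k ⧸ p) ≤ ((n - c : ℕ) : WithBot ℕ∞) :=
    (ringKrullDim_le_of_surjective (Ideal.Quotient.factor hp)
      (Ideal.Quotient.factor_surjective hp)).trans hI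
  have h3 : (0 : WithBot ℕ∞) ≤ ringKrullDim (MvPolynomial (Fin n) k ⧸ p) :=
    ringKrullDim_nonneg_of_nontrivial
  obtain ⟨a, ha, hd⟩ := Groth.Agent.Ega4B.DimFT.exists_dim k (MvPolynomial (Fin n) k ⧸ p)
  rw [hd] at h1 h2
  have h4 : p.height + a = n := by exact_mod_cast h1
  have h5 : a ≤ n - c := by exact_mod_cast h2
  obtain ⟨b, hb⟩ : ∃ b : ℕ, p.height = b := by
    refine ⟨p.height.toNat, (ENat.natCast_toNat ?_).symm⟩
    intro h
    rw [h, top_add] at h4
    exact absurd h4 (ENat.top_ne_natCast n)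
  rw [hb] at h4 ⊢
  have h6 : b + a = n := by exact_mod_cast h4
  have : c ≤ b := by omega
  exact_mod_cast this

/-- Converse bound for a single prime: `c ≤ ht p` gives `dim k[x]/p ≤ n - c`. -/
theorem ringKrullDim_quotient_le_of_le_height {n c : ℕ}
    (p : Ideal (MvPolynomial (Fin n) k)) [p.IsPrime] (hp : (c : ℕ∞) ≤ p.height) :
    c ≤ n ∧ ringKrullDim (MvPolynomial (Fin n) k ⧸ p) ≤ ((n - c : ℕ) : WithBot ℕ∞) := by
  have h1 := height_add_dim k n p
  obtain ⟨a, ha, hd⟩ := Groth.Agent.Ega4B.DimFT.exists_dim k (MvPolynomial (Fin n) k ⧸ p)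
  rw [hd] at h1 ⊢
  have h4 : p.height + a = n := by exact_mod_cast h1
  obtain ⟨b, hb⟩ : ∃ b : ℕ, p.height = b := by
    refine ⟨p.height.toNat, (ENat.natCast_toNat ?_).symm⟩
    intro h
    rw [h, top_add] at h4
    exact absurd h4 (ENat.top_ne_natCast n)
  rw [hb] at h4 hp
  have h6 : b + a = n := by exact_mod_cast h4
  have h7 : c ≤ b := by exact_mod_cast hp
  refine ⟨by omega, ?_⟩
  have : a ≤ n - c := by omega
  exact_mod_cast this

/-- `p` minimal over `c` elements: `dim k[x]/p ≥ n - c`. -/
theorem le_ringKrullDim_quotient_of_height_le {n c : ℕ}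
    (p : Ideal (MvPolynomial (Fin n) k)) [p.IsPrime] (hp : p.height ≤ (c : ℕ∞)) :
    ((n - c : ℕ) : WithBot ℕ∞) ≤ ringKrullDim (MvPolynomial (Fin n) k ⧸ p) := by
  have h1 := height_add_dim k n p
  obtain ⟨a, ha, hd⟩ := Groth.Agent.Ega4B.DimFT.exists_dim k (MvPolynomial (Fin n) k ⧸ p)
  rw [hd] at h1 ⊢
  have h4 : p.height + a = n := by exact_mod_cast h1
  obtain ⟨b, hb⟩ : ∃ b : ℕ, p.height = b := by
    refine ⟨p.height.toNat, (ENat.natCast_toNat ?_).symm⟩
    intro h
    rw [h, top_add] at h4
    exact absurd h4 (ENat.top_ne_natCast n)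
  rw [hb] at h4 hp
  have h6 : b + a = n := by exact_mod_cast h4
  have h7 : b ≤ c := by exact_mod_cast hp
  have : n - c ≤ a := by omega
  exact_mod_cast this

end Field

end K563.DimLoc
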