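import Groth.Agent.Synt.K563.NodBwd
import Groth.Agent.Synt.K561.SynLci
import Groth.Agent.Flat2A.DimSmooth

/-!
# At-worst-nodal curves over a field
-/

set_option autoImplicit false

universe u

open CategoryTheory CategoryTheory.Limits AlgebraicGeometry TopologicalSpace

namespace K563.NodField

open K563.SchDict Groth.Agent.CurvesB.Node

/-- A morphism is syntomic iff it is flat and a local complete intersection. -/
theorem isSyntomicMor_iff_isLCIMor {X S : Scheme.{u}} (f : X ⟶ S) [Flat f] :
    Synt.IsSyntomicMor f ↔ Dual3.IsLCIMor f := by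
  refine forall_congr' fun x => exists_congr fun U => exists_congr fun V => exists_congr fun e =>
    and_congr_right fun _ => ?_
  let _ := (f.appLE V.1 U.1 e).hom.toAlgebra
  have hfl : Module.Flat Γ(S, V.1) Γ(X, U.1) := HasRingHomProperty.appLE (P := @Flat) f inferInstance V U e
  change Synt.IsSyntomic Γ(S, V.1) Γ(X, U.1) ↔ LCI.IsLCI Γ(S, V.1) Γ(X, U.1)
  rw [K561.SynLci.isSyntomic_iff_isLCI]
  exact and_iff_right hfl

section Field

variable {k : Type u} [Field k]

theorem isIso_fromSpecResidueField (s : Spec (CommRingCat.of k)) :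
    IsIso ((Spec (CommRingCat.of k)).fromSpecResidueField s) := by
  have hsub : Subsingleton (Spec (CommRingCat.of k)) :=
    inferInstanceAs (Subsingleton (PrimeSpectrum k))
  have hr : Set.range ((Spec (CommRingCat.of k)).fromSpecResidueField s) = Set.univ := by
    rw [Scheme.range_fromSpecResidueField]
    ext x
    simp only [Set.mem_singleton_iff, Set.mem_univ, iff_true]
    exact Subsingleton.elim _ _
  have h1 : IsClosedImmersion ((Spec (CommRingCat.of k)).fromSpecResidueField s) :=
    IsClosedImmersion.of_isPreimmersion _ (by rw [hr]; exact isClosed_univ)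
  have h2 : Surjective ((Spec (CommRingCat.of k)).fromSpecResidueField s) :=
    ⟨Set.range_eq_univ.1 hr⟩
  exact isIso_of_isClosedImmersion_of_surjective _

theorem flat {X : Scheme.{u}} (p : X ⟶ Spec (CommRingCat.of k)) : Flat p := by
  wlog hX : ∃ R, X = Spec R
  · refine (IsZariskiLocalAtSource.iff_of_openCover X.affineCover).mpr fun i ↦ ?_
    exact this _ ⟨_, rfl⟩
  obtain ⟨R, rfl⟩ := hX
  obtain ⟨φ, hφ⟩ := Spec.map_surjective p
  rw [← hφ, HasRingHomProperty.Spec_iff (P := @Flat)]
  let _ := φ.hom.toAlgebra
  change Module.Flat k R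
  infer_instance

variable {X : Scheme.{u}} (p : X ⟶ Spec (CommRingCat.of k)) [LocallyOfFiniteType p]

/-- The condition of being at worst nodal passes to the fibre over the point of the base. -/
theorem atWorstNodal_fiber (h : @Curv2.AtWorstNodal k _ X ⟨p⟩) (s : Spec (CommRingCat.of k)) :
    @Curv2.AtWorstNodal ((Spec (CommRingCat.of k)).residueField s) _ (p.fiber s)
      ⟨p.fiberToSpecResidueField s⟩ := by
  have hiso := isIso_fromSpecResidueField s
  have hι : IsIso (p.fiberι s) := by
    change IsIso (pullback.fst _ _)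
    infer_instance
  obtain ⟨φ, hφ⟩ := Spec.map_surjective ((Spec (CommRingCat.of k)).fromSpecResidueField s)
  let _ : Algebra k ((Spec (CommRingCat.of k)).residueField s) := φ.hom.toAlgebra
  have H : IsPullback (p.fiberι s) (p.fiberToSpecResidueField s) p
      (Spec.map (CommRingCat.ofHom (algebraMap k ((Spec (CommRingCat.of k)).residueField s)))) := by
    have H0 : IsPullback (p.fiberι s) (p.fiberToSpecResidueField s) p
      ((Spec (CommRingCat.of k)).fromSpecResidueField s) := IsPullback.of_hasPullback _ _
    rw [← hφ] at H0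
    exact H0
  have hft : LocallyOfFiniteType (p.fiberToSpecResidueField s) := MorphismProperty.of_isPullback H inferInstance
  intro y hy
  have hx : IsClosed ({p.fiberι s y} : Set X) := by
    rw [← Set.image_singleton]
    exact (p.fiberι s).homeomorph.isClosedMap _ hy
  rcases h (p.fiberι s y) hx with ⟨U, hyU, hU⟩ | hn
  · refine Or.inl ⟨p.fiberι s ⁻¹ᵁ U, hyU, ?_⟩
    have hU' : Smooth (U.ι ≫ p) := hU
    have h1 : (p.fiberι s ⁻¹ᵁ U).ι ≫ p.fiberToSpecResidueField s =
        ((p.fiberι s) ∣_ U) ≫ (U.ι ≫ p) ≫ inv ((Spec (CommRingCat.of k)).fromSpecResidueField s) := by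
      rw [← Category.assoc, ← Category.assoc, ← cancel_mono ((Spec (CommRingCat.of k)).fromSpecResidueField s),
        Category.assoc, Category.assoc, Category.assoc, IsIso.inv_hom_id, Category.comp_id,
        morphismRestrict_ι, Category.assoc]
      congr 1
      exact (pullback.condition).symm
    change Smooth ((p.fiberι s ⁻¹ᵁ U).ι ≫ p.fiberToSpecResidueField s)
    rw [h1]
    infer_instance
  · right
    have h1 := (@isNode_iff_resFS k _ X ⟨p⟩ ‹_› (p.fiberι s y)).mp hn
    have h2 := (resFS_nodeLike_iff (K := (Spec (CommRingCat.of k)).residueField s) H y).mp h1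
    exact (@isNode_iff_resFS _ _ (p.fiber s) ⟨p.fiberToSpecResidueField s⟩ hft y).mpr h2

/-- Equidimensional at-worst-nodal curves over a field are nodal families over the spectrum of the field. -/
theorem isNodalFamily (h : @Curv2.AtWorstNodal k _ X ⟨p⟩)
    (hequi : ∀ Z ∈ irreducibleComponents (X : Type u), topologicalKrullDim Z = 1) :
    Curv2.IsNodalFamily p := by
  have hJ := LocallyOfFiniteType.jacobsonSpace p
  refine ⟨flat p, LocallyOfFinitePresentation.iff_locallyOfFiniteType.mpr inferInstance, fun s =>
    ⟨?_, atWorstNodal_fiber p h s⟩⟩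
  have h4 := K563.NodBwd.dim_components_fiber p s 1 fun x _ => by
    rw [Groth.Agent.FlatA.FibreDim.fibreDimAt_eq, Groth.Agent.Flat2A.DimSmooth.localDim_univ,
      Groth.Agent.Models.SmoothCase.localDim_eq_one hequi]
    · rfl
    · ext z
      simp only [Set.mem_preimage, Set.mem_singleton_iff, Set.mem_univ, iff_true]
      have hsub : Subsingleton (Spec (CommRingCat.of k)) :=
        inferInstanceAs (Subsingleton (PrimeSpectrum k))
      exact Subsingleton.elim _ _
  exact_mod_cast h4

end Field

end K563.NodField
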