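import Groth.Agent.Synt.K563.SchDict2
import Groth.Agent.Ega4dB.FiberStalk
import Groth.Agent.Flat2D.LfpComp
import Mathlib.RingTheory.Regular.Flat

/-!
# Flat morphisms with regular local rings on source and target have complete intersection fibres
-/

set_option autoImplicit false

universe u

open CategoryTheory CategoryTheory.Limits AlgebraicGeometry TopologicalSpace

namespace K563.FlatReg

open Groth.Agent.Ega4dB.CIFibre Groth.Agent.Ega4dB.CIFieldExt K563.SchDict
open Groth.Agent.Ega4dB.FiberStalk IsLocalRing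

/-- The algebra: `A` regular local, flat over the regular local ring `B`; `A / m_B A` is a complete intersection. -/
theorem isCI_quotient {B A : Type u} [CommRing B] [CommRing A] [IsRegularLocalRing B]
    [IsRegularLocalRing A] (φ : B →+* A) [IsLocalHom φ] (hφ : φ.Flat)
    [IsLocalRing (A ⧸ (maximalIdeal B).map φ)] :
    Pi1.IsCompleteIntersection (A ⧸ (maximalIdeal B).map φ) := by
  obtain ⟨d, hd⟩ : ∃ d : ℕ, ringKrullDim B = d :=
    ⟨_, (IsRegularLocalRing.spanFinrank_maximalIdeal (R := B)).symm⟩
  obtain ⟨rs, hlen, hrs⟩ := Groth.Agent.Models.CMSeq.exists_list_of_fg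
    (IsNoetherian.noetherian (maximalIdeal B))
  have hlen' : (rs.length : WithBot ℕ∞) = ringKrullDim B := by
    rw [hlen]; exact IsRegularLocalRing.spanFinrank_maximalIdeal
  have hreg : RingTheory.Sequence.IsRegular B (List.ofFn rs.get) :=
    Groth.Agent.S0559.result B rs.length hlen'.symm rs.get
      (by rw [← hrs, Ideal.ofList]; congr 1; ext x; simp [List.mem_iff_get])
  rw [List.ofFn_get] at hreg
  let _ : Algebra B A := φ.toAlgebra
  have : Module.Flat B A := hφ
  have h1 : RingTheory.Sequence.IsWeaklyRegular A (rs.map (algebraMap B A)) :=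
    hreg.toIsWeaklyRegular.of_flat
  have h2 : ∀ r ∈ rs.map (algebraMap B A), r ∈ maximalIdeal A := by
    intro r hr
    obtain ⟨a, ha, rfl⟩ := List.mem_map.mp hr
    have h3 : a ∈ maximalIdeal B := by
      rw [← hrs]
      exact Ideal.subset_span ha
    exact IsLocalRing.map_maximalIdeal_le φ (Ideal.mem_map_of_mem φ h3)
  have h3 := (IsLocalRing.isRegular_iff_isWeaklyRegular_of_subset_maximalIdeal h2).mpr h1
  rw [Groth.Agent.S2842.isCompleteIntersection_iff_of_surjective (Ideal.Quotient.mk _)
    Ideal.Quotient.mk_surjective, Ideal.mk_ker]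
  refine ⟨_, h3, ?_⟩
  rw [← hrs, Ideal.map_ofList]
  rfl

theorem isCI_fiberStalk_of_regular {X Y : Scheme.{u}} (f : X ⟶ Y) [Flat f] (x : X)
    (hx : IsRegularLocalRing (X.presheaf.stalk x)) (hy : IsRegularLocalRing (Y.presheaf.stalk (f x))) :
    Pi1.IsCompleteIntersection (CInt.fiberStalk f x) := by
  have : IsLocalRing (X.presheaf.stalk x ⧸ fibIdeal f x) := (fiberStalkEquiv f x).symm.isLocalRing
  refine Groth.Agent.Ega4dB.CITransport.isCompleteIntersection_of_ringEquiv (fiberStalkEquiv f x) ?_
  exact isCI_quotient (f.stalkMap x).hom (Flat.stalkMap f x)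

theorem isPullback_fiberMap {X Y S : Scheme.{u}} (f : X ⟶ Y) (g : Y ⟶ S) (s : S) :
    IsPullback ((f ≫ g).fiberι s) (CInt.fiberMap f g s) f (g.fiberι s) := by
  have h1 : IsPullback ((f ≫ g).fiberι s) ((f ≫ g).fiberToSpecResidueField s) (f ≫ g)
    (S.fromSpecResidueField s) := IsPullback.of_hasPullback _ _
  have h2 : IsPullback (g.fiberι s) (g.fiberToSpecResidueField s) g
    (S.fromSpecResidueField s) := IsPullback.of_hasPullback _ _
  have h3 : CInt.fiberMap f g s ≫ g.fiberToSpecResidueField s =
      (f ≫ g).fiberToSpecResidueField s :=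
    (pullback.lift_snd _ _ _).trans (Category.comp_id _)
  rw [← h3] at h1
  exact IsPullback.of_bot h1 (pullback.lift_fst _ _ _).symm h2

theorem isRegularLocalRing_fiber {Y S : Scheme.{u}} (q : Y ⟶ S) [Smooth q] (s : S) (y : q.fiber s) :
    IsRegularLocalRing ((q.fiber s).presheaf.stalk y) := by
  have h1 : Smooth (q.fiberToSpecResidueField s) := MorphismProperty.pullback_snd _ _ inferInstance
  apply Groth.Agent.VarietyA.RegSmoothSch.isRegularLocalRing_stalk_of_mem_smoothLocus
    (k := S.residueField s) (q.fiberToSpecResidueField s)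
  rw [Scheme.Hom.smoothLocus_eq_top]
  trivial

/-- A flat morphism between smooth schemes over a base is syntomic. -/
theorem isSyntomicMor_of_flat_of_smooth {X Y S : Scheme.{u}} (q : Y ⟶ S) (f : X ⟶ Y) [Flat f]
    [Smooth (f ≫ q)] [Smooth q] : Synt.IsSyntomicMor f := by
  have hlfp : LocallyOfFinitePresentation f := Groth.Agent.Flat2D.LfpComp.lfp_of_comp f q
  rw [isSyntomicMor_iff]
  refine ⟨inferInstance, hlfp, fun x => ?_⟩
  let s := (f ≫ q) x
  have hsq := isPullback_fiberMap f q s
  have hflat : Flat (CInt.fiberMap f q s) := MorphismProperty.of_isPullback hsq inferInstance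
  obtain ⟨z, hz⟩ : ∃ z, (f ≫ q).fiberι s z = x := ⟨(f ≫ q).asFiber x, Scheme.Hom.fiberι_asFiber _ _⟩
  rw [← hz, isCI_fiberStalk_iff_of_isPullback hsq z]
  exact isCI_fiberStalk_of_regular _ z (isRegularLocalRing_fiber (f ≫ q) s z)
    (isRegularLocalRing_fiber q s _)

end K563.FlatReg
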