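import Groth.Agent.Synt.K563.Syn
import Mathlib.Algebra.MvPolynomial.Expand

/-!
# The map `T_i ↦ T_i ^ p` of a polynomial ring is finite free and syntomic
-/

set_option autoImplicit false

universe u

namespace K563.Frob

open MvPolynomial K563.Pres

section

variable {A : Type u} [CommRing A] (p m : ℕ)

/-- The exponent attached to a function with values `< p`. -/
noncomputable def ex (e : Fin m → Fin p) : Fin m →₀ ℕ :=
  Finsupp.equivFunOnFinite.symm fun i => (e i : ℕ)

theorem ex_apply (e : Fin m → Fin p) (i : Fin m) : ex p m e i = (e i : ℕ) := rfl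

variable (A) in
/-- Coefficients of `expand p r * T^e`. -/
theorem coeff_expand_mul_monomial (hp : p ≠ 0) (r : MvPolynomial (Fin m) A) (d : Fin m →₀ ℕ)
    (e e' : Fin m → Fin p) :
    coeff (p • d + ex p m e') (expand p r * monomial (ex p m e) 1) =
      if e = e' then coeff d r else 0 := by
  rw [coeff_mul_monomial', mul_one]
  split_ifs with h1 h2 h2
  · subst h2
    rw [add_tsub_cancel_right, coeff_expand_smul _ hp]
  · obtain ⟨i, hi⟩ := Function.ne_iff.mp h2
    refine coeff_expand_of_not_dvd _ (i := i) ?_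
    intro hdvd
    apply hi
    have h3 : (p • d + ex p m e' - ex p m e) i = p * d i + (e' i : ℕ) - (e i : ℕ) := by
      simp [Finsupp.tsub_apply, ex_apply]
    have h4 : (e i : ℕ) ≤ p * d i + (e' i : ℕ) := by
      have := h1 i
      simpa [ex_apply] using this
    rw [h3, ← Nat.modEq_iff_dvd' h4] at hdvd
    have h5 : (e i : ℕ) % p = (p * d i + (e' i : ℕ)) % p := hdvd
    rw [Nat.mul_add_mod, Nat.mod_eq_of_lt (e i).2, Nat.mod_eq_of_lt (e' i).2] at h5
    exact Fin.ext h5
  · subst h2
    exact absurd (by intro i; simp) h1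
  · rfl

/-- Linear independence in coordinates. -/
theorem eq_zero_of_sum_eq_zero (hp : p ≠ 0) (r : (Fin m → Fin p) → MvPolynomial (Fin m) A)
    (h : ∑ e, expand p (r e) * monomial (ex p m e) (1 : A) = 0) (e : Fin m → Fin p) : r e = 0 := by
  ext d
  have h1 := congrArg (coeff (p • d + ex p m e)) h
  rw [coeff_sum, coeff_zero] at h1
  simp only [coeff_expand_mul_monomial A p m hp, Finset.sum_ite_eq', Finset.mem_univ,
    if_true] at h1
  rw [h1, coeff_zero]

end

section

variable (p : ℕ) (A : Type u) [CommRing A] (m : ℕ)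

/-- The ideal `(X_i ^ p - T_i)` of `A[T][X]`. -/
noncomputable abbrev J : Ideal (MvPolynomial (Fin m) (MvPolynomial (Fin m) A)) :=
  Ideal.span (Set.range fun i => X i ^ p - C (X i))

/-- The residue classes of the monomials `X^e`, `e < p`. -/
noncomputable def b (e : Fin m → Fin p) :
    MvPolynomial (Fin m) (MvPolynomial (Fin m) A) ⧸ J p A m :=
  Ideal.Quotient.mk _ (monomial (ex p m e) 1)

theorem mk_X_pow (i : Fin m) : Ideal.Quotient.mk (J p A m) (X i) ^ p =
    algebraMap (MvPolynomial (Fin m) A) _ (X i) := by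
  rw [← map_pow]
  change _ = Ideal.Quotient.mk (J p A m) (C (X i))
  rw [Ideal.Quotient.eq]
  exact Ideal.subset_span ⟨i, rfl⟩

theorem mk_monomial_mem (hp : p ≠ 0) (d : Fin m →₀ ℕ) :
    Ideal.Quotient.mk (J p A m) (monomial d 1) ∈
      Submodule.span (MvPolynomial (Fin m) A) (Set.range (b p A m)) := by
  have hpos : 0 < p := Nat.pos_of_ne_zero hp
  have h1 : (monomial d (1 : MvPolynomial (Fin m) A)) =
      ∏ i, (X i : MvPolynomial (Fin m) (MvPolynomial (Fin m) A)) ^ d i := by
    rw [monomial_eq, map_one, one_mul, Finsupp.prod_fintype]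
    exact fun i => pow_zero _
  have h2 : ∀ i : Fin m, Ideal.Quotient.mk (J p A m) (X i) ^ d i =
      algebraMap (MvPolynomial (Fin m) A) _ (X i ^ (d i / p)) *
        Ideal.Quotient.mk (J p A m) (X i) ^ (d i % p) := by
    intro i
    conv_lhs => rw [← Nat.div_add_mod (d i) p, pow_add, pow_mul, mk_X_pow, ← map_pow]
  let e : Fin m → Fin p := fun i => ⟨d i % p, Nat.mod_lt _ hpos⟩
  have h3 : b p A m e = ∏ i, Ideal.Quotient.mk (J p A m) (X i) ^ (d i % p) := by
    rw [b, monomial_eq, map_one, one_mul, Finsupp.prod_fintype _ _ (fun i => pow_zero _), map_prod]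
    exact Finset.prod_congr rfl fun i _ => by rw [map_pow]; rfl
  have h4 : Ideal.Quotient.mk (J p A m) (monomial d 1) =
      (∏ i, (X i : MvPolynomial (Fin m) A) ^ (d i / p)) • b p A m e := by
    refine Eq.trans ?_ (Algebra.smul_def (R := MvPolynomial (Fin m) A)
      (A := MvPolynomial (Fin m) (MvPolynomial (Fin m) A) ⧸ J p A m) _ _).symm
    rw [h1, map_prod, map_prod, h3, ← Finset.prod_mul_distrib]
    exact Finset.prod_congr rfl fun i _ => by rw [map_pow, h2 i]
  rw [h4]
  exact Submodule.smul_mem _ _ (Submodule.subset_span ⟨e, rfl⟩)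

theorem span_b (hp : p ≠ 0) :
    Submodule.span (MvPolynomial (Fin m) A) (Set.range (b p A m)) = ⊤ := by
  rw [eq_top_iff]
  rintro x -
  obtain ⟨x, rfl⟩ := Ideal.Quotient.mk_surjective x
  induction x using MvPolynomial.induction_on' with
  | monomial d a =>
    have : (monomial d a : MvPolynomial (Fin m) (MvPolynomial (Fin m) A)) = a • monomial d 1 := by
      rw [smul_monomial, smul_eq_mul, mul_one]
    rw [this]
    exact Submodule.smul_mem _ a (mk_monomial_mem p A m hp d)
  | add f g hf hg =>
    rw [map_add]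
    exact Submodule.add_mem _ hf hg

/-- The presentation and the freeness of the map `T_i ↦ T_i ^ p`. -/
theorem main (hp : p ≠ 0) (S : Type u) [CommRing S] [Algebra (MvPolynomial (Fin m) A) S]
    (ι : MvPolynomial (Fin m) A ≃+* S)
    (halg : ∀ r : MvPolynomial (Fin m) A, algebraMap (MvPolynomial (Fin m) A) S r = ι (expand p r)) :
    HasPres (MvPolynomial (Fin m) A) S m m ∧ Module.Free (MvPolynomial (Fin m) A) S ∧
        Module.Finite (MvPolynomial (Fin m) A) S := by
  let ψ : MvPolynomial (Fin m) (MvPolynomial (Fin m) A) →ₐ[MvPolynomial (Fin m) A] S :=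
    aeval fun i => ι (X i)
  have hJ : ∀ x ∈ J p A m, ψ x = 0 := by
    intro x hx
    have : J p A m ≤ RingHom.ker ψ.toRingHom := by
      rw [Ideal.span_le]
      rintro _ ⟨i, rfl⟩
      change ψ (X i ^ p - C (X i)) = 0
      rw [map_sub, map_pow, aeval_X, algHom_C, halg, expand_X, map_pow, sub_self]
    exact this hx
  let ψ' : (MvPolynomial (Fin m) (MvPolynomial (Fin m) A) ⧸ J p A m) →ₐ[MvPolynomial (Fin m) A] S :=
    Ideal.Quotient.liftₐ _ ψ hJ
  have hψ' : ∀ e, ψ' (b p A m e) = ι (monomial (ex p m e) 1) := by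
    intro e
    change ψ (monomial (ex p m e) 1) = _
    rw [aeval_monomial, map_one, one_mul, monomial_eq, map_one, one_mul, map_finsuppProd]
    simp
  have hindep : LinearIndependent (MvPolynomial (Fin m) A) (fun e => ψ' (b p A m e)) := by
    rw [Fintype.linearIndependent_iff]
    intro g hg e
    refine eq_zero_of_sum_eq_zero p m hp g ?_ e
    apply ι.injective
    rw [map_zero, map_sum, ← hg]
    exact Finset.sum_congr rfl fun e _ => by rw [Algebra.smul_def, hψ', halg, map_mul]
  have hinj : Function.Injective ψ' := by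
    rw [injective_iff_map_eq_zero]
    intro x hx
    have hx' : x ∈ Submodule.span (MvPolynomial (Fin m) A) (Set.range (b p A m)) := by
      rw [span_b p A m hp]; trivial
    obtain ⟨g, rfl⟩ := (Submodule.mem_span_range_iff_exists_fun _).mp hx'
    rw [map_sum] at hx
    have h1 : ∑ e, g e • ψ' (b p A m e) = 0 := by
      rw [← hx]
      exact Finset.sum_congr rfl fun e _ => (map_smul ψ' (g e) _).symm
    have h2 := Fintype.linearIndependent_iff.mp hindep g h1
    exact Finset.sum_eq_zero fun e _ => by rw [h2 e, zero_smul]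
  have hsurj : Function.Surjective ψ' := by
    intro s
    obtain ⟨x, rfl⟩ := ι.surjective s
    have hr : ι x ∈ ψ'.range := by
      induction x using MvPolynomial.induction_on with
      | C a =>
        have : ι (C a) = algebraMap (MvPolynomial (Fin m) A) S (C a) := by rw [halg, expand_C]
        rw [this]
        exact ψ'.range.algebraMap_mem _
      | add f g hf hg => rw [map_add]; exact add_mem hf hg
      | mul_X f i hf =>
        rw [map_mul]
        refine mul_mem hf ⟨Ideal.Quotient.mk _ (X i), ?_⟩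
        change ψ (X i) = _
        rw [aeval_X]
    exact hr
  let e : (MvPolynomial (Fin m) (MvPolynomial (Fin m) A) ⧸ J p A m) ≃ₐ[MvPolynomial (Fin m) A] S :=
    AlgEquiv.ofBijective ψ' ⟨hinj, hsurj⟩
  let bas : Module.Basis (Fin m → Fin p) (MvPolynomial (Fin m) A) S :=
    Module.Basis.mk hindep (by
      rintro s -
      obtain ⟨x, rfl⟩ := hsurj s
      have hx' : x ∈ Submodule.span (MvPolynomial (Fin m) A) (Set.range (b p A m)) := by
        rw [span_b p A m hp]; trivial
      have h1 := Submodule.apply_mem_span_image_of_mem_span ψ'.toLinearMap hx'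
      rw [← Set.range_comp] at h1
      exact h1)
  exact ⟨(HasPres.quotient _).of_algEquiv e, Module.Free.of_basis bas, Module.Finite.of_basis bas⟩

theorem main' (hp : p ≠ 0) (S : Type u) [CommRing S] [Algebra (MvPolynomial (Fin m) A) S]
    (ι : MvPolynomial (Fin m) A ≃+* S)
    (halg : ∀ r : MvPolynomial (Fin m) A, algebraMap (MvPolynomial (Fin m) A) S r = ι (expand p r)) :
    Synt.IsSyntomic (MvPolynomial (Fin m) A) S ∧ Module.FaithfullyFlat (MvPolynomial (Fin m) A) S := by
  obtain ⟨h1, h2, h3⟩ := main p A m hp S ι halg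
  refine ⟨K563.Syn.isSyntomic_of_finite h1, ?_⟩
  rcases subsingleton_or_nontrivial A with hA | hA
  · exact ⟨fun {m} hm => absurd (Subsingleton.elim m ⊤) hm.ne_top⟩
  · have : Nontrivial S := ι.injective.nontrivial
    infer_instance

end

end K563.Frob
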