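import Groth.Agent.Synt.K563.RegPres
import Groth.Agent.Synt.K563.SynNhd
import Groth.Agent.Ega4dB.FlatRegRing
import Groth.Agent.S9170

/-!
# Syntomic algebras over Noetherian rings are locally quotients of polynomial rings by regular sequences
-/

set_option autoImplicit false

universe u

namespace K563.RegPres

open RingTheory.Sequence Groth.Agent.Ega4dB K563.SynNhd

theorem ofList_ofFn {S : Type*} [CommRing S] {c : ℕ} (F : Fin c → S) :
    Ideal.ofList (List.ofFn F) = Ideal.span (Set.range F) := by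
  rw [Ideal.ofList]
  congr 1
  ext x
  simp [List.mem_ofFn]

theorem nonempty_away_algEquiv {A B T : Type u} [CommRing A] [CommRing B] [CommRing T] [Algebra A B] [Algebra A T]
    (e : B ≃ₐ[A] T) (b : B) : Nonempty (Localization.Away b ≃ₐ[A] Localization.Away (e b)) :=
  ⟨IsLocalization.algEquivOfAlgEquiv (M := Submonoid.powers b) (T := Submonoid.powers (e b)) _ _ e
    (by rw [Submonoid.map_powers])⟩

theorem exists_regular_presentation_of_isSyntomic {A : Type u} [CommRing A] [IsNoetherianRing A] {B : Type u}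
    [CommRing B] [Algebra A B] (h : Synt.IsSyntomic A B) (q : Ideal B) [q.IsPrime] :
    ∃ g ∉ q, ∃ (n d : ℕ) (P : Fin d → MvPolynomial (Fin n) A),
        IsRegular (MvPolynomial (Fin n) A) (List.ofFn P) ∧
        Nonempty (Localization.Away g ≃ₐ[A] (MvPolynomial (Fin n) A ⧸ Ideal.ofList (List.ofFn P))) := by
  obtain ⟨a, ha, n, c, F, hcn, hF, ⟨e⟩⟩ := exists_relGCI_of_isSyntomic h q
  obtain ⟨Q, hQ, hq⟩ := exists_prime_away a q ha
  let S := MvPolynomial (Fin n) A
  let QT : Ideal (Synt.RelGCIRing A n c F) := Q.comap e.symm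
  have hQT : QT.IsPrime := Ideal.comap_isPrime _ _
  let q' : Ideal S := QT.comap (Ideal.Quotient.mk (Ideal.span (Set.range F)))
  have hq' : q'.IsPrime := Ideal.comap_isPrime _ _
  have hFq' : Ideal.span (Set.range F) ≤ q' := by
    intro x hx
    change Ideal.Quotient.mk _ x ∈ QT
    rw [Ideal.Quotient.eq_zero_iff_mem.mpr hx]
    exact zero_mem _
  obtain ⟨hreg, -⟩ := Groth.Agent.S9170.result A n c F hF q' hFq'
  have h1 : IsWeaklyRegular (Localization.AtPrime q') (List.ofFn F) :=
    (isWeaklyRegular_map_algebraMap_iff (Localization.AtPrime q') _ _).mp hreg.toIsWeaklyRegular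
  have h2 := (FlatRegRing.isWeaklyRegular_iff_tReg q'.primeCompl (List.ofFn F)).mp h1
  obtain ⟨g, hg, hg'⟩ := LocReg.exists_notMem_tReg q' _ h2
  have h3 := (FlatRegRing.isWeaklyRegular_iff_tReg (C := Localization.Away g) (Submonoid.powers g) _).mpr
    (FlatRegRing.tReg_powers _ g hg')
  have hspan := ofList_ofFn F
  let b : Localization.Away a := e.symm (Ideal.Quotient.mk (Ideal.span (Set.range F)) g)
  have hb : b ∉ Q := hg
  obtain ⟨a', ha', ⟨e4⟩⟩ := exists_away_away a q ha Q hq b hb
  obtain ⟨e5⟩ := nonempty_away_algEquiv e b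
  have heb : e b = Ideal.Quotient.mk (Ideal.span (Set.range F)) g := e.apply_symm_apply _
  rw [heb] at e5
  have e7 : Nonempty (Localization.Away (Ideal.Quotient.mk (Ideal.ofList (List.ofFn F)) g) ≃ₐ[A]
      Localization.Away (Ideal.Quotient.mk (Ideal.span (Set.range F)) g)) := by
    obtain ⟨e⟩ := nonempty_away_algEquiv (Ideal.quotientEquivAlgOfEq A hspan)
      (Ideal.Quotient.mk (Ideal.ofList (List.ofFn F)) g)
    exact ⟨e⟩
  obtain ⟨e7⟩ := e7
  have hnt : Nontrivial (Localization.Away (Ideal.Quotient.mk (Ideal.span (Set.range F)) g)) := by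
    obtain ⟨Q', hQ', -⟩ := exists_prime_away (Ideal.Quotient.mk (Ideal.span (Set.range F)) g) QT hg
    exact ⟨⟨0, 1, fun h0 => hQ'.ne_top ((Ideal.eq_top_iff_one _).mpr (h0 ▸ zero_mem _))⟩⟩
  have hnt' : Nontrivial (Localization.Away (Ideal.Quotient.mk (Ideal.ofList (List.ofFn F)) g)) :=
    e7.toEquiv.nontrivial
  obtain ⟨d, P, hP, ⟨e8⟩⟩ := exists_regular_presentation g (List.ofFn F) h3
  exact ⟨a', ha', n + 1, d, P, hP, ⟨((e4.restrictScalars A).symm.trans (e5.trans e7.symm)).trans e8⟩⟩

end K563.RegPres
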