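import Groth.Agent.Synt.K563.NodBwd
import Groth.Agent.Lim.K340.Synt
import Groth.Agent.Lim.K340.Unram
import Groth.Agent.Lim.K340.DimLocus

/-!
# Nodal families descend from a cofiltered limit to a stage
-/

set_option autoImplicit false

universe u

open CategoryTheory CategoryTheory.Limits AlgebraicGeometry TopologicalSpace

namespace K563.NodLim

open Groth.Agent Groth.Agent.Ega43.LimRed K340.One2 K340.One K340.Locus

/-- The singular subscheme of a relative curve, over the base. -/
noncomputable abbrev sing {X Y : Scheme.{u}} (f : X ⟶ Y) :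
    (Fitt.sheafIdeal (Omega.sheaf f) 1).subscheme ⟶ Y :=
  (Fitt.sheafIdeal (Omega.sheaf f) 1).subschemeι ≫ f

theorem isPullback_comap {X Y : Scheme.{u}} (J : X.IdealSheafData) (g : Y ⟶ X) :
    IsPullback ((J.comapIso g).hom ≫ pullback.snd _ _) ((J.comap g).subschemeι) J.subschemeι g :=
  (IsPullback.of_hasPullback g J.subschemeι).flip.of_iso (J.comapIso g).symm
    (Iso.refl _) (Iso.refl _) (Iso.refl _)
    (by rw [Iso.symm_hom, Iso.refl_hom, Category.comp_id, Iso.inv_hom_id_assoc]) (by simp) (by simp)
    (by simp)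

/-- The formation of the singular subscheme commutes with base change. -/
theorem exists_isPullback_sing {X' X Y' Y : Scheme.{u}} {g' : X' ⟶ X} {f' : X' ⟶ Y'} {f : X ⟶ Y}
    {g : Y' ⟶ Y} (H : IsPullback g' f' f g) [LocallyOfFiniteType f] [QuasiSeparated f] :
    ∃ m, IsPullback m (sing f') (sing f) g := by
  have h5 := SDiv.K474.FittOmega.comap_sheafIdeal_omega H 1
  have h6 := (isPullback_comap (Fitt.sheafIdeal (Omega.sheaf f) 1) g').paste_vert H
  unfold sing
  rw [← h5]
  exact ⟨_, h6⟩

/-- Morphisms locally of finite type with unramified singular subscheme. -/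
def PSing : MorphismProperty Scheme.{u} := fun _ _ f =>
  (LocallyOfFiniteType f ∧ QuasiSeparated f) ∧ FormallyUnramified (sing f)

instance : (PSing.{u}).IsStableUnderBaseChange := by
  refine ⟨fun {X Y Y' S f g f' g'} h hf => ?_⟩
  obtain ⟨⟨h1, h2⟩, h3⟩ := hf
  obtain ⟨m, hm⟩ := exists_isPullback_sing h
  exact ⟨⟨MorphismProperty.of_isPullback h h1, MorphismProperty.of_isPullback h h2⟩,
    MorphismProperty.of_isPullback hm h3⟩

theorem descendsOne_sing : DescendsOne @LocallyOfFinitePresentation.{u} PSing := by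
  intro I _ _ D c hc _ _ _ i₀ X₀ f₀ hf₀ _ _ hP
  have hlft : LocallyOfFiniteType f₀ := by
    have : LocallyOfFinitePresentation f₀ := hf₀
    infer_instance
  have hun : DescendsOne (@LocallyOfFiniteType) @FormallyUnramified.{u} :=
    descendsOne_of_descendsAffine (Q' := @LocallyOfFiniteType ⊓ @QuasiCompact)
      (fun f _ _ hf => ⟨hf, inferInstance⟩) K340.Unram.descendsAffine_unram
  obtain ⟨m, hm⟩ := exists_isPullback_sing (IsPullback.of_hasPullback f₀ (c.π.app i₀))
  have h1 : FormallyUnramified (pullback.snd (sing f₀) (c.π.app i₀)) := by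
    have h2 : pullback.snd (sing f₀) (c.π.app i₀) = hm.isoPullback.inv ≫ sing _ :=
      (hm.isoPullback_inv_snd).symm
    rw [h2]
    exact (MorphismProperty.cancel_left_of_respectsIso @FormallyUnramified _ _).mpr hP.2
  obtain ⟨i, φ, hi⟩ := hun D c hc i₀ (sing f₀) (inferInstance : LocallyOfFiniteType (sing f₀)) h1
  refine ⟨i, φ, ⟨inferInstance, inferInstance⟩, ?_⟩
  obtain ⟨m', hm'⟩ := exists_isPullback_sing (IsPullback.of_hasPullback f₀ (D.map φ))
  rw [← hm'.isoPullback_hom_snd]
  exact (MorphismProperty.cancel_left_of_respectsIso @FormallyUnramified _ _).mpr hi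

/-- Morphisms locally of finite presentation of relative dimension one. -/
abbrev PDim : MorphismProperty Scheme.{u} :=
  All @LocallyOfFinitePresentation (fun f x ↦ FlatMor.fibreDimAt f x = 1)

theorem bc_dim : BC @LocallyOfFinitePresentation.{u} (fun f x ↦ FlatMor.fibreDimAt f x = 1) :=
  K340.DimLocus.bc_fibreDimAt' (· = 1)

instance : (PDim.{u}).IsStableUnderBaseChange := all_isStableUnderBaseChange bc_dim

theorem descendsOne_dim : DescendsOne @LocallyOfFinitePresentation.{u} PDim :=
  descendsOne_all (descendsOne_of_isLocallyConstructible _ (fun f hf ↦ by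
    have : LocallyOfFinitePresentation f := hf
    exact Groth.Agent.Ega4fib.H172.FibDimConstr.isLocallyConstructible_fibreDimAt_eq f 1) bc_dim)

/-- The property of being a quasi-separated nodal family. -/
abbrev PNod : MorphismProperty Scheme.{u} := (@Flat ⊓ K340.Synt.P₂) ⊓ (PDim ⊓ PSing)

theorem pNod_iff {X Y : Scheme.{u}} (f : X ⟶ Y) [QuasiSeparated f] :
    PNod f ↔ Curv2.IsNodalFamily f := by
  constructor
  · rintro ⟨h1, h2, h3⟩
    refine K563.NodBwd.isNodalFamily f ((K340.Synt.isSyntomicMor_iff f).mpr h1) (fun x => ?_) h3.2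
    rw [Groth.Agent.Dual.H318.PureDim.localFibreDim_eq_fibreDimAt]
    exact h2.2 x
  · intro h
    have h1 := h.2.1
    refine ⟨(K340.Synt.isSyntomicMor_iff f).mp (K563.NodFwd.isSyntomicMor_of_isNodalFamily f h),
      ⟨h1, fun x => ?_⟩, ⟨inferInstance, inferInstance⟩, K563.NodFwd.formallyUnramified_of_isNodalFamily f h⟩
    have h2 := K563.NodFwd.localFibreDim_of_isNodalFamily f h x
    rwa [Groth.Agent.Dual.H318.PureDim.localFibreDim_eq_fibreDimAt] at h2

theorem descendsOne_nod : DescendsOne @LocallyOfFinitePresentation.{u} PNod :=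
  descendsOne_inf K340.Synt.descendsOne_CI (descendsOne_inf descendsOne_dim descendsOne_sing)

end K563.NodLim
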