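import Groth.Agent.Synt.K563.SchDict2
import Groth.Agent.Synt.K563.CIOver

/-!
# Schemes locally of finite type over a field: global complete intersection neighbourhoods and stalks
-/

set_option autoImplicit false

universe u

open CategoryTheory CategoryTheory.Limits AlgebraicGeometry TopologicalSpace

namespace K563.FieldSch

open Groth.Agent.Ega4dB.CIFibre Groth.Agent.Ega4dB.CIFieldExt K563.SchDict

/-- Stalks on an affine open. -/
theorem isCI_stalk_iff {X : Scheme.{u}} {U : X.Opens} (hU : IsAffineOpen U) (x : X) (hx : x ∈ U) :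
    Pi1.IsCompleteIntersection (X.presheaf.stalk x) ↔
      Pi1.IsCompleteIntersection (Localization.AtPrime (hU.primeIdealOf ⟨x, hx⟩).asIdeal) := by
  let _ : Algebra Γ(X, U) (X.presheaf.stalk x) := X.presheaf.algebra_section_stalk ⟨x, hx⟩
  have h := hU.isLocalization_stalk ⟨x, hx⟩
  have e : Localization.AtPrime (hU.primeIdealOf ⟨x, hx⟩).asIdeal ≃ₐ[Γ(X, U)] X.presheaf.stalk x :=
    IsLocalization.algEquiv (hU.primeIdealOf ⟨x, hx⟩).asIdeal.primeCompl _ _
  exact (Groth.Agent.Ega4dB.CITransport.isCompleteIntersection_iff_of_ringEquiv e.toRingEquiv).symm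

theorem mem_basicOpen_iff {X : Scheme.{u}} {U : X.Opens} (hU : IsAffineOpen U) (x : X) (hx : x ∈ U)
    (g : Γ(X, U)) : x ∈ X.basicOpen g ↔ g ∉ (hU.primeIdealOf ⟨x, hx⟩).asIdeal := by
  let _ : Algebra Γ(X, U) (X.presheaf.stalk x) := X.presheaf.algebra_section_stalk ⟨x, hx⟩
  have h := hU.isLocalization_stalk ⟨x, hx⟩
  rw [X.mem_basicOpen g x hx]
  exact IsLocalization.AtPrime.isUnit_to_map_iff (X.presheaf.stalk x)
    (hU.primeIdealOf ⟨x, hx⟩).asIdeal g

section Field

variable (k : Type u) [Field k] {X : Scheme.{u}} (p : X ⟶ Spec (CommRingCat.of k))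

/-- The structure map `k → Γ(X, U)`. -/
noncomputable abbrev str (U : X.Opens) : CommRingCat.of k ⟶ Γ(X, U) :=
  (Scheme.ΓSpecIso (CommRingCat.of k)).inv ≫ p.appLE ⊤ U le_top

/-- The structure map `k → O_{X,x}`. -/
noncomputable abbrev strStalk (x : X) : CommRingCat.of k ⟶ X.presheaf.stalk x :=
  (Scheme.ΓSpecIso (CommRingCat.of k)).inv ≫ p.appLE ⊤ ⊤ le_top ≫ X.presheaf.germ ⊤ x trivial

theorem str_map {U V : X.Opens} (h : V ≤ U) : str k p U ≫ X.presheaf.map (homOfLE h).op = str k p V := by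
  simp [str]

theorem str_germ {U : X.Opens} (x : X) (hx : x ∈ U) :
    str k p U ≫ X.presheaf.germ U x hx = strStalk k p x := by
  rw [strStalk, str, Category.assoc]
  congr 1
  rw [← p.appLE_map (V' := U) (U := ⊤) (V := ⊤) le_top (homOfLE le_top).op]
  rw [Category.assoc, X.presheaf.germ_res]

variable [LocallyOfFiniteType p]

theorem finiteType_str {U : X.Opens} (hU : IsAffineOpen U) : (str k p U).hom.FiniteType := by
  have h1 : (p.appLE ⊤ U le_top).hom.FiniteType :=
    HasRingHomProperty.appLE (P := @LocallyOfFiniteType) p inferInstance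
      ⟨⊤, isAffineOpen_top _⟩ ⟨U, hU⟩ le_top
  have h2 : ((Scheme.ΓSpecIso (CommRingCat.of k)).inv).hom.FiniteType :=
    RingHom.FiniteType.of_surjective _
      (Scheme.ΓSpecIso (CommRingCat.of k)).symm.commRingCatIsoToRingEquiv.surjective
  rw [CommRingCat.hom_comp]
  exact h1.comp h2

/-- (1) ⇒ (2). -/
theorem exists_globalCI (h : ∀ x : X, Pi1.IsCompleteIntersection (X.presheaf.stalk x)) (x : X) :
    ∃ U : X.affineOpens, x ∈ U.1 ∧
      letI := (str k p U.1).hom.toAlgebra
      Synt.IsGlobalCI k Γ(X, U.1) := by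
  obtain ⟨U, hU, hx, -⟩ := exists_isAffineOpen_mem_and_subset (X := X) (x := x) (U := ⊤) trivial
  algebraize_only [(str k p U).hom]
  have hft : Algebra.FiniteType k Γ(X, U) := finiteType_str k p hU
  obtain ⟨g, hg, hG⟩ := K563.GCI2.exists_isGlobalCI_of_isCI (k := k)
    (hU.primeIdealOf ⟨x, hx⟩).asIdeal ((isCI_stalk_iff hU x hx).mp (h x))
  refine ⟨⟨X.basicOpen g, hU.basicOpen g⟩, (mem_basicOpen_iff hU x hx g).mpr hg, ?_⟩
  let _ : Algebra k Γ(X, X.basicOpen g) := (str k p (X.basicOpen g)).hom.toAlgebra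
  have hloc := hU.isLocalization_basicOpen g
  have htow : IsScalarTower k Γ(X, U) Γ(X, X.basicOpen g) := by
    refine .of_algebraMap_eq' ?_
    have := str_map k p (X.basicOpen_le g)
    exact congrArg CommRingCat.Hom.hom this.symm
  have e : Localization.Away g ≃ₐ[Γ(X, U)] Γ(X, X.basicOpen g) :=
    IsLocalization.algEquiv (Submonoid.powers g) _ _
  exact K563.Pres.isGlobalCI_of_algEquiv (e.restrictScalars k) hG

omit [LocallyOfFiniteType p] in
/-- (2) ⇒ (1). -/
theorem isCI_of_globalCI {U : X.Opens} (hU : IsAffineOpen U)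
    (h : letI := (str k p U).hom.toAlgebra; Synt.IsGlobalCI k Γ(X, U)) (x : X) (hx : x ∈ U) :
    Pi1.IsCompleteIntersection (X.presheaf.stalk x) := by
  algebraize_only [(str k p U).hom]
  exact (isCI_stalk_iff hU x hx).mpr (K563.GCI.isCI_atPrime_of_isGlobalCI (k := k) h _)

/-- (1) ⇔ (3). -/
theorem isCIOver_stalk_iff (x : X) :
    (letI := (strStalk k p x).hom.toAlgebra
     Synt.IsCIOver k (X.presheaf.stalk x)) ↔ Pi1.IsCompleteIntersection (X.presheaf.stalk x) := by
  obtain ⟨U, hU, hx, -⟩ := exists_isAffineOpen_mem_and_subset (X := X) (x := x) (U := ⊤) trivial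
  let _ : Algebra k Γ(X, U) := (str k p U).hom.toAlgebra
  let _ : Algebra k (X.presheaf.stalk x) := (strStalk k p x).hom.toAlgebra
  let _ : Algebra Γ(X, U) (X.presheaf.stalk x) := X.presheaf.algebra_section_stalk ⟨x, hx⟩
  have hloc := hU.isLocalization_stalk ⟨x, hx⟩
  have htow : IsScalarTower k Γ(X, U) (X.presheaf.stalk x) := by
    refine .of_algebraMap_eq' ?_
    have := str_germ k p x hx
    exact congrArg CommRingCat.Hom.hom this.symm
  have hft : Algebra.FiniteType k Γ(X, U) := finiteType_str k p hU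
  have h1 : Algebra.EssFiniteType Γ(X, U) (X.presheaf.stalk x) :=
    Algebra.EssFiniteType.of_isLocalization _ (hU.primeIdealOf ⟨x, hx⟩).asIdeal.primeCompl
  have h2 : Algebra.EssFiniteType k (X.presheaf.stalk x) :=
    Algebra.EssFiniteType.comp k Γ(X, U) (X.presheaf.stalk x)
  exact K563.CIOver.isCIOver_iff.trans (and_iff_right h2)

end Field

end K563.FieldSch
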