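import Mathlib.RingTheory.TensorProduct.DirectLimitFG
import Mathlib.LinearAlgebra.TensorProduct.Vanishing
import Mathlib.RingTheory.FinitePresentation
import Mathlib.RingTheory.TensorProduct.Maps

/-!
# Weak colimits of algebras

A family `G i` of `R`-algebras over an `R`-algebra `A` is a weak colimit presentation if the maps to `A` are
jointly surjective, any two members map to a third one over `A`, and any element dying in `A` dies in some other
member over `A`. This weakening of a filtered colimit (no functoriality of the system is required) still allows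
us to spread out finitely presented algebras, and is stable under base change.
-/

set_option autoImplicit false

universe u v w

open TensorProduct

namespace K563.WeakColim

section Vanish

variable {R : Type*} [CommRing R] {M N : Type*} [AddCommGroup M] [Module R M] [AddCommGroup N] [Module R N]

theorem exists_vanishesTrivially {n : ℕ} (m : Fin n → M) (x : Fin n → N)
    (h : ∑ j, m j ⊗ₜ[R] x j = 0) :
    ∃ (r : ℕ) (w : Fin r → M), TensorProduct.VanishesTrivially R (Sum.elim m w) (Sum.elim x 0) := by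
  classical
  let P : Submodule R M := Submodule.span R (Set.range m)
  have hP : P.FG := Submodule.fg_span (Set.finite_range m)
  have hm : ∀ j, m j ∈ P := fun j => Submodule.subset_span ⟨j, rfl⟩
  let t : P ⊗[R] N := ∑ j, (⟨m j, hm j⟩ : P) ⊗ₜ[R] x j
  have ht : LinearMap.rTensor N P.subtype t = 0 := by
    simpa [t, map_sum] using h
  obtain ⟨Q, hPQ, hQ, h0⟩ := TensorProduct.eq_zero_of_fg_of_subtype_eq_zero hP ht
  obtain ⟨r, w, hw⟩ := Submodule.fg_iff_exists_fin_generating_family.mp hQ
  have hwQ : ∀ j, w j ∈ Q := fun j => hw ▸ Submodule.subset_span ⟨j, rfl⟩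
  refine ⟨r, w, ?_⟩
  let m' : Fin n ⊕ Fin r → Q := Sum.elim (fun j => ⟨m j, hPQ (hm j)⟩) (fun j => ⟨w j, hwQ j⟩)
  have h1 : Submodule.span R (Set.range m') = ⊤ := by
    rw [eq_top_iff]
    rintro ⟨y, hy⟩ -
    rw [← hw] at hy
    have h2 : (⟨y, hw ▸ hy⟩ : Q) ∈ Submodule.span R (Set.range fun j => (⟨w j, hwQ j⟩ : Q)) := by
      have h3 : Submodule.map Q.subtype (Submodule.span R (Set.range fun j => (⟨w j, hwQ j⟩ : Q))) =
          Submodule.span R (Set.range w) := by
        rw [Submodule.map_span, ← Set.range_comp]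
        rfl
      rw [← h3] at hy
      obtain ⟨z, hz, hzy⟩ := hy
      have : z = ⟨y, hw ▸ (h3 ▸ ⟨z, hz, hzy⟩)⟩ := Subtype.ext hzy
      rw [← this]
      exact hz
    refine Submodule.span_mono ?_ h2
    rintro _ ⟨j, rfl⟩
    exact ⟨Sum.inr j, rfl⟩
  have h2 : ∑ i, m' i ⊗ₜ[R] (Sum.elim x 0 : Fin n ⊕ Fin r → N) i = 0 := by
    rw [Fintype.sum_sum_type]
    simp only [t, map_sum, LinearMap.rTensor_tmul] at h0
    simp only [m', Sum.elim_inl, Sum.elim_inr, Pi.zero_apply, TensorProduct.tmul_zero,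
      Finset.sum_const_zero, add_zero]
    exact h0
  obtain ⟨k, a, y, h3, h4⟩ := TensorProduct.vanishesTrivially_of_sum_tmul_eq_zero R h1 h2
  refine ⟨k, a, y, h3, fun j => ?_⟩
  have := congrArg Q.subtype (h4 j)
  rw [map_sum, map_zero] at this
  rw [← this]
  refine Finset.sum_congr rfl fun i _ => ?_
  rcases i with i | i <;> simp [m']

end Vanish

variable {R : Type u} [CommRing R] {ι : Type v} (G : ι → Type u) [∀ i, CommRing (G i)] [∀ i, Algebra R (G i)]
  (A : Type u) [CommRing A] [Algebra R A] (g : ∀ i, G i →ₐ[R] A)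

/-- Weak colimit presentations of an algebra. -/
structure IsWeakColim : Prop where
  nonempty : Nonempty ι
  dir : ∀ i j, ∃ k, (∃ φ : G i →ₐ[R] G k, (g k).comp φ = g i) ∧ (∃ φ : G j →ₐ[R] G k, (g k).comp φ = g j)
  surj : ∀ a : A, ∃ i, ∃ x : G i, g i x = a
  ker : ∀ i (x : G i), g i x = 0 → ∃ j, ∃ φ : G i →ₐ[R] G j, (g j).comp φ = g i ∧ φ x = 0

variable {G A g}

namespace IsWeakColim

variable (H : IsWeakColim G A g)

include H

theorem kill (i : ι) (s : Finset (G i)) (hs : ∀ x ∈ s, g i x = 0) :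
    ∃ j, ∃ φ : G i →ₐ[R] G j, (g j).comp φ = g i ∧ ∀ x ∈ s, φ x = 0 := by
  classical
  induction s using Finset.induction_on with
  | empty => exact ⟨i, AlgHom.id R _, by ext; rfl, by simp⟩
  | insert a s ha ih =>
    obtain ⟨j, φ, h1, h2⟩ := ih fun x hx => hs x (Finset.mem_insert_of_mem hx)
    have h3 : g j (φ a) = 0 := by
      rw [← AlgHom.comp_apply, h1]
      exact hs a (Finset.mem_insert_self _ _)
    obtain ⟨k, ψ, h4, h5⟩ := H.ker j (φ a) h3
    refine ⟨k, ψ.comp φ, by rw [← AlgHom.comp_assoc, h4, h1], fun x hx => ?_⟩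
    rcases Finset.mem_insert.mp hx with rfl | hx
    · exact h5
    · rw [AlgHom.comp_apply, h2 x hx, map_zero]

theorem kill' (i : ι) {σ : Type*} [Finite σ] (x : σ → G i) (hs : ∀ s, g i (x s) = 0) :
    ∃ j, ∃ φ : G i →ₐ[R] G j, (g j).comp φ = g i ∧ ∀ s, φ (x s) = 0 := by
  classical
  have := Fintype.ofFinite σ
  obtain ⟨j, φ, h1, h2⟩ := H.kill i (Finset.univ.image x) (by simpa using hs)
  exact ⟨j, φ, h1, fun s => h2 _ (by simp)⟩

theorem lift_finset (i : ι) (s : Finset A) :
    ∃ j, ∃ φ : G i →ₐ[R] G j, (g j).comp φ = g i ∧ ∀ a ∈ s, ∃ x : G j, g j x = a := by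
  classical
  induction s using Finset.induction_on with
  | empty => exact ⟨i, AlgHom.id R _, by ext; rfl, by simp⟩
  | insert a s ha ih =>
    obtain ⟨j, φ, h1, h2⟩ := ih
    obtain ⟨l, y, hy⟩ := H.surj a
    obtain ⟨k, ⟨ψ, h3⟩, ⟨θ, h4⟩⟩ := H.dir j l
    refine ⟨k, ψ.comp φ, by rw [← AlgHom.comp_assoc, h3, h1], fun x hx => ?_⟩
    rcases Finset.mem_insert.mp hx with rfl | hx
    · exact ⟨θ y, by rw [← AlgHom.comp_apply, h4, hy]⟩
    · obtain ⟨z, hz⟩ := h2 x hx
      exact ⟨ψ z, by rw [← AlgHom.comp_apply, h3, hz]⟩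

theorem lift_family (i : ι) {σ : Type*} [Finite σ] (a : σ → A) :
    ∃ j, ∃ φ : G i →ₐ[R] G j, (g j).comp φ = g i ∧ ∃ x : σ → G j, ∀ s, g j (x s) = a s := by
  classical
  have := Fintype.ofFinite σ
  obtain ⟨j, φ, h1, h2⟩ := H.lift_finset i (Finset.univ.image a)
  choose x hx using fun s => h2 (a s) (by simp)
  exact ⟨j, φ, h1, x, hx⟩

/-- A map from a finitely presented algebra to the weak colimit factors through a stage. -/
theorem exists_factor {P : Type*} [CommRing P] [Algebra R P] [Algebra.FinitePresentation R P]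
    (u : P →ₐ[R] A) : ∃ i, ∃ v : P →ₐ[R] G i, (g i).comp v = u := by
  classical
  obtain ⟨n, f, hf, s, hs⟩ := Algebra.FinitePresentation.out (R := R) (A := P)
  obtain ⟨i₀⟩ := H.nonempty
  obtain ⟨i, -, -, x, hx⟩ := H.lift_family i₀ fun j : Fin n => u (f (MvPolynomial.X j))
  let w : MvPolynomial (Fin n) R →ₐ[R] G i := MvPolynomial.aeval x
  have hw : (g i).comp w = u.comp f := by
    ext j
    simp [w, hx]
  obtain ⟨j, φ, h1, h2⟩ := H.kill i (s.image w) (by
    intro y hy
    obtain ⟨r, hr, rfl⟩ := Finset.mem_image.mp hy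
    have : r ∈ RingHom.ker f.toRingHom := hs ▸ Ideal.subset_span hr
    rw [← AlgHom.comp_apply, hw, AlgHom.comp_apply]
    have h3 : f r = 0 := this
    rw [h3, map_zero])
  have hker : RingHom.ker f.toRingHom ≤ RingHom.ker (φ.comp w).toRingHom := by
    rw [← hs, Ideal.span_le]
    intro r hr
    exact h2 (w r) (Finset.mem_image_of_mem _ hr)
  refine ⟨j, AlgHom.liftOfSurjective f hf (φ.comp w) hker, ?_⟩
  rw [← AlgHom.cancel_right hf, AlgHom.comp_assoc, AlgHom.liftOfSurjective_comp, ← AlgHom.comp_assoc, h1, hw]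

/-- Weak colimits are stable under base change. -/
theorem baseChange (B : Type u) [CommRing B] [Algebra R B] :
    IsWeakColim (R := B) (fun i => B ⊗[R] G i) (B ⊗[R] A)
      (fun i => Algebra.TensorProduct.map (AlgHom.id B B) (g i)) where
  nonempty := H.nonempty
  dir i j := by
    obtain ⟨k, ⟨φ, h1⟩, ⟨ψ, h2⟩⟩ := H.dir i j
    refine ⟨k, ⟨Algebra.TensorProduct.map (AlgHom.id B B) φ, ?_⟩,
      ⟨Algebra.TensorProduct.map (AlgHom.id B B) ψ, ?_⟩⟩
    · rw [← Algebra.TensorProduct.map_comp, h1, AlgHom.comp_id]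
    · rw [← Algebra.TensorProduct.map_comp, h2, AlgHom.comp_id]
  surj z := by
    classical
    obtain ⟨n, b, a, rfl⟩ := TensorProduct.exists_sum_tmul_eq z
    obtain ⟨i₀⟩ := H.nonempty
    obtain ⟨i, -, -, x, hx⟩ := H.lift_family i₀ a
    refine ⟨i, ∑ j, b j ⊗ₜ x j, ?_⟩
    rw [map_sum]
    exact Finset.sum_congr rfl fun j _ => by simp [hx]
  ker i z hz := by
    classical
    obtain ⟨n, b, x, rfl⟩ := TensorProduct.exists_sum_tmul_eq z
    have h0 : ∑ j, b j ⊗ₜ[R] (g i (x j)) = 0 := by
      rw [map_sum] at hz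
      rw [← hz]
      exact Finset.sum_congr rfl fun j _ => by simp
    obtain ⟨r, w, k, a, y, h1, h2⟩ := exists_vanishesTrivially b (fun j => g i (x j)) h0
    obtain ⟨j, φ, h3, y', hy'⟩ := H.lift_family i y
    obtain ⟨l, ψ, h4, h5⟩ := H.kill' j (fun s : Fin n ⊕ Fin r =>
      Sum.elim (fun t => φ (x t)) 0 s - ∑ t, a s t • y' t) (by
        intro s
        rw [map_sub, map_sum, sub_eq_zero]
        have h6 := h1 s
        simp only [map_smul, hy']
        rw [← h6]
        rcases s with s | s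
        · simp only [Sum.elim_inl]
          rw [← AlgHom.comp_apply, h3]
        · simp)
    refine ⟨l, Algebra.TensorProduct.map (AlgHom.id B B) (ψ.comp φ), ?_, ?_⟩
    · rw [← Algebra.TensorProduct.map_comp, ← AlgHom.comp_assoc, h4, h3, AlgHom.comp_id]
    · have h6 : ∀ s : Fin n ⊕ Fin r, (Sum.elim (fun t => ψ (φ (x t))) 0 s : G l) = ∑ t, a s t • ψ (y' t) := by
        intro s
        have := h5 s
        rw [map_sub, map_sum, sub_eq_zero] at this
        simp only [map_smul] at this
        rw [← this]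
        rcases s with s | s <;> simp
      have h7 := TensorProduct.sum_tmul_eq_zero_of_vanishesTrivially R (m := Sum.elim b w)
        (n := fun s => (Sum.elim (fun t => ψ (φ (x t))) 0 s : G l)) ⟨k, a, fun t => ψ (y' t), h6, h2⟩
      rw [Fintype.sum_sum_type] at h7
      simp only [Sum.elim_inl, Sum.elim_inr, Pi.zero_apply, TensorProduct.tmul_zero,
        Finset.sum_const_zero, add_zero] at h7
      rw [map_sum, ← h7]
      exact Finset.sum_congr rfl fun j _ => by simp

end IsWeakColim

end K563.WeakColim
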