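import Groth.Agent.Synt.K563.SynModel
import Groth.Agent.Synt.K563.WeakColim

/-!
# Syntomic base changes descend along weak colimits
-/

set_option autoImplicit false

universe u v

open TensorProduct

namespace K563.SynColim

open K563.WeakColim K563.SynBC K563.SynModel

theorem IsWeakColim.restrictScalars {R : Type u} (R₀ : Type u) [CommRing R] [CommRing R₀] [Algebra R₀ R]
    {ι : Type v} {G : ι → Type u} [∀ i, CommRing (G i)] [∀ i, Algebra R (G i)] [∀ i, Algebra R₀ (G i)]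
    [∀ i, IsScalarTower R₀ R (G i)] {A : Type u} [CommRing A] [Algebra R A] [Algebra R₀ A]
    [IsScalarTower R₀ R A] {g : ∀ i, G i →ₐ[R] A} (H : IsWeakColim G A g) :
    IsWeakColim G A (fun i => (g i).restrictScalars R₀) where
  nonempty := H.nonempty
  dir i j := by
    obtain ⟨k, ⟨φ, h1⟩, ⟨ψ, h2⟩⟩ := H.dir i j
    exact ⟨k, ⟨φ.restrictScalars R₀, by ext x; exact DFunLike.congr_fun h1 x⟩,
      ⟨ψ.restrictScalars R₀, by ext x; exact DFunLike.congr_fun h2 x⟩⟩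
  surj := H.surj
  ker i x hx := by
    obtain ⟨j, φ, h1, h2⟩ := H.ker i x hx
    exact ⟨j, φ.restrictScalars R₀, by ext x; exact DFunLike.congr_fun h1 x, h2⟩

attribute [local instance] Algebra.TensorProduct.rightAlgebra

theorem isSyntomic_baseChange {A C A' : Type u} [CommRing A] [CommRing C] [Algebra A C] [CommRing A']
    [Algebra A A'] (h : Synt.IsSyntomic A C) : Synt.IsSyntomic A' (A' ⊗[A] C) :=
  isSyntomic_of_isPushout (R := A) (S := C) (R' := A') (S' := A' ⊗[A] C) h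

theorem exists_isSyntomic_of_isWeakColim {R₀ B₀ C₀ C' : Type u} [CommRing R₀] [CommRing B₀] [CommRing C₀]
    [CommRing C'] [Algebra R₀ B₀] [Algebra B₀ C₀] [Algebra R₀ C'] [IsNoetherianRing R₀]
    [Algebra.FiniteType R₀ C'] (e : C₀ ≃ₐ[B₀] B₀ ⊗[R₀] C') {ι : Type v} {G : ι → Type u}
    [∀ i, CommRing (G i)] [∀ i, Algebra B₀ (G i)] [∀ i, Algebra R₀ (G i)]
    [∀ i, IsScalarTower R₀ B₀ (G i)] {B : Type u} [CommRing B] [Algebra B₀ B] [Algebra R₀ B]
    [IsScalarTower R₀ B₀ B] {g : ∀ i, G i →ₐ[B₀] B} (H : IsWeakColim G B g)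
    (h : Synt.IsSyntomic B (B ⊗[B₀] C₀)) : ∃ i, Synt.IsSyntomic (G i) (G i ⊗[B₀] C₀) := by
  have e1 : ∀ (D : Type u) [CommRing D] [Algebra B₀ D] [Algebra R₀ D] [IsScalarTower R₀ B₀ D],
      Nonempty (D ⊗[B₀] C₀ ≃ₐ[D] D ⊗[R₀] C') := fun D _ _ _ _ =>
    ⟨(Algebra.TensorProduct.congr (AlgEquiv.refl (R := D) (A₁ := D)) e).trans
      (Algebra.TensorProduct.cancelBaseChange R₀ B₀ D D C')⟩
  obtain ⟨eB⟩ := e1 B
  obtain ⟨A₂, _, _, _, h1, h2, h3⟩ := exists_syntomic_model (A := R₀) (C := C') (R := B)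
    (K562.Rel.isSyntomic_of_algEquiv eB h)
  have : Algebra.FinitePresentation R₀ A₂ := Algebra.FinitePresentation.of_finiteType.mp h2
  obtain ⟨i, v, -⟩ := (IsWeakColim.restrictScalars R₀ H).exists_factor (IsScalarTower.toAlgHom R₀ A₂ B)
  let _ : Algebra A₂ (G i) := v.toRingHom.toAlgebra
  have : IsScalarTower R₀ A₂ (G i) := IsScalarTower.of_algebraMap_eq fun x => (v.commutes x).symm
  obtain ⟨eG⟩ := e1 (G i)
  refine ⟨i, K562.Rel.isSyntomic_of_algEquiv eG.symm ?_⟩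
  exact K562.Rel.isSyntomic_of_algEquiv (Algebra.TensorProduct.cancelBaseChange R₀ A₂ (G i) (G i) C')
    (isSyntomic_baseChange h3)

end K563.SynColim
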