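import Groth.Agent.Synt.K563.GCI

/-!
# Global complete intersection neighbourhoods over a field

* `exists_isGlobalCI`: if `ker π` is generated by `c` elements at a prime `p` of `k[x]` and the primes between them and
  `p` have height at least `c`, then some basic open neighbourhood in `Spec S` is a global complete intersection;
* `exists_isGlobalCI_of_isCI`, `isLCIOver_iff`: `S` is a local complete intersection over `k` iff its local rings are
  complete intersections.
-/

set_option autoImplicit false

universe u

namespace K563.GCI2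

open IsLocalRing RingTheory.Sequence K563.Pres K563.DimLoc K563.GCI

/-- A finitely generated ideal `I` with `I P_p ≤ J P_p`: there is `h ∉ p` with `h I ≤ J`. -/
theorem exists_mul_mem_of_map_le {P : Type u} [CommRing P] (p : Ideal P) [p.IsPrime] (I J : Ideal P)
    (hI : I.FG) (h : I.map (algebraMap P (Localization.AtPrime p)) ≤
      J.map (algebraMap P (Localization.AtPrime p))) : ∃ a ∉ p, ∀ x ∈ I, a * x ∈ J := by
  classical
  obtain ⟨s, rfl⟩ := hI
  have h1 : ∀ x ∈ s, ∃ m ∉ p, m * x ∈ J := by
    intro x hx
    have h2 : algebraMap P (Localization.AtPrime p) x ∈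
        J.map (algebraMap P (Localization.AtPrime p)) :=
      h (Ideal.mem_map_of_mem _ (Submodule.subset_span hx))
    obtain ⟨m, hm, hmx⟩ := (IsLocalization.algebraMap_mem_map_algebraMap_iff p.primeCompl _ J x).mp h2
    exact ⟨m, hm, hmx⟩
  choose! m hm hmx using h1
  refine ⟨∏ x ∈ s, m x, ?_, ?_⟩
  · intro h3
    obtain ⟨x, hx, h4⟩ := (Ideal.IsPrime.prod_mem_iff (p := p)).mp h3
    exact hm x hx h4
  · intro x hx
    refine Submodule.span_induction (p := fun x _ => (∏ x ∈ s, m x) * x ∈ J) ?_ ?_ ?_ ?_ hx
    · intro y hy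
      rw [← Finset.mul_prod_erase s m hy]
      have : m y * (∏ x ∈ s.erase y, m x) * y = (∏ x ∈ s.erase y, m x) * (m y * y) := by ring
      rw [this]
      exact J.mul_mem_left _ (hmx y hy)
    · simp
    · intro y z _ _ hy hz
      rw [mul_add]
      exact J.add_mem hy hz
    · intro a y _ hy
      rw [smul_eq_mul, mul_left_comm]
      exact J.mul_mem_left _ hy

/-- In a Noetherian ring: given `J ≤ p` there is `h ∉ p` such that every prime containing `J` but not `h` contains a
minimal prime of `J` contained in `p`. -/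
theorem exists_notMem_minimalPrimes {P : Type u} [CommRing P] [IsNoetherianRing P] (p : Ideal P)
    [hp : p.IsPrime] (J : Ideal P) : ∃ a ∉ p, ∀ p' : Ideal P, p'.IsPrime → J ≤ p' → a ∉ p' →
      ∃ m ∈ J.minimalPrimes, m ≤ p' ∧ m ≤ p := by
  classical
  have hfin := Ideal.finite_minimalPrimes_of_isNoetherianRing P J
  let s : Finset (Ideal P) := hfin.toFinset.filter (fun m => ¬ m ≤ p)
  have h1 : ¬ s.inf id ≤ p := by
    rw [hp.inf_le']
    rintro ⟨m, hm, h⟩
    exact (Finset.mem_filter.mp hm).2 h
  obtain ⟨a, ha, hap⟩ := SetLike.not_le_iff_exists.mp h1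
  refine ⟨a, hap, fun p' hp' hJ hap' => ?_⟩
  obtain ⟨m, hm, hmp'⟩ := Ideal.exists_minimalPrimes_le (J := p') hJ
  refine ⟨m, hm, hmp', ?_⟩
  by_contra hc
  have : s.inf id ≤ m := Finset.inf_le (f := id)
    (Finset.mem_filter.mpr ⟨hfin.mem_toFinset.mpr hm, hc⟩)
  exact hap' (hmp' (this ha))

/-- Localizing a quotient whose kernel is killed by the element one inverts. -/
theorem isLocalization_away_comp {B S T : Type u} [CommRing B] [CommRing S] [CommRing T]
    [Algebra B S] [Algebra S T] [Algebra B T] [IsScalarTower B S T]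
    (hsurj : Function.Surjective (algebraMap B S)) (h : B)
    (hker : ∀ x ∈ RingHom.ker (algebraMap B S), h * x = 0)
    [IsLocalization.Away (algebraMap B S h) T] : IsLocalization.Away h T := by
  refine (isLocalization_iff _ _).mpr ⟨?_, ?_, ?_⟩
  · rintro ⟨_, n, rfl⟩
    rw [IsScalarTower.algebraMap_apply B S T, map_pow]
    exact IsLocalization.map_units T
      (⟨algebraMap B S h ^ n, n, rfl⟩ : Submonoid.powers (algebraMap B S h))
  · intro z
    obtain ⟨⟨s, ⟨_, n, rfl⟩⟩, hs⟩ := IsLocalization.surj (Submonoid.powers (algebraMap B S h)) z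
    obtain ⟨b, rfl⟩ := hsurj s
    refine ⟨(b, ⟨h ^ n, n, rfl⟩), ?_⟩
    rw [IsScalarTower.algebraMap_apply B S T, IsScalarTower.algebraMap_apply B S T b]
    simpa using hs
  · intro x y hxy
    rw [IsScalarTower.algebraMap_apply B S T, IsScalarTower.algebraMap_apply B S T y] at hxy
    obtain ⟨⟨_, n, rfl⟩, hc⟩ := (IsLocalization.eq_iff_exists
      (Submonoid.powers (algebraMap B S h)) T).mp hxy
    have h1 : h ^ n * (x - y) ∈ RingHom.ker (algebraMap B S) := by
      rw [RingHom.mem_ker, map_mul, map_pow, map_sub, mul_sub, sub_eq_zero]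
      exact hc
    have h2 := hker _ h1
    refine ⟨⟨h ^ (n + 1), n + 1, rfl⟩, ?_⟩
    change h ^ (n + 1) * x = h ^ (n + 1) * y
    rw [← sub_eq_zero, ← mul_sub, pow_succ', mul_assoc]
    exact h2

/-- A ring map inducing a strictly monotone map on spectra, whose values have height at least `c`. -/
theorem ringKrullDim_le_of_forall_height {P T : Type u} [CommRing P] [CommRing T] (f : P →+* T)
    (hf : StrictMono (PrimeSpectrum.comap f)) {n c : ℕ} (hP : ringKrullDim P = n)
    (hc : ∀ q : Ideal T, q.IsPrime → (c : ℕ∞) ≤ (q.comap f).height) :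
    ringKrullDim T ≤ ((n - c : ℕ) : WithBot ℕ∞) := by
  refine iSup_le fun l => ?_
  let l' : LTSeries (PrimeSpectrum P) := l.map (PrimeSpectrum.comap f) hf
  have h1 : (l.length : ℕ∞) ≤ Order.coheight l'.head :=
    Order.length_le_coheight (p := l') le_rfl
  have h2 : (c : ℕ∞) ≤ Order.height l'.head := by
    have h4 := hc _ l.head.2
    have h5 : l'.head.asIdeal = l.head.asIdeal.comap f := rfl
    rwa [← h5, PrimeSpectrum.height_eq_orderHeight] at h4
  have hne : Nonempty (PrimeSpectrum P) := ⟨l'.head⟩
  have h3 : ((c + l.length : ℕ) : WithBot ℕ∞) ≤ ringKrullDim P := by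
    rw [ringKrullDim, Order.krullDim_eq_iSup_height_add_coheight_of_nonempty]
    have h5 : ((c + l.length : ℕ) : ℕ∞) ≤ Order.height l'.head + Order.coheight l'.head := by
      push_cast
      exact add_le_add h2 h1
    have h6 := h5.trans (le_iSup (fun a : PrimeSpectrum P => Order.height a + Order.coheight a) _)
    exact_mod_cast h6
  rw [hP] at h3
  have h4 : c + l.length ≤ n := by exact_mod_cast h3
  have : l.length ≤ n - c := by omega
  exact_mod_cast this

section Field

variable {k : Type u} [Field k]

theorem exists_isGlobalCI {n c : ℕ} {S : Type u} [CommRing S] [Algebra k S]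
    (π : MvPolynomial (Fin n) k →ₐ[k] S) (hπ : Function.Surjective π) (q : Ideal S) [q.IsPrime]
    (p : Ideal (MvPolynomial (Fin n) k)) [p.IsPrime] (hp : p = q.comap π.toRingHom)
    (r : Fin c → MvPolynomial (Fin n) k) (hr : ∀ i, π (r i) = 0)
    (hker : (RingHom.ker π.toRingHom).map (algebraMap _ (Localization.AtPrime p)) ≤
      (Ideal.span (Set.range r)).map (algebraMap _ (Localization.AtPrime p)))
    (hht : ∀ p' : Ideal (MvPolynomial (Fin n) k), p'.IsPrime → Ideal.span (Set.range r) ≤ p' →
      p' ≤ p → (c : ℕ∞) ≤ p'.height) :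
    ∃ g ∉ q, Synt.IsGlobalCI k (Localization.Away g) := by
  let P := MvPolynomial (Fin n) k
  let J : Ideal P := Ideal.span (Set.range r)
  have hJker : J ≤ RingHom.ker π.toRingHom := by
    rw [Ideal.span_le]
    rintro _ ⟨i, rfl⟩
    exact hr i
  obtain ⟨h₁, h₁p, hh₁⟩ := exists_mul_mem_of_map_le p _ J (IsNoetherian.noetherian _) hker
  obtain ⟨h₂, h₂p, hh₂⟩ := exists_notMem_minimalPrimes p J
  let h : P := h₁ * h₂
  have hhp : h ∉ p := fun hh => (‹p.IsPrime›.mem_or_mem hh).elim h₁p h₂p
  refine ⟨π h, fun hh => hhp (by rw [hp]; exact hh), ?_⟩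
  let T := Localization.Away (π h)
  let B := P ⧸ J
  let _ : Algebra B S := (Ideal.Quotient.lift J π.toRingHom (fun a ha => hJker ha)).toAlgebra
  have hkBS : IsScalarTower k B S := by
    refine ⟨fun a b s => ?_⟩
    obtain ⟨b, rfl⟩ := Ideal.Quotient.mk_surjective b
    have h1 : a • (Ideal.Quotient.mk J b) = Ideal.Quotient.mk J (a • b) := rfl
    rw [h1, Algebra.smul_def, Algebra.smul_def (Ideal.Quotient.mk J b)]
    change π (a • b) * s = a • (π b * s)
    rw [map_smul, smul_mul_assoc]
  have : IsScalarTower B S T := inferInstance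
  have hBS : algebraMap B S (Ideal.Quotient.mk J h) = π h := rfl
  have hsurj : Function.Surjective (algebraMap B S) := by
    intro s
    obtain ⟨x, rfl⟩ := hπ s
    exact ⟨Ideal.Quotient.mk J x, rfl⟩
  have hkill : ∀ x ∈ RingHom.ker (algebraMap B S), Ideal.Quotient.mk J h * x = 0 := by
    intro x hx
    obtain ⟨x, rfl⟩ := Ideal.Quotient.mk_surjective x
    rw [← map_mul, Ideal.Quotient.eq_zero_iff_mem]
    have : x ∈ RingHom.ker π.toRingHom := hx
    have h3 := hh₁ x this
    have h4 : h * x = h₂ * (h₁ * x) := by simp only [h]; ring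
    rw [h4]
    exact J.mul_mem_left _ h3
  have hlocS : IsLocalization.Away (algebraMap B S (Ideal.Quotient.mk J h)) T := by
    rw [hBS]; infer_instance
  have hlocB : IsLocalization.Away (Ideal.Quotient.mk J h) T :=
    isLocalization_away_comp hsurj _ hkill
  have htow : IsScalarTower k B T := inferInstance
  have hpres : HasPres k T (n + 1) (c + 1) :=
    (HasPres.quotient r).away (Ideal.Quotient.mk J h) T
  have hunit : IsUnit (algebraMap S T (π h)) := IsLocalization.Away.algebraMap_isUnit (π h)
  -- upper bound for the dimension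
  have hP : ringKrullDim P = n := by
    rw [MvPolynomial.ringKrullDim_of_isNoetherianRing]
    simp [ringKrullDim_eq_zero_of_field]
  have hmono : StrictMono (PrimeSpectrum.comap ((algebraMap S T).comp π.toRingHom)) := by
    have h1 : StrictMono (PrimeSpectrum.comap π.toRingHom) :=
      RingHom.strictMono_comap_of_surjective hπ
    have h2 : StrictMono (PrimeSpectrum.comap (algebraMap S T)) := by
      refine Monotone.strictMono_of_injective ?_ ?_
      · intro a b hab
        exact Ideal.comap_mono hab
      · exact PrimeSpectrum.localization_comap_injective T (Submonoid.powers (π h))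
    rw [PrimeSpectrum.comap_comp]
    exact h1.comp h2
  have hhtT : ∀ Q : Ideal T, Q.IsPrime →
      (c : ℕ∞) ≤ (Q.comap ((algebraMap S T).comp π.toRingHom)).height := by
    intro Q hQ
    have hJQ : J ≤ Q.comap ((algebraMap S T).comp π.toRingHom) := by
      intro x hx
      have : π x = 0 := hJker hx
      change algebraMap S T (π x) ∈ Q
      rw [this, map_zero]
      exact zero_mem _
    have hhQ : h ∉ Q.comap ((algebraMap S T).comp π.toRingHom) := by
      intro hh
      exact hQ.ne_top (Ideal.eq_top_of_isUnit_mem _ hh hunit)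
    have hh₂Q : h₂ ∉ Q.comap ((algebraMap S T).comp π.toRingHom) := fun hh =>
      hhQ (Ideal.mul_mem_left _ _ hh)
    obtain ⟨m, hm, hmQ, hmp⟩ := hh₂ _ (Ideal.comap_isPrime _ Q) hJQ hh₂Q
    exact (hht m hm.1.1 hm.1.2 hmp).trans (Ideal.height_mono hmQ)
  have hub := ringKrullDim_le_of_forall_height _ hmono hP hhtT
  have hTnt : Nontrivial T := by
    have hq : (q.map (algebraMap S T)) ≠ ⊤ := by
      have : Disjoint (Submonoid.powers (π h) : Set S) (q : Set S) := by
        rw [Ideal.disjoint_powers_iff_notMem _ ‹q.IsPrime›.isRadical]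
        exact fun hh => hhp (by rw [hp]; exact hh)
      exact (IsLocalization.isPrime_of_isPrime_disjoint (Submonoid.powers (π h)) T q ‹_› this).ne_top
    exact ⟨⟨0, 1, fun h0 => hq ((Ideal.eq_top_iff_one _).mpr (h0 ▸ zero_mem _))⟩⟩
  have hlb := le_ringKrullDim_of_hasPres hpres
  have hcn : c ≤ n := by
    obtain ⟨m, hm⟩ := Ideal.exists_maximal T
    exact (ringKrullDim_quotient_le_of_le_height k _ (hhtT m hm.isPrime)).1
  rw [isGlobalCI_iff]
  refine Or.inr ⟨n + 1, c + 1, by omega, hpres, le_antisymm ?_ hlb⟩
  rwa [Nat.add_sub_add_right]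

/-- If the local ring at `q` is a complete intersection, then so is some basic open neighbourhood, globally. -/
theorem exists_isGlobalCI_of_isCI {S : Type u} [CommRing S] [Algebra k S] [Algebra.FiniteType k S]
    (q : Ideal S) [q.IsPrime] (h : Pi1.IsCompleteIntersection (Localization.AtPrime q)) :
    ∃ g ∉ q, Synt.IsGlobalCI k (Localization.Away g) := by
  obtain ⟨n, π, hπ⟩ := Algebra.FiniteType.iff_quotient_mvPolynomial''.mp ‹Algebra.FiniteType k S›
  let p : Ideal (MvPolynomial (Fin n) k) := q.comap π.toRingHom
  have hp : p.IsPrime := Ideal.comap_isPrime _ _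
  rw [Groth.Agent.Ega4dB.CIAlg.isCompleteIntersection_localization_iff π.toRingHom hπ q p rfl] at h
  obtain ⟨rs, hreg, hrs⟩ := h
  have hmem : ∀ i : Fin rs.length, rs.get i ∈ (RingHom.ker π.toRingHom).map
      (algebraMap (MvPolynomial (Fin n) k) (Localization.AtPrime p)) := by
    intro i
    rw [← hrs]
    exact Ideal.subset_span (List.get_mem rs i)
  have hex : ∀ i : Fin rs.length, ∃ a : MvPolynomial (Fin n) k, π a = 0 ∧
      ∃ s ∉ p, rs.get i * algebraMap _ (Localization.AtPrime p) s = algebraMap _ _ a := by
    intro i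
    obtain ⟨⟨a, s⟩, has⟩ := (IsLocalization.mem_map_algebraMap_iff p.primeCompl _).mp (hmem i)
    exact ⟨a, a.2, s, s.2, has⟩
  choose r hr s hs hrs' using hex
  have hspan : (Ideal.span (Set.range r)).map (algebraMap _ (Localization.AtPrime p)) =
      Ideal.ofList rs := by
    rw [Ideal.map_span, ← Set.range_comp]
    apply le_antisymm
    · rw [Ideal.span_le]
      rintro _ ⟨i, rfl⟩
      change algebraMap _ _ (r i) ∈ Ideal.ofList rs
      rw [← hrs' i]
      exact Ideal.mul_mem_right _ _ (Ideal.subset_span (List.get_mem rs i))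
    · rw [Ideal.ofList, Ideal.span_le]
      intro x hx
      obtain ⟨i, rfl⟩ := List.get_of_mem hx
      have hu : IsUnit (algebraMap _ (Localization.AtPrime p) (s i)) :=
        IsLocalization.map_units (Localization.AtPrime p) (⟨s i, hs i⟩ : p.primeCompl)
      have h1 : rs.get i * algebraMap _ (Localization.AtPrime p) (s i) ∈
          Ideal.span (Set.range (algebraMap _ (Localization.AtPrime p) ∘ r)) := by
        rw [hrs' i]
        exact Ideal.subset_span ⟨i, rfl⟩
      exact (Ideal.mul_unit_mem_iff_mem _ hu).mp h1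
  refine exists_isGlobalCI π hπ q p rfl r hr ?_ ?_
  · rw [hspan, hrs]
  · intro p' hp' hrp' hp'p
    have hdisj : Disjoint (p.primeCompl : Set (MvPolynomial (Fin n) k)) (p' : Set _) := by
      rw [Set.disjoint_left]
      exact fun x hx hx' => hx (hp'p hx')
    have hprime : (p'.map (algebraMap _ (Localization.AtPrime p))).IsPrime :=
      IsLocalization.isPrime_of_isPrime_disjoint p.primeCompl _ p' hp' hdisj
    have hheight : (p'.map (algebraMap _ (Localization.AtPrime p))).height = p'.height :=
      IsLocalization.height_map_of_disjoint p.primeCompl p' hdisj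
    rw [← hheight]
    refine length_le_height rs _ ?_ hreg.toIsWeaklyRegular
    intro x hx
    have h1 : x ∈ Ideal.ofList rs := Ideal.subset_span hx
    rw [← hspan] at h1
    exact Ideal.map_mono hrp' h1

/-- Local rings of a localization away from an element. -/
theorem isCI_away_iff {S : Type u} [CommRing S] (g : S) (Q : Ideal (Localization.Away g)) [Q.IsPrime]
    (q : Ideal S) [q.IsPrime] (hq : q = Q.comap (algebraMap S (Localization.Away g))) :
    Pi1.IsCompleteIntersection (Localization.AtPrime Q) ↔
      Pi1.IsCompleteIntersection (Localization.AtPrime q) := by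
  subst hq
  have h1 : IsLocalization.AtPrime (Localization.AtPrime Q)
      (Q.comap (algebraMap S (Localization.Away g))) :=
    IsLocalization.isLocalization_isLocalization_atPrime_isLocalization (Submonoid.powers g)
      (Localization.AtPrime Q) Q
  have e : Localization.AtPrime (Q.comap (algebraMap S (Localization.Away g))) ≃ₐ[S]
      Localization.AtPrime Q :=
    IsLocalization.algEquiv (Q.comap (algebraMap S (Localization.Away g))).primeCompl _ _
  exact (Groth.Agent.Ega4dB.CITransport.isCompleteIntersection_iff_of_ringEquiv e.toRingEquiv).symm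

/-- `S` is a local complete intersection over `k` iff it is of finite type and its local rings are complete
intersections. -/
theorem isLCIOver_iff {S : Type u} [CommRing S] [Algebra k S] :
    Synt.IsLCIOver k S ↔ Algebra.FiniteType k S ∧
      ∀ (q : Ideal S) [q.IsPrime], Pi1.IsCompleteIntersection (Localization.AtPrime q) := by
  constructor
  · rintro ⟨h1, h2⟩
    refine ⟨h1, fun q hq => ?_⟩
    obtain ⟨g, hg, hG⟩ := h2 ⟨q, hq⟩
    have hdisj : Disjoint (Submonoid.powers g : Set S) (q : Set S) := by
      rw [Ideal.disjoint_powers_iff_notMem _ hq.isRadical]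
      exact hg
    have hprime : (q.map (algebraMap S (Localization.Away g))).IsPrime :=
      IsLocalization.isPrime_of_isPrime_disjoint (Submonoid.powers g) _ q hq hdisj
    have hcomap : q = (q.map (algebraMap S (Localization.Away g))).comap
        (algebraMap S (Localization.Away g)) :=
      (IsLocalization.under_map_of_isPrime_disjoint (Submonoid.powers g) _ hq hdisj).symm
    rw [← isCI_away_iff g _ q hcomap]
    exact isCI_atPrime_of_isGlobalCI hG _
  · rintro ⟨h1, h2⟩
    exact ⟨h1, fun q => exists_isGlobalCI_of_isCI q.asIdeal (h2 q.asIdeal)⟩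

end Field

end K563.GCI2
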