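import Groth.Agent.Synt.K563.RelNhd
import Groth.Agent.Synt.K563.FibDim

/-!
# Relative global complete intersection neighbourhoods

`exists_relGCI_nhd`: `R → S` finitely presented, `S_q` flat over `R`, fibre local ring at `q` a complete intersection:
some `S_g`, `g ∉ q` is a relative global complete intersection over `R`.
-/

set_option autoImplicit false

namespace K563.RelNhd

open IsLocalRing K563.Pres K563.GCI2 Groth.Agent TensorProduct

universe u

variable {R S : Type u} [CommRing R] [CommRing S] [Algebra R S]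

/-- If `h · ker φ ⊆ (F)` with `F ⊆ ker φ`, then `S_{φ h}` is presented by `n + 1` variables and `c + 1` relations. -/
theorem hasPres_away {n c : ℕ} (φ : MvPolynomial (Fin n) R →ₐ[R] S) (hφ : Function.Surjective φ)
    (h : MvPolynomial (Fin n) R) (F : Fin c → MvPolynomial (Fin n) R) (hF : ∀ i, φ (F i) = 0)
    (hh : ∀ x ∈ RingHom.ker φ.toRingHom, h * x ∈ Ideal.span (Set.range F)) :
    HasPres R (Localization.Away (φ h)) (n + 1) (c + 1) := by
  let P := MvPolynomial (Fin n) R
  let J : Ideal P := Ideal.span (Set.range F)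
  have hJker : J ≤ RingHom.ker φ.toRingHom := by
    rw [Ideal.span_le]
    rintro _ ⟨i, rfl⟩
    exact hF i
  let T := Localization.Away (φ h)
  let B := P ⧸ J
  let _ : Algebra B S := (Ideal.Quotient.lift J φ.toRingHom (fun a ha => hJker ha)).toAlgebra
  have hkBS : IsScalarTower R B S := by
    refine ⟨fun a b s => ?_⟩
    obtain ⟨b, rfl⟩ := Ideal.Quotient.mk_surjective b
    have h1 : a • (Ideal.Quotient.mk J b) = Ideal.Quotient.mk J (a • b) := rfl
    rw [h1, Algebra.smul_def, Algebra.smul_def (Ideal.Quotient.mk J b)]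
    change φ (a • b) * s = a • (φ b * s)
    rw [map_smul, smul_mul_assoc]
  have : IsScalarTower B S T := inferInstance
  have hBS : algebraMap B S (Ideal.Quotient.mk J h) = φ h := rfl
  have hsurj : Function.Surjective (algebraMap B S) := by
    intro s
    obtain ⟨x, rfl⟩ := hφ s
    exact ⟨Ideal.Quotient.mk J x, rfl⟩
  have hkill : ∀ x ∈ RingHom.ker (algebraMap B S), Ideal.Quotient.mk J h * x = 0 := by
    intro x hx
    obtain ⟨x, rfl⟩ := Ideal.Quotient.mk_surjective x
    rw [← map_mul, Ideal.Quotient.eq_zero_iff_mem]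
    exact hh x hx
  have hlocS : IsLocalization.Away (algebraMap B S (Ideal.Quotient.mk J h)) T := by
    rw [hBS]; infer_instance
  have hlocB : IsLocalization.Away (Ideal.Quotient.mk J h) T :=
    isLocalization_away_comp hsurj _ hkill
  have htow : IsScalarTower R B T := inferInstance
  exact (HasPres.quotient F).away (Ideal.Quotient.mk J h) T

/-- Fibres of a basic open have smaller dimension. -/
theorem ringKrullDim_fiber_away_le (g : S) (p : Ideal R) [p.IsPrime] :
    ringKrullDim (p.Fiber (Localization.Away g)) ≤ ringKrullDim (p.Fiber S) := by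
  rw [ringKrullDim_eq_of_ringEquiv (K562.Rel.fiberAway p g).toRingEquiv]
  exact K562.FieldCI.ringKrullDim_localization_le
    (Submonoid.powers ((1 : p.ResidueField) ⊗ₜ[R] g : p.Fiber S))

theorem ringKrullDim_fiber_eq {T : Type u} [CommRing T] [Algebra R T] (e : S ≃ₐ[R] T) (p : Ideal R) [p.IsPrime] :
    ringKrullDim (p.Fiber S) = ringKrullDim (p.Fiber T) :=
  ringKrullDim_eq_of_ringEquiv (K562.Rel.fiberCongr e p).toRingEquiv

/-- `S_{xy}` as a localization of `S_x`. -/
theorem nonempty_away_mul (x y : S) : Nonempty (Localization.Away (algebraMap S (Localization.Away x) y) ≃ₐ[S]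
    Localization.Away (x * y)) := by
  have : IsLocalization.Away (x * y) (Localization.Away (algebraMap S (Localization.Away x) y)) :=
    IsLocalization.Away.mul' (Localization.Away x) _ x y
  exact ⟨IsLocalization.algEquiv (Submonoid.powers (x * y)) _ _⟩

theorem isRelGCI_of_hasPres {T : Type u} [CommRing T] [Algebra R T] {n c : ℕ} (h : HasPres R T n c) (hcn : c ≤ n)
    (hd : ∀ (p : Ideal R) [p.IsPrime], ringKrullDim (p.Fiber T) ≤ ((n - c : ℕ) : WithBot ℕ∞)) :
    ∃ F : Fin c → MvPolynomial (Fin n) R, Synt.IsRelGCI R n c F ∧ Nonempty (T ≃ₐ[R] Synt.RelGCIRing R n c F) := by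
  obtain ⟨φ, F, hφ, hker⟩ := h
  have e : T ≃ₐ[R] Synt.RelGCIRing R n c F :=
    (Ideal.quotientKerAlgEquivOfSurjective hφ).symm.trans (Ideal.quotientEquivAlgOfEq R hker)
  refine ⟨F, K562.Rel.isRelGCI_of_le F fun p _ _ => ⟨hcn, ?_⟩, ⟨e⟩⟩
  rw [← ringKrullDim_fiber_eq e p]
  exact hd p

/-- The local dimension of the fibre, from the dimensions of the fibre local rings of `S` and of a polynomial ring
mapping onto `S`. -/
theorem localDim_add_eq {n c : ℕ} (φ : MvPolynomial (Fin n) R →ₐ[R] S) (hφ : Function.Surjective φ)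
    (p : Ideal R) [p.IsPrime] (Q : Ideal (p.Fiber S)) [hQ : Q.IsPrime] (q : Ideal S) [q.IsPrime]
    (hq : Ega4C.FibreTower.ctr p Q = q) (P' : Ideal (MvPolynomial (Fin n) R)) [P'.IsPrime] (hP' : P' = q.comap φ)
    (hdim : ringKrullDim (EGA4.FibLocRing R S q) + c = ringKrullDim (EGA4.FibLocRing R (MvPolynomial (Fin n) R) P')) :
    FlatMor.localDim (PrimeSpectrum (p.Fiber S)) ⟨Q, hQ⟩ + c = n := by
  have hft : Algebra.FiniteType R S := Algebra.FiniteType.of_surjective φ hφ
  let Q' : Ideal (p.Fiber (MvPolynomial (Fin n) R)) := Q.comap (Ega43.FibChev.fiberMap p φ)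
  have hQ' : Q'.IsPrime := Ideal.comap_isPrime _ _
  have h1 : ringKrullDim (EGA4.FibLocRing R S q) = Q.height := by
    rw [← Ega43.FibChev.ringKrullDim_fibLocRing p Q]
    exact Ega43.FibChev.dim_fibLocRing_congr hq.symm
  have h2 : ringKrullDim (EGA4.FibLocRing R (MvPolynomial (Fin n) R) P') = Q'.height := by
    rw [← Ega43.FibChev.ringKrullDim_fibLocRing p Q']
    refine Ega43.FibChev.dim_fibLocRing_congr ?_
    rw [Ega43.FibChev.ctr_fiberMap, hq, hP']
  have h3 := Ega43.FibChev.height_add_dim (N := n) p Q'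
  have h4 : ringKrullDim (p.Fiber (MvPolynomial (Fin n) R) ⧸ Q') = ringKrullDim (p.Fiber S ⧸ Q) :=
    Ega43.FibChev.ringKrullDim_quotient_comap _ (Ega43.FibChev.fiberMap_surjective p φ hφ) Q
  rw [h1, h2] at hdim
  rw [CalgC.LocalDim.localDim_eq_height_add p.ResidueField Q, ← h3, ← hdim, h4, add_right_comm]

theorem natCast_sub_of_add {x : WithBot ℕ∞} {n c : ℕ} (h0 : 0 ≤ x) (h : x + c = n) :
    c ≤ n ∧ x = ((n - c : ℕ) : WithBot ℕ∞) := by
  obtain ⟨a, rfl⟩ := WithBot.ne_bot_iff_exists.mp (fun hb => by rw [hb] at h0; simp at h0 : x ≠ ⊥)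
  have h1 : a + c = n := by exact_mod_cast h
  obtain ⟨b, rfl⟩ : ∃ b : ℕ, a = b := by
    refine ⟨a.toNat, (ENat.natCast_toNat ?_).symm⟩
    intro h2
    rw [h2, top_add] at h1
    exact absurd h1 (ENat.top_ne_natCast n)
  have h2 : b + c = n := by exact_mod_cast h1
  refine ⟨by omega, ?_⟩
  have : b = n - c := by omega
  rw [this]
  rfl

/-- A finitely presented algebra which is flat with complete intersection fibre at `q` is a relative global complete
intersection near `q`. -/
theorem exists_relGCI_nhd [Algebra.FinitePresentation R S] (q : Ideal S) [hq : q.IsPrime]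
    [Module.Flat R (Localization.AtPrime q)] [hloc : IsLocalRing (EGA4.FibLocRing R S q)]
    (hCI : Pi1.IsCompleteIntersection (EGA4.FibLocRing R S q)) :
    ∃ g ∉ q, ∃ (n c : ℕ) (F : Fin c → MvPolynomial (Fin n) R), c ≤ n ∧ Synt.IsRelGCI R n c F ∧
      Nonempty (Localization.Away g ≃ₐ[R] Synt.RelGCIRing R n c F) := by
  obtain ⟨n, φ, hφ, hfg⟩ := Algebra.FinitePresentation.out (R := R) (A := S)
  let P' : Ideal (MvPolynomial (Fin n) R) := q.comap φ
  have hP' : P'.IsPrime := Ideal.comap_isPrime _ _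
  have hreg := Ega43.FibSpec.isRegularLocalRing_fib P'
  obtain ⟨c, F, hF, hmap, hdim, -⟩ := exists_lift φ q P' rfl hφ hfg hreg hCI
  let p := q.comap (algebraMap R S)
  obtain ⟨Q, hQ, hctr⟩ := Ega4C.FibreTower.exists_prime_fibre p q rfl
  have hld := localDim_add_eq φ hφ p Q q hctr P' rfl hdim
  obtain ⟨h, hhP', hh⟩ := exists_mul_mem_of_map_le P' (RingHom.ker φ.toRingHom)
    (Ideal.span (Set.range F)) hfg hmap.le
  obtain ⟨hcn, hld'⟩ := natCast_sub_of_add (Ega43.FibChev.zero_le_localDim _) hld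
  obtain ⟨g₂, hg₂, hd⟩ := K562.Rel.exists_away_fiber_dim_le p Q q hctr (n - c) hld'.le
  have hpres : HasPres R (Localization.Away (φ h)) (n + 1) (c + 1) := hasPres_away φ hφ h F hF hh
  obtain ⟨e⟩ := nonempty_away_mul (φ h) g₂
  have hpres2 : HasPres R (Localization.Away (φ h * g₂)) (n + 2) (c + 2) :=
    (hpres.away (algebraMap S _ g₂) (Localization.Away (algebraMap S (Localization.Away (φ h)) g₂))).of_algEquiv
      (e.restrictScalars R)
  obtain ⟨e'⟩ := nonempty_away_mul g₂ (φ h)
  have hfib : ∀ (p' : Ideal R) [p'.IsPrime],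
      ringKrullDim (p'.Fiber (Localization.Away (φ h * g₂))) ≤ (((n + 2) - (c + 2) : ℕ) : WithBot ℕ∞) := by
    intro p' _
    rw [Nat.add_sub_add_right, mul_comm (φ h) g₂, ← ringKrullDim_fiber_eq (e'.restrictScalars R) p']
    exact (ringKrullDim_fiber_away_le _ p').trans (hd p')
  obtain ⟨F', hF', he⟩ := isRelGCI_of_hasPres hpres2 (by omega) hfib
  exact ⟨φ h * g₂, fun hm => (hq.mem_or_mem hm).elim hhP' hg₂, n + 2, c + 2, F', by omega, hF', he⟩

end K563.RelNhd
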