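import Groth.Agent.Fitt.K360.Fiber
import Groth.Agent.Fitt.K360.JacPres

/-!
# Fitting ideals of the differentials of an algebra with `c` relations in `n = c + r` variables
-/

set_option autoImplicit false

universe u v

open KaehlerDifferential MvPolynomial

namespace K563.FitJac

open Groth.Agent.Flat2C.FittingZero (rel mem_rel)

section Rel

variable {R : Type u} [CommRing R] {M : Type v} [AddCommGroup M] [Module R M]

/-- If a module with `c + r` generators has `c` generating relations, its `r`-th Fitting ideal is generated by the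
maximal minors of the relation matrix. -/
theorem ideal_eq_span_det {ι : Type*} [Fintype ι] [DecidableEq ι] {c r : ℕ} (x : ι → M)
    (hx : Submodule.span R (Set.range x) = ⊤) (J : Fin c → (ι → R))
    (hJ : Submodule.span R (Set.range J) = rel (R := R) x) (hn : Fintype.card ι = c + r) :
    Fitt.ideal R M r = Ideal.span {d | ∃ I : Fin c → ι, d = (Matrix.of fun i j => J i (I j)).det} := by
  classical
  rw [K360.FittMinors.ideal_eq_minors (κ := Fin c) x hx r (by simp [hn])]
  apply le_antisymm
  · refine Ideal.span_le.mpr ?_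
    rintro _ ⟨z, e, hz, rfl⟩
    have h1 : ∀ j, ∃ a : Fin c → R, ∑ i, a i • J i = z j := fun j => by
      have : z j ∈ Submodule.span R (Set.range J) := by
        rw [hJ, mem_rel]
        exact hz j
      exact (Submodule.mem_span_range_iff_exists_fun R).mp this
    choose A hA using h1
    have h2 : (Matrix.of fun a b => z b (e a)) =
        ((Matrix.of A) * (Matrix.of fun i j => J i (e j))).transpose := by
      ext a b
      rw [Matrix.transpose_apply, Matrix.mul_apply, Matrix.of_apply, ← hA b, Finset.sum_apply]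
      rfl
    rw [SetLike.mem_coe, h2, Matrix.det_transpose, Matrix.det_mul]
    exact Ideal.mul_mem_left _ _ (Ideal.subset_span ⟨e, rfl⟩)
  · refine Ideal.span_le.mpr ?_
    rintro _ ⟨I, rfl⟩
    refine Ideal.subset_span ⟨J, I, fun j => ?_, ?_⟩
    · rw [← mem_rel, ← hJ]
      exact Submodule.subset_span ⟨j, rfl⟩
    · rw [← Matrix.det_transpose]
      rfl

end Rel

section Kaehler

variable {k : Type u} [CommRing k] {n c r : ℕ} {B : Type u} [CommRing B] [Algebra k B]

theorem rel_D_eq (φ : MvPolynomial (Fin n) k →ₐ[k] B) (hφ : Function.Surjective φ)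
    (F : Fin c → MvPolynomial (Fin n) k) (hF : RingHom.ker φ.toRingHom = Ideal.span (Set.range F)) :
    Submodule.span B (Set.range fun i => K360.JacPres.jac φ (F i)) =
      rel (R := B) (fun i => D k B (φ (X i))) := by
  have hF0 : ∀ i, φ (F i) = 0 := fun i => by
    have : F i ∈ RingHom.ker φ.toRingHom := hF ▸ Ideal.subset_span ⟨i, rfl⟩
    exact this
  ext v
  have h1 : v ∈ rel (R := B) (fun i => D k B (φ (X i))) ↔ K360.JacPres.pr φ v = 0 := Iff.rfl
  rw [h1, K360.JacPres.pr_eq_zero_iff φ hφ]
  constructor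
  · intro hv
    obtain ⟨a, rfl⟩ := (Submodule.mem_span_range_iff_exists_fun B).mp hv
    choose b hb using fun i => hφ (a i)
    refine ⟨∑ i, b i * F i, by simp [hF0], ?_⟩
    rw [K360.JacPres.jac_sum]
    refine Finset.sum_congr rfl fun i _ => ?_
    rw [K360.JacPres.jac_mul, hF0, zero_smul, add_zero, hb]
  · rintro ⟨f, hf, rfl⟩
    have hf' : f ∈ Ideal.span (Set.range F) := hF ▸ hf
    obtain ⟨a, rfl⟩ := (Submodule.mem_span_range_iff_exists_fun _).mp hf'
    rw [K360.JacPres.jac_sum]
    refine Submodule.sum_mem _ fun i _ => ?_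
    rw [smul_eq_mul, K360.JacPres.jac_mul, hF0, zero_smul, add_zero]
    exact Submodule.smul_mem _ _ (Submodule.subset_span ⟨i, rfl⟩)

theorem span_D_eq (φ : MvPolynomial (Fin n) k →ₐ[k] B) (hφ : Function.Surjective φ) :
    Submodule.span B (Set.range fun i => D k B (φ (X i))) = ⊤ := by
  rw [← Fintype.range_linearCombination, LinearMap.range_eq_top]
  exact K360.JacPres.pr_surjective φ hφ

/-- The Fitting ideal of the differentials of `k[x₁,…,x_{c+r}]/(f₁,…,f_c)` is generated by the `c × c` minors of
the Jacobian matrix. -/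
theorem ideal_kaehler_eq (φ : MvPolynomial (Fin n) k →ₐ[k] B) (hφ : Function.Surjective φ)
    (F : Fin c → MvPolynomial (Fin n) k) (hF : RingHom.ker φ.toRingHom = Ideal.span (Set.range F))
    (hn : n = c + r) :
    Fitt.ideal B Ω[B⁄k] r =
      Ideal.span {d | ∃ I : Fin c → Fin n, d = (Matrix.of fun i j => φ (pderiv (I j) (F i))).det} :=
  ideal_eq_span_det (fun i => D k B (φ (X i))) (span_D_eq φ hφ) (fun i => K360.JacPres.jac φ (F i))
    (rel_D_eq φ hφ F hF) (by simp [hn])

theorem exists_minor_of_not_le (φ : MvPolynomial (Fin n) k →ₐ[k] B) (hφ : Function.Surjective φ)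
    (F : Fin c → MvPolynomial (Fin n) k) (hF : RingHom.ker φ.toRingHom = Ideal.span (Set.range F))
    (hn : n = c + r) (q : Ideal B) [q.IsPrime] (h : ¬ Fitt.ideal B Ω[B⁄k] r ≤ q) :
    ∃ I : Fin c ↪ Fin n, φ ((Matrix.of fun i j => pderiv (I j) (F i)).det) ∉ q := by
  by_contra hcon
  push Not at hcon
  apply h
  rw [ideal_kaehler_eq φ hφ F hF hn, Ideal.span_le]
  rintro _ ⟨I, rfl⟩
  by_cases hI : Function.Injective I
  · have := hcon ⟨I, hI⟩
    rw [AlgHom.map_det] at this
    exact this
  · rw [Function.not_injective_iff] at hI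
    obtain ⟨a, b, hab, hne⟩ := hI
    have h0 : (Matrix.of fun i j => φ (pderiv (I j) (F i))).det = 0 :=
      Matrix.det_zero_of_column_eq hne fun i => by
        rw [Matrix.of_apply, Matrix.of_apply, hab]
    rw [h0]
    exact q.zero_mem

end Kaehler

end K563.FitJac
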