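import Groth.Prelude.Def_RegImm
import Mathlib.RingTheory.Extension.Presentation.Basic

/-!
# Presentations by `n` variables and `c` relations

* `HasPres R S n c`: `S` is presented over `R` by `n` variables and `c` relations;
* `HasPres.away`: localizing away from an element adds one variable and one relation;
* `isGlobalCI_iff`: `Synt.IsGlobalCI` in terms of `HasPres`.
-/

set_option autoImplicit false

universe u

namespace K563.Pres

open MvPolynomial

/-- `S` has a presentation over `R` by `n` variables and `c` relations. -/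
def HasPres (R S : Type u) [CommRing R] [CommRing S] [Algebra R S] (n c : ℕ) : Prop :=
  ∃ (φ : MvPolynomial (Fin n) R →ₐ[R] S) (r : Fin c → MvPolynomial (Fin n) R),
    Function.Surjective φ ∧ RingHom.ker φ.toRingHom = Ideal.span (Set.range r)

section

variable {R S : Type u} [CommRing R] [CommRing S] [Algebra R S]

theorem hasPres_iff_nonempty (n c : ℕ) :
    HasPres R S n c ↔ Nonempty (Algebra.Presentation R S (Fin n) (Fin c)) := by
  constructor
  · rintro ⟨φ, r, hφ, hker⟩
    have hval : MvPolynomial.aeval (fun i => φ (X i)) = φ := by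
      ext i
      simp
    let G : Algebra.Generators R S (Fin n) :=
      Algebra.Generators.ofSurjective (fun i => φ (X i)) (by rw [hval]; exact hφ)
    refine ⟨{ toGenerators := G, relation := r, span_range_relation_eq_ker := ?_ }⟩
    rw [← hker, Algebra.Generators.ker_eq_ker_aeval_val]
    change _ = RingHom.ker (MvPolynomial.aeval (fun i => φ (X i)))
    rw [hval]
    rfl
  · rintro ⟨P⟩
    refine ⟨MvPolynomial.aeval P.val, P.relation, P.aeval_val_surjective, ?_⟩
    rw [P.span_range_relation_eq_ker, Algebra.Generators.ker_eq_ker_aeval_val]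
    rfl

theorem HasPres.of_algEquiv {T : Type u} [CommRing T] [Algebra R T] {n c : ℕ} (h : HasPres R S n c)
    (e : S ≃ₐ[R] T) : HasPres R T n c := by
  rw [hasPres_iff_nonempty] at h ⊢
  exact h.map fun P => P.ofAlgEquiv e

theorem HasPres.quotient {n c : ℕ} (r : Fin c → MvPolynomial (Fin n) R) :
    HasPres R (MvPolynomial (Fin n) R ⧸ Ideal.span (Set.range r)) n c :=
  ⟨Ideal.Quotient.mkₐ R _, r, Ideal.Quotient.mk_surjective, by
    change RingHom.ker (Ideal.Quotient.mk _) = _
    exact Ideal.mk_ker⟩

/-- Localizing away from an element adds one variable and one relation. -/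
theorem HasPres.away {n c : ℕ} (h : HasPres R S n c) (g : S) (T : Type u) [CommRing T] [Algebra R T]
    [Algebra S T] [IsScalarTower R S T] [IsLocalization.Away g T] : HasPres R T (n + 1) (c + 1) := by
  rw [hasPres_iff_nonempty] at h ⊢
  obtain ⟨P⟩ := h
  refine ⟨((Algebra.Presentation.localizationAway T g).comp P).reindex ?_ ?_⟩
  · exact (finSumFinEquiv (m := n) (n := 1)).symm.trans
      ((Equiv.sumComm _ _).trans (Equiv.sumCongr finOneEquiv (Equiv.refl _)))
  · exact (finSumFinEquiv (m := c) (n := 1)).symm.trans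
      ((Equiv.sumComm _ _).trans (Equiv.sumCongr finOneEquiv (Equiv.refl _)))

theorem HasPres.finiteType {n c : ℕ} (h : HasPres R S n c) : Algebra.FiniteType R S := by
  obtain ⟨φ, r, hφ, -⟩ := h
  exact Algebra.FiniteType.of_surjective φ hφ

theorem HasPres.finitePresentation {n c : ℕ} (h : HasPres R S n c) :
    Algebra.FinitePresentation R S := by
  rw [hasPres_iff_nonempty] at h
  obtain ⟨P⟩ := h
  exact P.finitePresentation_of_isFinite

/-- Base change. -/
theorem HasPres.baseChange {n c : ℕ} (h : HasPres R S n c) (T : Type u) [CommRing T] [Algebra R T] :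
    HasPres T (TensorProduct R T S) n c := by
  rw [hasPres_iff_nonempty] at h ⊢
  exact h.map fun P => P.baseChange T

end

theorem isGlobalCI_iff (k : Type u) [Field k] (S : Type u) [CommRing S] [Algebra k S] :
    Synt.IsGlobalCI k S ↔ Subsingleton S ∨ ∃ n c : ℕ, c ≤ n ∧ HasPres k S n c ∧
      ringKrullDim S = ((n - c : ℕ) : WithBot ℕ∞) := by
  refine or_congr Iff.rfl (exists_congr fun n => exists_congr fun c => and_congr_right fun _ => ?_)
  constructor
  · rintro ⟨φ, r, h1, h2, h3⟩
    exact ⟨⟨φ, r, h1, h2⟩, h3⟩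
  · rintro ⟨⟨φ, r, h1, h2⟩, h3⟩
    exact ⟨φ, r, h1, h2, h3⟩

theorem isGlobalCI_of_algEquiv {k : Type u} [Field k] {S T : Type u} [CommRing S] [Algebra k S]
    [CommRing T] [Algebra k T] (e : S ≃ₐ[k] T) (h : Synt.IsGlobalCI k S) : Synt.IsGlobalCI k T := by
  rw [isGlobalCI_iff] at h ⊢
  rcases h with h | ⟨n, c, hcn, hp, hd⟩
  · exact Or.inl e.symm.injective.subsingleton
  · exact Or.inr ⟨n, c, hcn, hp.of_algEquiv e, by rw [← ringKrullDim_eq_of_ringEquiv e.toRingEquiv, hd]⟩

end K563.Pres
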