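import Groth.Agent.Synt.K563.DimLoc
import Groth.Agent.Synt.K563.Pres
import Groth.Agent.Ega4dB.CIAlg
import Mathlib.RingTheory.Localization.LocalizationLocalization
import Mathlib.RingTheory.Regular.Flat

/-!
# Global complete intersections over a field and complete intersection local rings

* `isRegular_of_hasPres`: a presentation by `n` variables and `c` relations with quotient of dimension `≤ n - c` has
  relations which are a regular sequence in every local ring of `k[x]` at a prime over them;
* `isCI_atPrime_of_isGlobalCI`: the local rings of a global complete intersection are complete intersections;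
* `exists_isGlobalCI_of_isCI`: conversely, if the local ring at `q` is a complete intersection, some basic open
  neighbourhood is a global complete intersection.
-/

set_option autoImplicit false

universe u

namespace K563.GCI

open IsLocalRing RingTheory.Sequence K563.Pres K563.DimLoc

/-- A weakly regular sequence in a prime has length at most the height. -/
theorem length_le_height {A : Type u} [CommRing A] [IsNoetherianRing A] (rs : List A) (q : Ideal A)
    [q.IsPrime] (hmem : ∀ r ∈ rs, r ∈ q) (hreg : IsWeaklyRegular A rs) :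
    (rs.length : ℕ∞) ≤ q.height := by
  have h1 : IsWeaklyRegular (Localization.AtPrime q) (rs.map (algebraMap A (Localization.AtPrime q))) :=
    hreg.of_flat
  have h2 : ∀ r ∈ rs.map (algebraMap A (Localization.AtPrime q)),
      r ∈ maximalIdeal (Localization.AtPrime q) := by
    intro r hr
    obtain ⟨a, ha, rfl⟩ := List.mem_map.mp hr
    rw [← Localization.AtPrime.map_eq_maximalIdeal]
    exact Ideal.mem_map_of_mem _ (hmem a ha)
  have h3 := (IsLocalRing.isRegular_iff_isWeaklyRegular_of_subset_maximalIdeal h2).mpr h1
  have h4 := ringKrullDim_add_length_eq_ringKrullDim_of_isRegular _ h3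
  have hnt : Nontrivial (Localization.AtPrime q ⧸
      Ideal.ofList (rs.map (algebraMap A (Localization.AtPrime q)))) := by
    refine Ideal.Quotient.nontrivial_iff.mpr fun h => h3.top_ne_smul ?_
    rw [h]; simp
  have h5 : (0 : WithBot ℕ∞) ≤ ringKrullDim (Localization.AtPrime q ⧸
      Ideal.ofList (rs.map (algebraMap A (Localization.AtPrime q)))) :=
    ringKrullDim_nonneg_of_nontrivial
  rw [IsLocalization.AtPrime.ringKrullDim_eq_height q (Localization.AtPrime q),
    List.length_map] at h4
  have h6 : ((rs.length : ℕ∞) : WithBot ℕ∞) ≤ (q.height : WithBot ℕ∞) := by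
    rw [← h4]
    exact le_add_of_nonneg_left h5
  exact_mod_cast h6

section Field

variable {k : Type u} [Field k]

/-- If `S = k[x]/(r)` has dimension at most `n - c`, then at each prime of `k[x]` over `(r)` the relations form a
regular sequence. -/
theorem isRegular_of_dim_le {n c : ℕ} (hcn : c ≤ n) (r : Fin c → MvPolynomial (Fin n) k)
    (hdim : ringKrullDim (MvPolynomial (Fin n) k ⧸ Ideal.span (Set.range r)) ≤
      ((n - c : ℕ) : WithBot ℕ∞))
    (q : Ideal (MvPolynomial (Fin n) k)) [q.IsPrime] (hq : Ideal.span (Set.range r) ≤ q) :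
    IsRegular (Localization.AtPrime q)
      (List.ofFn fun i => algebraMap (MvPolynomial (Fin n) k) (Localization.AtPrime q) (r i)) := by
  refine isRegular_atPrime q r (fun i => hq (Ideal.subset_span ⟨i, rfl⟩)) fun p hp h1 _ => ?_
  exact le_height_of_ringKrullDim_quotient_le k hcn _ hdim p h1

theorem ofList_ofFn_eq_map {A B : Type*} [CommRing A] [CommRing B] (f : A →+* B) {c : ℕ}
    (r : Fin c → A) :
    Ideal.ofList (List.ofFn fun i => f (r i)) = (Ideal.span (Set.range r)).map f := by
  rw [Ideal.map_span, ← Set.range_comp, Ideal.ofList]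
  congr 1
  ext x
  simp only [Set.mem_ofPred_eq, List.mem_ofFn, Set.mem_range, Function.comp_apply]

theorem isRegularIdeal_of_dim_le {n c : ℕ} (hcn : c ≤ n) (r : Fin c → MvPolynomial (Fin n) k)
    (hdim : ringKrullDim (MvPolynomial (Fin n) k ⧸ Ideal.span (Set.range r)) ≤
      ((n - c : ℕ) : WithBot ℕ∞))
    (q : Ideal (MvPolynomial (Fin n) k)) [q.IsPrime] (hq : Ideal.span (Set.range r) ≤ q) :
    CInt.IsRegularIdeal ((Ideal.span (Set.range r)).map
      (algebraMap (MvPolynomial (Fin n) k) (Localization.AtPrime q))) :=
  ⟨_, isRegular_of_dim_le hcn r hdim q hq, ofList_ofFn_eq_map _ r⟩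

/-- The local rings of a ring presented by `n` variables and `c` relations, of dimension at most `n - c`, are complete
intersections. -/
theorem isCI_atPrime_of_hasPres {T : Type u} [CommRing T] [Algebra k T] {n c : ℕ} (hcn : c ≤ n)
    (h : HasPres k T n c) (hdim : ringKrullDim T ≤ ((n - c : ℕ) : WithBot ℕ∞))
    (q : Ideal T) [q.IsPrime] : Pi1.IsCompleteIntersection (Localization.AtPrime q) := by
  obtain ⟨φ, r, hφ, hker⟩ := h
  rw [Groth.Agent.Ega4dB.CIAlg.isCompleteIntersection_localization_iff φ.toRingHom hφ q
    (q.comap φ.toRingHom) rfl, hker]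
  refine isRegularIdeal_of_dim_le hcn r ?_ _ ?_
  · rw [← hker]
    exact (ringKrullDim_eq_of_ringEquiv (RingHom.quotientKerEquivOfSurjective hφ)).le.trans hdim
  · rw [← hker]
    intro x hx
    change φ x ∈ q
    have : φ x = 0 := hx
    rw [this]
    exact zero_mem q

/-- The local rings of a global complete intersection are complete intersections. -/
theorem isCI_atPrime_of_isGlobalCI {T : Type u} [CommRing T] [Algebra k T]
    (h : Synt.IsGlobalCI k T) (q : Ideal T) [q.IsPrime] :
    Pi1.IsCompleteIntersection (Localization.AtPrime q) := by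
  rw [isGlobalCI_iff] at h
  rcases h with h | ⟨n, c, hcn, hp, hd⟩
  · exact absurd (Subsingleton.elim q ⊤) ‹q.IsPrime›.ne_top
  · exact isCI_atPrime_of_hasPres hcn hp hd.le q

/-- Krull: a nonzero ring presented by `n` variables and `c` relations has dimension at least `n - c`. -/
theorem le_ringKrullDim_of_hasPres {T : Type u} [CommRing T] [Nontrivial T] [Algebra k T] {n c : ℕ}
    (h : HasPres k T n c) : ((n - c : ℕ) : WithBot ℕ∞) ≤ ringKrullDim T := by
  obtain ⟨φ, r, hφ, hker⟩ := h
  have hne : Ideal.span (Set.range r) ≠ ⊤ := by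
    rw [← hker]
    exact RingHom.ker_ne_top _
  obtain ⟨m, hm, hm2⟩ := Ideal.exists_le_maximal _ hne
  obtain ⟨p, hp, -⟩ := Ideal.exists_minimalPrimes_le (J := m) hm2
  have hpp : p.IsPrime := hp.1.1
  have h1 : p.height ≤ (c : ℕ∞) := by
    refine (Ideal.height_le_card_of_mem_minimalPrimes_span (Set.finite_range r) hp).trans ?_
    have := Set.ncard_image_le (f := r) (Set.finite_univ (α := Fin c))
    rw [Set.image_univ, Set.ncard_univ, Nat.card_fin] at this
    exact_mod_cast this
  refine (le_ringKrullDim_quotient_of_height_le k p h1).trans ?_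
  have h5 : RingHom.ker φ.toRingHom ≤ p := hker ▸ hp.1.2
  rw [← ringKrullDim_eq_of_ringEquiv (RingHom.quotientKerEquivOfSurjective (f := φ.toRingHom) hφ)]
  exact ringKrullDim_le_of_surjective (Ideal.Quotient.factor h5) (Ideal.Quotient.factor_surjective h5)

end Field

end K563.GCI
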