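import Groth.Agent.CurvesB.NodeLike
import Mathlib.RingTheory.Kaehler.Basic

/-!
# Node-like quotients of two-dimensional smooth local algebras
-/

set_option autoImplicit false

universe u

open IsLocalRing KaehlerDifferential

namespace K563.NodeAlg

open Groth.Agent.CurvesB.Node

section Principal

variable {A : Type*} [CommRing A] [IsLocalRing A]

/-- In a local ring whose maximal ideal is not principal but contains a nonzerodivisor, no power of the maximal
ideal is principal. -/
theorem not_isPrincipal_pow {t : A} (ht : t ∈ maximalIdeal A) (hreg : t ∈ nonZeroDivisors A)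
    (hm : ¬ (maximalIdeal A).IsPrincipal) (n : ℕ) (hn : 1 ≤ n) : ¬ (maximalIdeal A ^ n).IsPrincipal := by
  rintro ⟨w, hw⟩
  rw [Ideal.submodule_span_eq] at hw
  obtain ⟨n, rfl⟩ : ∃ k, n = k + 1 := ⟨n - 1, by omega⟩
  have hwreg : w ∈ nonZeroDivisors A := by
    have h1 : t ^ (n + 1) ∈ Ideal.span {w} := hw ▸ Ideal.pow_mem_pow ht _
    obtain ⟨c, hc⟩ := Ideal.mem_span_singleton'.mp h1
    have h2 : t ^ (n + 1) ∈ nonZeroDivisors A := pow_mem hreg _
    rw [← hc] at h2
    exact (mul_mem_nonZeroDivisors.mp h2).2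
  have hw1 : w ∈ maximalIdeal A * maximalIdeal A ^ n := by
    rw [← pow_succ', hw]
    exact Ideal.mem_span_singleton_self w
  have key : ∃ x ∈ maximalIdeal A, ∃ y ∈ maximalIdeal A ^ n, ∃ u : A, IsUnit u ∧ x * y = w * u := by
    by_contra hcon
    push Not at hcon
    have h3 : maximalIdeal A * maximalIdeal A ^ n ≤ maximalIdeal A * Ideal.span {w} := by
      rw [Ideal.mul_le]
      intro x hx y hy
      have h4 : x * y ∈ Ideal.span {w} := by
        rw [← hw, pow_succ']
        exact Ideal.mul_mem_mul hx hy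
      obtain ⟨u, hu⟩ := Ideal.mem_span_singleton'.mp h4
      have h5 : u ∈ maximalIdeal A := by
        rw [mem_maximalIdeal]
        intro hun
        exact hcon x hx y hy u hun (by rw [← hu, mul_comm])
      rw [← hu]
      exact Ideal.mul_mem_mul h5 (Ideal.mem_span_singleton_self w)
    have h6 := h3 hw1
    rw [Ideal.mem_mul_span_singleton] at h6
    obtain ⟨z, hz, hzw⟩ := h6
    have h7 : (1 - z) * w = 0 := by rw [sub_mul, one_mul, hzw, sub_self]
    have h8 : 1 - z = 0 := (mul_right_mem_nonZeroDivisors_eq_zero_iff hwreg).mp h7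
    have h9 : z = 1 := (sub_eq_zero.mp h8).symm
    rw [h9] at hz
    exact (maximalIdeal.isMaximal A).ne_top ((Ideal.eq_top_iff_one _).mpr hz)
  obtain ⟨x, hx, y, hy, u, hu, hxy⟩ := key
  apply hm
  refine ⟨x, ?_⟩
  rw [Ideal.submodule_span_eq]
  refine le_antisymm (fun z hz => ?_) ((Ideal.span_singleton_le_iff_mem _).mpr hx)
  have hyreg : y ∈ nonZeroDivisors A := by
    have : x * y ∈ nonZeroDivisors A := by
      rw [hxy]
      exact mul_mem hwreg hu.mem_nonZeroDivisors
    exact (mul_mem_nonZeroDivisors.mp this).2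
  have h4 : z * y ∈ Ideal.span {w} := by
    rw [← hw, pow_succ']
    exact Ideal.mul_mem_mul hz hy
  obtain ⟨v, hv⟩ := Ideal.mem_span_singleton'.mp h4
  obtain ⟨u', hu'⟩ := hu.exists_right_inv
  have h5 : w = x * y * u' := by rw [hxy, mul_assoc, hu', mul_one]
  have h6 : (z - v * u' * x) * y = 0 := by
    rw [sub_mul, ← hv, h5]; ring
  have h7 := (mul_right_mem_nonZeroDivisors_eq_zero_iff hyreg).mp h6
  rw [Ideal.mem_span_singleton']
  exact ⟨v * u', (sub_eq_zero.mp h7).symm⟩

end Principal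

section Two

variable (k : Type*) {P : Type*} [CommRing k] [CommRing P] [Algebra k P] [IsLocalRing P]

theorem repr_D_mem {ι : Type*} (B : Module.Basis ι P Ω[P⁄k]) (z : P) (hz : z ∈ maximalIdeal P ^ 2) (i : ι) :
    B.repr (D k P z) i ∈ maximalIdeal P := by
  rw [pow_two] at hz
  refine Submodule.mul_induction_on hz (fun x hx y hy => ?_) (fun x y hx hy => ?_)
  · rw [Derivation.leibniz, map_add, map_smul, map_smul, Finsupp.add_apply, Finsupp.smul_apply,
      Finsupp.smul_apply, smul_eq_mul, smul_eq_mul]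
    exact Ideal.add_mem _ (Ideal.mul_mem_right _ _ hx) (Ideal.mul_mem_right _ _ hy)
  · rw [map_add, map_add, Finsupp.add_apply]
    exact Ideal.add_mem _ hx hy

variable (B : Module.Basis (Fin 2) P Ω[P⁄k]) (a b : P) (hBa : B 0 = D k P a)
    (hBb : B 1 = D k P b)

include hBa hBb

theorem repr_D_comb (x y : P) (i : Fin 2) : B.repr (D k P (x * a + y * b)) i =
    x * (if i = 0 then 1 else 0) + y * (if i = 1 then 1 else 0) +
      (a * B.repr (D k P x) i + b * B.repr (D k P y) i) := by
  have h : D k P (x * a + y * b) = x • B 0 + y • B 1 + (a • D k P x + b • D k P y) := by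
    rw [map_add, Derivation.leibniz, Derivation.leibniz, hBa, hBb]
    abel
  rw [h]
  simp only [map_add, map_smul, Finsupp.add_apply, Finsupp.smul_apply, smul_eq_mul,
    Module.Basis.repr_self, Finsupp.single_apply]
  fin_cases i <;> simp

/-- Two elements of the maximal ideal whose differentials form a basis are independent modulo the square of the
maximal ideal. -/
theorem mem_of_mem_sq (ha : a ∈ maximalIdeal P) (hb : b ∈ maximalIdeal P) (x y : P)
    (h : x * a + y * b ∈ maximalIdeal P ^ 2) : x ∈ maximalIdeal P ∧ y ∈ maximalIdeal P := by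
  have h0 := repr_D_mem k B _ h 0
  have h1 := repr_D_mem k B _ h 1
  rw [repr_D_comb k B a b hBa hBb] at h0 h1
  simp only [if_true, mul_one, Fin.zero_eq_one_iff, OfNat.ofNat_ne_one, if_false, mul_zero, add_zero,
    Fin.one_eq_zero_iff, zero_add] at h0 h1
  constructor
  · rw [← Ideal.add_mem_iff_left (I := maximalIdeal P)
      (Ideal.add_mem _ (Ideal.mul_mem_right _ _ ha) (Ideal.mul_mem_right _ _ hb))]
    exact h0
  · rw [← Ideal.add_mem_iff_left (I := maximalIdeal P)
      (Ideal.add_mem _ (Ideal.mul_mem_right _ _ ha) (Ideal.mul_mem_right _ _ hb))]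
    exact h1

/-- **Node criterion.**  Let `P` be a local algebra whose maximal ideal is generated by `a, b` such that `da, db`
is a basis of the differentials, and `F ∈ P` such that `F` and the partial derivatives of `F` generate the maximal
ideal.  If the maximal ideal of `P/(F)` contains a nonzerodivisor then `P/(F)` is node-like. -/
theorem nodeLike_of_surjective (hm : maximalIdeal P = Ideal.span {a, b}) (F : P)
    (hF : Ideal.span {F, B.repr (D k P F) 0, B.repr (D k P F) 1} = maximalIdeal P)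
    {L : Type*} [CommRing L] [IsLocalRing L] (π : P →+* L) (hπ : Function.Surjective π)
    (hker : RingHom.ker π = Ideal.span {F}) (hreg : ∃ t ∈ maximalIdeal L, t ∈ nonZeroDivisors L) :
    NodeLike L := by
  have ha : a ∈ maximalIdeal P := hm ▸ Ideal.subset_span (by simp)
  have hb : b ∈ maximalIdeal P := hm ▸ Ideal.subset_span (by simp)
  have hF0 : F ∈ maximalIdeal P := hF ▸ Ideal.subset_span (by simp)
  have hu0 : B.repr (D k P F) 0 ∈ maximalIdeal P := hF ▸ Ideal.subset_span (by simp)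
  have hv0 : B.repr (D k P F) 1 ∈ maximalIdeal P := hF ▸ Ideal.subset_span (by simp)
  have hind := mem_of_mem_sq k B a b hBa hBb ha hb
  obtain ⟨s, t, hst⟩ := Ideal.mem_span_pair.mp (hm ▸ hF0)
  have hs : s ∈ maximalIdeal P ∧ t ∈ maximalIdeal P := by
    rw [← hst, repr_D_comb k B a b hBa hBb] at hu0 hv0
    simp only [if_true, mul_one, Fin.zero_eq_one_iff, OfNat.ofNat_ne_one, if_false, mul_zero, add_zero,
      Fin.one_eq_zero_iff, zero_add] at hu0 hv0
    constructor
    · rw [← Ideal.add_mem_iff_left (I := maximalIdeal P)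
        (Ideal.add_mem _ (Ideal.mul_mem_right _ _ ha) (Ideal.mul_mem_right _ _ hb))]
      exact hu0
    · rw [← Ideal.add_mem_iff_left (I := maximalIdeal P)
        (Ideal.add_mem _ (Ideal.mul_mem_right _ _ ha) (Ideal.mul_mem_right _ _ hb))]
      exact hv0
  obtain ⟨s1, s2, hs12⟩ := Ideal.mem_span_pair.mp (hm ▸ hs.1)
  obtain ⟨t1, t2, ht12⟩ := Ideal.mem_span_pair.mp (hm ▸ hs.2)
  let α := s1
  let β := s2 + t1
  let γ := t2
  have hFq : F = α * a ^ 2 + β * a * b + γ * b ^ 2 := by
    rw [← hst, ← hs12, ← ht12]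
    simp only [α, β, γ]
    ring
  have hFsq : F ∈ maximalIdeal P ^ 2 := by
    rw [← hst, pow_two]
    exact Ideal.add_mem _ (Ideal.mul_mem_mul hs.1 ha) (Ideal.mul_mem_mul hs.2 hb)
  have hsq : ∀ x ∈ maximalIdeal P, ∀ y ∈ maximalIdeal P, ∀ z : P, x * y * z ∈ maximalIdeal P ^ 2 := by
    intro x hx y hy z
    rw [pow_two]
    exact Ideal.mul_mem_right _ _ (Ideal.mul_mem_mul hx hy)
  have hDF : D k P F = (2 * α * a + β * b) • B 0 + (β * a + 2 * γ * b) • B 1 +
      ((a * a) • D k P α + (a * b) • D k P β + (b * b) • D k P γ) := by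
    have hFq' : F = α * (a * a) + β * (a * b) + γ * (b * b) := by rw [hFq]; ring
    rw [hFq', hBa, hBb, map_add, map_add, Derivation.leibniz, Derivation.leibniz _ β,
      Derivation.leibniz _ γ, Derivation.leibniz _ a a, Derivation.leibniz _ a b,
      Derivation.leibniz _ b b]
    module
  have hu : ∃ w ∈ maximalIdeal P ^ 2, B.repr (D k P F) 0 = 2 * α * a + β * b + w := by
    refine ⟨B.repr ((a * a) • D k P α + (a * b) • D k P β + (b * b) • D k P γ) 0, ?_, ?_⟩
    · simp only [map_add, map_smul, Finsupp.add_apply, Finsupp.smul_apply, smul_eq_mul]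
      exact Ideal.add_mem _ (Ideal.add_mem _ (hsq _ ha _ ha _) (hsq _ ha _ hb _)) (hsq _ hb _ hb _)
    · rw [hDF]
      simp
  have hv : ∃ w ∈ maximalIdeal P ^ 2, B.repr (D k P F) 1 = β * a + 2 * γ * b + w := by
    refine ⟨B.repr ((a * a) • D k P α + (a * b) • D k P β + (b * b) • D k P γ) 1, ?_, ?_⟩
    · simp only [map_add, map_smul, Finsupp.add_apply, Finsupp.smul_apply, smul_eq_mul]
      exact Ideal.add_mem _ (Ideal.add_mem _ (hsq _ ha _ ha _) (hsq _ ha _ hb _)) (hsq _ hb _ hb _)
    · rw [hDF]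
      simp
  obtain ⟨wu, hwu, hu⟩ := hu
  obtain ⟨wv, hwv, hv⟩ := hv
  have hrep : ∀ z ∈ maximalIdeal P, ∃ x y : P,
      z - (x * (2 * α * a + β * b) + y * (β * a + 2 * γ * b)) ∈ maximalIdeal P ^ 2 := by
    intro z hz
    rw [← hF] at hz
    obtain ⟨x0, w, hw, rfl⟩ := Ideal.mem_span_insert.mp hz
    obtain ⟨x, y, rfl⟩ := Ideal.mem_span_pair.mp hw
    refine ⟨x, y, ?_⟩
    rw [hu, hv]
    have : x0 * F + (x * (2 * α * a + β * b + wu) + y * (β * a + 2 * γ * b + wv)) -
        (x * (2 * α * a + β * b) + y * (β * a + 2 * γ * b)) = x0 * F + x * wu + y * wv := by ring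
    rw [this]
    exact Ideal.add_mem _ (Ideal.add_mem _ (Ideal.mul_mem_left _ _ hFsq) (Ideal.mul_mem_left _ _ hwu))
      (Ideal.mul_mem_left _ _ hwv)
  have hunit : IsUnit (4 * α * γ - β ^ 2) := by
    by_contra hcon
    have hcon' : 4 * α * γ - β ^ 2 ∈ maximalIdeal P := hcon
    obtain ⟨x1, x2, hx⟩ := hrep a ha
    obtain ⟨y1, y2, hy⟩ := hrep b hb
    have h1 := hind (1 - (x1 * (2 * α) + x2 * β)) (-(x1 * β + x2 * (2 * γ))) (by
      convert hx using 1; ring)
    have h2 := hind (-(y1 * (2 * α) + y2 * β)) (1 - (y1 * β + y2 * (2 * γ))) (by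
      convert hy using 1; ring)
    have h3 : (1 : P) ∈ maximalIdeal P := by
      have : (1 : P) = (1 - (x1 * (2 * α) + x2 * β)) + (1 - (y1 * β + y2 * (2 * γ))) -
          (1 - (x1 * (2 * α) + x2 * β)) * (1 - (y1 * β + y2 * (2 * γ))) +
          (-(x1 * β + x2 * (2 * γ))) * (-(y1 * (2 * α) + y2 * β)) +
          (x1 * y2 - x2 * y1) * (4 * α * γ - β ^ 2) := by ring
      rw [this]
      exact Ideal.add_mem _ (Ideal.add_mem _ (Ideal.sub_mem _ (Ideal.add_mem _ h1.1 h2.2)
        (Ideal.mul_mem_right _ _ h1.1)) (Ideal.mul_mem_right _ _ h1.2)) (Ideal.mul_mem_left _ _ hcon')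
    exact (maximalIdeal.isMaximal P).ne_top ((Ideal.eq_top_iff_one _).mpr h3)
  have hlocπ : IsLocalHom π := IsLocalHom.of_surjective π hπ
  have hmaxL : ∀ w, π w ∈ maximalIdeal L ↔ w ∈ maximalIdeal P := fun w => by
    rw [mem_maximalIdeal, mem_maximalIdeal, mem_nonunits_iff, mem_nonunits_iff, isUnit_map_iff]
  have hmL : maximalIdeal L = Ideal.span {π a, π b} := by
    apply le_antisymm
    · intro z hz
      obtain ⟨w, rfl⟩ := hπ z
      rw [hmaxL, hm] at hz
      obtain ⟨x, y, rfl⟩ := Ideal.mem_span_pair.mp hz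
      rw [map_add, map_mul, map_mul]
      exact Ideal.mem_span_pair.mpr ⟨π x, π y, rfl⟩
    · rw [Ideal.span_le]
      rintro z (rfl | rfl)
      · exact (hmaxL _).mpr ha
      · exact (hmaxL _).mpr hb
  obtain ⟨t, ht, htreg⟩ := hreg
  refine ⟨⟨π a, π b, π α, π β, π γ, hmL, ?_, ?_⟩, not_isPrincipal_pow ht htreg ?_⟩
  · have := hunit.map π
    rwa [map_sub, map_mul, map_mul, map_pow, map_ofNat] at this
  · have h0 : π F = 0 := by
      rw [← RingHom.mem_ker, hker]
      exact Ideal.mem_span_singleton_self F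
    rw [hFq] at h0
    simpa using h0
  · rintro ⟨z, hz⟩
    rw [Ideal.submodule_span_eq] at hz
    obtain ⟨z, rfl⟩ := hπ z
    have hzm : z ∈ maximalIdeal P := by
      rw [← hmaxL, hz]
      exact Ideal.mem_span_singleton_self _
    have key : ∀ w ∈ maximalIdeal P, ∃ c : P, w - c * z ∈ maximalIdeal P ^ 2 := by
      intro w hw
      rw [← hmaxL, hz] at hw
      obtain ⟨c, hc⟩ := Ideal.mem_span_singleton'.mp hw
      obtain ⟨c, rfl⟩ := hπ c
      refine ⟨c, ?_⟩
      have h1 : w - c * z ∈ RingHom.ker π := by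
        rw [RingHom.mem_ker, map_sub, map_mul, hc, sub_self]
      rw [hker] at h1
      obtain ⟨d, hd⟩ := Ideal.mem_span_singleton'.mp h1
      rw [← hd]
      exact Ideal.mul_mem_left _ _ hFsq
    obtain ⟨c, hc⟩ := key a ha
    obtain ⟨d, hd⟩ := key b hb
    rw [hm] at hzm
    obtain ⟨e, g, rfl⟩ := Ideal.mem_span_pair.mp hzm
    have h1 := hind (1 - c * e) (-(c * g)) (by convert hc using 1; ring)
    have h2 := hind (-(d * e)) (1 - d * g) (by convert hd using 1; ring)
    have h3 : (1 : P) ∈ maximalIdeal P := by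
      have : (1 : P) = (1 - c * e) * (1 - d * g) + (1 - c * e) * (d * g) + c * e := by ring
      have h4 : (1 : P) = (1 - c * e) + (1 - d * g) - (1 - c * e) * (1 - d * g) +
          (-(c * g)) * (-(d * e)) := by ring
      rw [h4]
      exact Ideal.add_mem _ (Ideal.sub_mem _ (Ideal.add_mem _ h1.1 h2.2)
        (Ideal.mul_mem_right _ _ h1.1)) (Ideal.mul_mem_right _ _ h1.2)
    exact (maximalIdeal.isMaximal P).ne_top ((Ideal.eq_top_iff_one _).mpr h3)

end Two

end K563.NodeAlg
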