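import Groth.Agent.Synt.K563.QuotRel
import Groth.Agent.Synt.K563.NodeAlg

/-!
# Nodes from the Fitting ideal of the differentials: preliminary local statements
-/

set_option autoImplicit false

universe u v

open KaehlerDifferential IsLocalRing TensorProduct

namespace K563.NodeLoc

open Groth.Agent.Flat2C.FittingZero (rel mem_rel)

theorem det_mem_pow {R ι : Type*} [CommRing R] [Fintype ι] [DecidableEq ι] (I : Ideal R) (M : Matrix ι ι R)
    (h : ∀ i j, M i j ∈ I) : M.det ∈ I ^ Fintype.card ι := by
  rw [Matrix.det_apply]
  refine Ideal.sum_mem _ fun σ _ => ?_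
  have h1 : ∏ i, M (σ i) i ∈ I ^ Fintype.card ι := by
    have := Ideal.prod_mem_prod (s := Finset.univ) (I := fun _ : ι => I) (x := fun i => M (σ i) i)
      fun i _ => h _ _
    simpa using this
  rcases Int.units_eq_one_or (Equiv.Perm.sign σ) with h2 | h2 <;> rw [h2]
  · simpa using h1
  · simpa using h1

/-- The first Fitting ideal of a module over a local ring which needs three generators is contained in the square
of the maximal ideal. -/
theorem ideal_one_le_sq {L : Type u} [CommRing L] [IsLocalRing L] {M : Type v} [AddCommGroup M] [Module L M]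
    [Module.Finite L M] (h : 3 ≤ Module.finrank (ResidueField L) (ResidueField L ⊗[L] M)) :
    Fitt.ideal L M 1 ≤ maximalIdeal L ^ 2 := by
  classical
  let b := Module.finBasis (ResidueField L) (ResidueField L ⊗[L] M)
  have hsurj := TensorProduct.mk_surjective L M (ResidueField L) Ideal.Quotient.mk_surjective
  choose x hx using fun i => hsurj (b i)
  have hx' : ∀ i, (1 : ResidueField L) ⊗ₜ[L] x i = b i := hx
  have hspan := IsLocalRing.span_eq_top_of_tmul_eq_basis x b hx'
  have hrel : ∀ c : Fin (Module.finrank (ResidueField L) (ResidueField L ⊗[L] M)) → L,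
      (∑ i, c i • x i = 0) → ∀ i, c i ∈ maximalIdeal L := by
    intro c hc i
    have h1 : ∑ i, (residue L (c i)) • b i = 0 := by
      have := congrArg (fun m => (1 : ResidueField L) ⊗ₜ[L] m) hc
      simp only [TensorProduct.tmul_sum, TensorProduct.tmul_zero, TensorProduct.tmul_smul, hx'] at this
      rw [← this]
      refine Finset.sum_congr rfl fun j _ => ?_
      exact algebraMap_smul (ResidueField L) (c j) (b j)
    have h2 := Fintype.linearIndependent_iff.mp b.linearIndependent _ h1 i
    rwa [residue_eq_zero_iff] at h2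
  rw [K360.FittMinors.ideal_eq_minors (κ := Fin (Module.finrank (ResidueField L) (ResidueField L ⊗[L] M) - 1))
    x hspan 1 (by simp), Ideal.span_le]
  rintro _ ⟨z, e, hz, rfl⟩
  have h3 := det_mem_pow (maximalIdeal L) (Matrix.of fun a b => z b (e a)) fun a b => hrel _ (hz b) _
  rw [Fintype.card_fin] at h3
  exact Ideal.pow_le_pow_right (by omega) h3

/-- The first Fitting ideal of the differentials of a hypersurface in a two-dimensional smooth local algebra. -/
theorem ideal_one_eq {k P L : Type*} [CommRing k] [CommRing P] [CommRing L] [Algebra k P] [Algebra k L]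
    [Algebra P L] [IsScalarTower k P L] (B : Module.Basis (Fin 2) P Ω[P⁄k])
    (hs : Function.Surjective (algebraMap P L)) (F : P) (hF : RingHom.ker (algebraMap P L) = Ideal.span {F}) :
    Fitt.ideal L Ω[L⁄k] 1 =
      Ideal.span {algebraMap P L (B.repr (D k P F) 0), algebraMap P L (B.repr (D k P F) 1)} := by
  rw [FitJac.ideal_eq_span_det (c := 1) _ (QuotRel.span_map_eq_top B hs) _
    (QuotRel.rel_map_eq B hs (fun _ : Fin 1 => F) (by simp [hF])) (by simp)]
  congr 1
  ext d
  simp only [Matrix.det_unique, Matrix.of_apply, Set.mem_setOf_eq, Set.mem_insert_iff, Set.mem_singleton_iff]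
  constructor
  · rintro ⟨I, rfl⟩
    rcases Fin.exists_fin_two.mp ⟨I default, rfl⟩ with h | h
    · left; rw [← h]
    · right; rw [← h]
  · rintro (rfl | rfl)
    · exact ⟨fun _ => 0, rfl⟩
    · exact ⟨fun _ => 1, rfl⟩

section Field

variable (k : Type u) [Field k] {L : Type u} [CommRing L] [IsLocalRing L] [Algebra k L]

theorem exists_one_tmul_D_aux (k P K : Type*) [CommRing k] [CommRing P] [CommRing K] [Algebra k P]
    [Algebra k K] [Algebra P K] [IsScalarTower k P K] [Subsingleton Ω[K⁄k]]
    (hs : Function.Surjective (algebraMap P K)) (w : K ⊗[P] Ω[P⁄k]) :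
    ∃ z ∈ RingHom.ker (algebraMap P K), (1 : K) ⊗ₜ[P] D k P z = w := by
  have h0 : mapBaseChange k P K w = 0 := Subsingleton.elim _ _
  rw [exact_kerCotangentToTensor_mapBaseChange k P K hs] at h0
  obtain ⟨g, hg⟩ := h0
  obtain ⟨⟨g, hgk⟩, rfl⟩ := Ideal.toCotangent_surjective _ g
  rw [kerCotangentToTensor_toCotangent] at hg
  change (1 : K) ⊗ₜ[P] D k P g = _ at hg
  exact ⟨g, hgk, hg⟩

/-- If the residue field is unramified over `k`, every element of `κ ⊗ Ω_{L/k}` is the differential of an element
of the maximal ideal. -/
theorem exists_one_tmul_D [Algebra.FormallyUnramified k (ResidueField L)]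
    (w : ResidueField L ⊗[L] Ω[L⁄k]) : ∃ z ∈ maximalIdeal L, (1 : ResidueField L) ⊗ₜ[L] D k L z = w := by
  obtain ⟨z, hz, h⟩ := exists_one_tmul_D_aux k L (ResidueField L) Ideal.Quotient.mk_surjective w
  refine ⟨z, ?_, h⟩
  rw [← IsLocalRing.ker_residue]
  exact hz

/-- In a local algebra, essentially of finite type over a field `k`, whose residue field is unramified over `k`,
elements of the maximal ideal whose differentials generate the module of differentials generate the maximal
ideal. -/
theorem span_eq_maximalIdeal [Algebra.EssFiniteType k L] {ι : Type*} (a : ι → L)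
    (ha : ∀ i, a i ∈ maximalIdeal L)
    (h : Submodule.span L (Set.range fun i => D k L (a i)) = ⊤) :
    Ideal.span (Set.range a) = maximalIdeal L := by
  let I := Ideal.span (Set.range a)
  have hI : I ≤ maximalIdeal L := Ideal.span_le.mpr (by rintro _ ⟨i, rfl⟩; exact ha i)
  have : Algebra.FormallyUnramified k (L ⧸ I) := by
    constructor
    have hs : Function.Surjective (algebraMap L (L ⧸ I)) := Ideal.Quotient.mk_surjective
    have h1 : Submodule.span (L ⧸ I) (Set.range fun i => KaehlerDifferential.map k k L (L ⧸ I) (D k L (a i))) =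
        ⊤ := by
      rw [eq_top_iff]
      rintro w -
      obtain ⟨w, rfl⟩ := KaehlerDifferential.map_surjective_of_surjective k k L (L ⧸ I) hs w
      have hw : w ∈ Submodule.span L (Set.range fun i => D k L (a i)) := h ▸ trivial
      induction hw using Submodule.span_induction with
      | mem z hz =>
        obtain ⟨i, rfl⟩ := hz
        exact Submodule.subset_span ⟨i, rfl⟩
      | zero => rw [map_zero]; exact Submodule.zero_mem _
      | add z w _ _ hz hw => rw [map_add]; exact Submodule.add_mem _ hz hw
      | smul c z _ hz =>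
        rw [map_smul, ← algebraMap_smul (L ⧸ I) c]
        exact Submodule.smul_mem _ _ hz
    have h2 : (Set.range fun i => KaehlerDifferential.map k k L (L ⧸ I) (D k L (a i))) ⊆ {0} := by
      rintro _ ⟨i, rfl⟩
      have h3 : algebraMap L (L ⧸ I) (a i) = 0 :=
        Ideal.Quotient.eq_zero_iff_mem.mpr (Ideal.subset_span ⟨i, rfl⟩)
      simp only [Set.mem_singleton_iff]
      rw [KaehlerDifferential.map_D, h3, map_zero]
    rw [← Submodule.subsingleton_iff (L ⧸ I), ← subsingleton_iff_bot_eq_top, ← h1, eq_comm,
      Submodule.span_eq_bot]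
    exact fun x hx => h2 hx
  exact QuotRel.eq_maximalIdeal_of_formallyUnramified k L I hI

/-- A basis of differentials of elements of the maximal ideal. -/
theorem exists_basis [Algebra.EssFiniteType k L] [Algebra.FormallyUnramified k (ResidueField L)]
    [Module.Free L Ω[L⁄k]] [Module.Finite L Ω[L⁄k]] (h2 : Module.finrank L Ω[L⁄k] = 2) :
    ∃ (B : Module.Basis (Fin 2) L Ω[L⁄k]) (a b : L), B 0 = D k L a ∧ B 1 = D k L b ∧
      maximalIdeal L = Ideal.span {a, b} := by
  have h3 : Module.finrank (ResidueField L) (ResidueField L ⊗[L] Ω[L⁄k]) = 2 := by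
    rw [Module.finrank_baseChange, h2]
  have : Module.FinitePresentation L Ω[L⁄k] := Module.finitePresentation_of_projective L _
  let b := Module.finBasisOfFinrankEq (ResidueField L) (ResidueField L ⊗[L] Ω[L⁄k]) h3
  choose z hz hzb using fun i => exists_one_tmul_D k (b i)
  obtain ⟨B, hB⟩ := Module.exists_basis_of_basis_baseChange (fun i => D k L (z i))
    (by
      convert b.linearIndependent using 1
      funext i
      exact hzb i)
    (by
      rw [← b.span_eq]
      congr 2
      funext i
      exact hzb i)
    (Module.Flat.rTensor_preserves_injective_linearMap (maximalIdeal L).subtype Subtype.val_injective)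
  refine ⟨B, z 0, z 1, hB 0, hB 1, ?_⟩
  rw [← span_eq_maximalIdeal k z hz (by rw [← B.span_eq]; congr 2; funext i; exact (hB i).symm)]
  congr 1
  ext x
  simp [Fin.exists_fin_two, eq_comm]

end Field

end K563.NodeLoc
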