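import Groth.Agent.Synt.K563.NodeSel

/-!
# A point of a one-dimensional complete intersection where the singular scheme is unramified is a node
-/

set_option autoImplicit false

universe u v

open KaehlerDifferential IsLocalRing TensorProduct MvPolynomial

namespace K563.NodeMain

open Groth.Agent.CurvesB.Node

section Unram

variable (k : Type u) {B : Type u} [Field k] [CommRing B] [Algebra k B]

theorem formallyUnramified_quotient_map (L : Type u) [CommRing L] [Algebra k L] [Algebra B L]
    [IsScalarTower k B L] [Algebra.FormallyUnramified B L] (I : Ideal B)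
    [Algebra.FormallyUnramified k (B ⧸ I)] :
    Algebra.FormallyUnramified k (L ⧸ I.map (algebraMap B L)) := by
  have h1 : Algebra.FormallyUnramified B (L ⧸ I.map (algebraMap B L)) :=
    Algebra.FormallyUnramified.comp B L (L ⧸ I.map (algebraMap B L))
  let g : (B ⧸ I) →+* (L ⧸ I.map (algebraMap B L)) :=
    Ideal.quotientMap (I.map (algebraMap B L)) (algebraMap B L) Ideal.le_comap_map
  let _ : Algebra (B ⧸ I) (L ⧸ I.map (algebraMap B L)) := g.toAlgebra
  have : IsScalarTower B (B ⧸ I) (L ⧸ I.map (algebraMap B L)) := IsScalarTower.of_algebraMap_eq fun x => rfl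
  have : IsScalarTower k (B ⧸ I) (L ⧸ I.map (algebraMap B L)) := IsScalarTower.of_algebraMap_eq fun x => by
    rw [IsScalarTower.algebraMap_apply k B (B ⧸ I), ← IsScalarTower.algebraMap_apply B (B ⧸ I),
      ← IsScalarTower.algebraMap_apply k B]
  have h2 : Algebra.FormallyUnramified (B ⧸ I) (L ⧸ I.map (algebraMap B L)) :=
    Algebra.FormallyUnramified.of_restrictScalars B (B ⧸ I) (L ⧸ I.map (algebraMap B L))
  exact Algebra.FormallyUnramified.comp k (B ⧸ I) (L ⧸ I.map (algebraMap B L))

end Unram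

section Smooth

variable {k : Type u} [Field k] {n c : ℕ}

/-- The local ring of a smooth point of `V(G₁,…,G_c)` in `𝔸^{c+2}`. -/
theorem finrank_eq_two {C : Type u} [CommRing C] [Algebra k C] (φ : MvPolynomial (Fin n) k →ₐ[k] C)
    (hφ : Function.Surjective φ) (G : Fin c → MvPolynomial (Fin n) k)
    (hker : RingHom.ker φ.toRingHom = Ideal.span (Set.range G)) (hn : n = c + 2)
    (q : Ideal C) [q.IsPrime] (I : Fin c ↪ Fin n)
    (h : φ (Matrix.det (Matrix.of fun j i => MvPolynomial.pderiv (I i) (G j))) ∉ q)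
    (P : Type u) [CommRing P] [IsLocalRing P] [Algebra C P] [Algebra k P] [IsScalarTower k C P]
    [IsLocalization.AtPrime P q] [hfs : Algebra.FormallySmooth k P] :
    Module.Finite P Ω[P⁄k] ∧ Module.Free P Ω[P⁄k] ∧ Module.finrank P Ω[P⁄k] = 2 := by
  have hft : Algebra.FiniteType k C := Algebra.FiniteType.of_surjective φ hφ
  have : Algebra.EssFiniteType C P := Algebra.EssFiniteType.of_isLocalization P q.primeCompl
  have hess : Algebra.EssFiniteType k P := Algebra.EssFiniteType.comp k C P
  have : Algebra.FormallyEtale C P := Algebra.FormallyEtale.of_isLocalization q.primeCompl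
  have hfin : Module.Finite P Ω[P⁄k] := inferInstance
  have hproj : Module.Projective P Ω[P⁄k] := inferInstance
  have hfree : Module.Free P Ω[P⁄k] := Module.free_of_flat_of_isLocalRing
  refine ⟨hfin, hfree, ?_⟩
  have h1 : Fitt.ideal P Ω[P⁄k] 1 = ⊥ := by
    rw [NodeSel.ideal_map_eq k (B := C) (T := P),
      NodeSel.ideal_eq_bot φ hφ G hker (by omega), Ideal.map_bot]
  have h2 : Fitt.ideal P Ω[P⁄k] 2 = ⊤ := by
    rw [NodeSel.ideal_map_eq k (B := C) (T := P)]
    have h3 : φ (Matrix.of fun j i => pderiv (I i) (G j)).det ∈ Fitt.ideal C Ω[C⁄k] 2 := by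
      rw [FitJac.ideal_kaehler_eq φ hφ G hker hn, AlgHom.map_det]
      exact Ideal.subset_span ⟨I, rfl⟩
    have h4 := Ideal.mem_map_of_mem (algebraMap _ P) h3
    have h5 : IsUnit (algebraMap C P (φ (Matrix.of fun j i => pderiv (I i) (G j)).det)) :=
      IsLocalization.map_units P (⟨φ (Matrix.of fun j i => pderiv (I i) (G j)).det, h⟩ : q.primeCompl)
    exact Ideal.eq_top_of_isUnit_mem _ h4 h5
  have hb := Module.finBasis P Ω[P⁄k]
  apply le_antisymm
  · by_contra hcon
    rw [K360.FittFiber.ideal_eq_bot_of_basis hb (by simpa using hcon)] at h2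
    exact bot_ne_top h2
  · by_contra hcon
    rw [K360.FittFiber.ideal_eq_top_of_basis hb (by simp; omega)] at h1
    exact bot_ne_top h1.symm

end Smooth

section Quot

variable (k : Type u) [Field k] {P L : Type u} [CommRing P] [IsLocalRing P] [Algebra k P] [CommRing L]
  [IsLocalRing L] [Algebra k L]

theorem formallyUnramified_residueField (π : P →ₐ[k] L) (hπ : Function.Surjective π)
    [Algebra.FormallyUnramified k (ResidueField L)] : Algebra.FormallyUnramified k (ResidueField P) := by
  let f : P →ₐ[k] ResidueField L := (IsScalarTower.toAlgHom k L (ResidueField L)).comp π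
  have hf : Function.Surjective f := fun y => by
    obtain ⟨z, rfl⟩ := Ideal.Quotient.mk_surjective y
    obtain ⟨w, rfl⟩ := hπ z
    exact ⟨w, rfl⟩
  have hkerf : RingHom.ker f = maximalIdeal P :=
    IsLocalRing.eq_maximalIdeal (RingHom.ker_isMaximal_of_surjective _ hf)
  have h1 : Algebra.FormallyUnramified k (P ⧸ RingHom.ker f) :=
    Algebra.FormallyUnramified.of_equiv (Ideal.quotientKerAlgEquivOfSurjective hf).symm
  rw [hkerf] at h1
  exact h1

theorem nodeLike_of_quot [Algebra.EssFiniteType k P] [Module.Finite P Ω[P⁄k]] [Module.Free P Ω[P⁄k]]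
    (hrank : Module.finrank P Ω[P⁄k] = 2) [Algebra P L] [IsScalarTower k P L]
    (hπ : Function.Surjective (algebraMap P L)) (F₀ : P)
    (hkerπ : RingHom.ker (algebraMap P L) = Ideal.span {F₀})
    (hreg : ∃ t ∈ maximalIdeal L, t ∈ nonZeroDivisors L)
    (hI : Fitt.ideal L Ω[L⁄k] 1 = maximalIdeal L) [Algebra.FormallyUnramified k (ResidueField L)] :
    NodeLike L := by
  have := formallyUnramified_residueField k (IsScalarTower.toAlgHom k P L) hπ
  obtain ⟨Bs, a, b, hBa, hBb, hm⟩ := NodeLoc.exists_basis k (L := P) hrank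
  have hFit := NodeLoc.ideal_one_eq (k := k) (P := P) (L := L) Bs hπ _ hkerπ
  rw [hI] at hFit
  have hloc : IsLocalHom (algebraMap P L) := IsLocalHom.of_surjective _ hπ
  have hmax : ∀ w, algebraMap P L w ∈ maximalIdeal L ↔ w ∈ maximalIdeal P := fun w => by
    rw [mem_maximalIdeal, mem_maximalIdeal, mem_nonunits_iff, mem_nonunits_iff, isUnit_map_iff]
  have hπF : algebraMap P L F₀ = 0 := by
    rw [← RingHom.mem_ker, hkerπ]
    exact Ideal.mem_span_singleton_self _
  refine NodeAlg.nodeLike_of_surjective k Bs a b hBa hBb hm F₀ ?_ (algebraMap P L) hπ hkerπ hreg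
  apply le_antisymm
  · rw [Ideal.span_le]
    rintro z (rfl | rfl | rfl)
    · rw [SetLike.mem_coe, ← hmax, hπF]
      exact Ideal.zero_mem _
    · rw [SetLike.mem_coe, ← hmax, hFit]
      exact Ideal.subset_span (Or.inl rfl)
    · rw [SetLike.mem_coe, ← hmax, hFit]
      exact Ideal.subset_span (Or.inr rfl)
  · intro z hz
    rw [← hmax, hFit] at hz
    obtain ⟨x, y, hxy⟩ := Ideal.mem_span_pair.mp hz
    obtain ⟨x, rfl⟩ := hπ x
    obtain ⟨y, rfl⟩ := hπ y
    have h1 : z - (x * Bs.repr (D k P F₀) 0 + y * Bs.repr (D k P F₀) 1) ∈ RingHom.ker (algebraMap P L) := by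
      rw [RingHom.mem_ker, map_sub, map_add, map_mul, map_mul, ← hxy]
      exact sub_self _
    rw [hkerπ] at h1
    obtain ⟨w, hw⟩ := Ideal.mem_span_singleton'.mp h1
    rw [Ideal.mem_span_insert]
    refine ⟨w, x * Bs.repr (D k P F₀) 0 + y * Bs.repr (D k P F₀) 1, Ideal.mem_span_pair.mpr ⟨x, y, rfl⟩, ?_⟩
    rw [hw]
    ring

end Quot

section Main

variable {k : Type u} [Field k] {n c : ℕ} {B : Type u} [CommRing B] [Algebra k B]

theorem exists_compl {c : ℕ} (σ : Fin c ↪ Fin (c + 1)) : ∃ j₀, ∀ j, j = j₀ ∨ j ∈ Set.range σ := by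
  classical
  have h : (Finset.univ \ Finset.univ.map σ).card = 1 := by
    rw [Finset.card_sdiff_of_subset (Finset.subset_univ _)]
    simp
  obtain ⟨j₀, hj₀⟩ := Finset.card_eq_one.mp h
  refine ⟨j₀, fun j => ?_⟩
  by_cases hj : j ∈ Set.range σ
  · exact Or.inr hj
  · left
    have : j ∈ Finset.univ \ Finset.univ.map σ := by
      simpa using fun x hx => hj ⟨x, hx⟩
    rw [hj₀] at this
    exact Finset.mem_singleton.mp this

theorem ker_liftₐ_eq (φ : MvPolynomial (Fin n) k →ₐ[k] B) (F : Fin (c + 1) → MvPolynomial (Fin n) k)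
    (hF : RingHom.ker φ.toRingHom = Ideal.span (Set.range F)) (σ : Fin c ↪ Fin (c + 1)) (j₀ : Fin (c + 1))
    (hj₀ : ∀ j, j = j₀ ∨ j ∈ Set.range σ)
    (ψ : (MvPolynomial (Fin n) k ⧸ Ideal.span (Set.range (F ∘ σ))) →ₐ[k] B)
    (hψ : ∀ f, ψ (Ideal.Quotient.mk _ f) = φ f) :
    RingHom.ker ψ.toRingHom = Ideal.span {Ideal.Quotient.mk _ (F j₀)} := by
  apply le_antisymm
  · intro x hx
    obtain ⟨f, rfl⟩ := Ideal.Quotient.mk_surjective x
    have hf : f ∈ RingHom.ker φ.toRingHom := by
      have : ψ (Ideal.Quotient.mk _ f) = 0 := hx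
      rw [hψ] at this
      exact this
    rw [hF] at hf
    have h1 : Ideal.span (Set.range F) ≤ Ideal.span (Set.range (F ∘ σ)) ⊔ Ideal.span {F j₀} := by
      rw [Ideal.span_le]
      rintro _ ⟨j, rfl⟩
      rcases hj₀ j with rfl | ⟨i, rfl⟩
      · exact Ideal.mem_sup_right (Ideal.mem_span_singleton_self _)
      · exact Ideal.mem_sup_left (Ideal.subset_span ⟨i, rfl⟩)
    obtain ⟨g, hg, y, hy, rfl⟩ := Submodule.mem_sup.mp (h1 hf)
    rw [map_add, Ideal.Quotient.eq_zero_iff_mem.mpr hg, zero_add]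
    obtain ⟨a, rfl⟩ := Ideal.mem_span_singleton'.mp hy
    rw [map_mul]
    exact Ideal.mul_mem_left _ _ (Ideal.mem_span_singleton_self _)
  · rw [Ideal.span_singleton_le_iff_mem]
    have h1 : F j₀ ∈ RingHom.ker φ.toRingHom := hF ▸ Ideal.subset_span ⟨j₀, rfl⟩
    have h2 : φ (F j₀) = 0 := h1
    rw [← hψ] at h2
    exact h2

theorem main_aux (φ : MvPolynomial (Fin n) k →ₐ[k] B) (hφ : Function.Surjective φ)
    (F : Fin (c + 1) → MvPolynomial (Fin n) k) (hF : RingHom.ker φ.toRingHom = Ideal.span (Set.range F))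
    (hn : n = c + 2) (q : Ideal B) [q.IsPrime]
    (L : Type u) [CommRing L] [IsLocalRing L] [Algebra B L] [Algebra k L] [IsScalarTower k B L]
    [IsLocalization.AtPrime L q] (hreg : ∃ t ∈ maximalIdeal L, t ∈ nonZeroDivisors L)
    (hI : Fitt.ideal L Ω[L⁄k] 1 = maximalIdeal L) [Algebra.FormallyUnramified k (ResidueField L)]
    (σ : Fin c ↪ Fin (c + 1)) (I : Fin c ↪ Fin n)
    (hσ : φ ((Matrix.of fun i j => pderiv (I j) (F (σ i))).det) ∉ q) : NodeLike L := by
  obtain ⟨j₀, hj₀⟩ := exists_compl σ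
  let C := MvPolynomial (Fin n) k ⧸ Ideal.span (Set.range (F ∘ σ))
  have hle : ∀ a ∈ Ideal.span (Set.range (F ∘ σ)), φ a = 0 := by
    intro a ha
    have h1 : Ideal.span (Set.range (F ∘ σ)) ≤ RingHom.ker φ.toRingHom := by
      rw [hF]
      exact Ideal.span_mono (Set.range_comp_subset_range _ _)
    exact h1 ha
  let ψ : C →ₐ[k] B := Ideal.Quotient.liftₐ _ φ hle
  have hψm : ∀ f, ψ (Ideal.Quotient.mk _ f) = φ f := fun f => rfl
  have hψ : Function.Surjective ψ := fun b => by
    obtain ⟨f, rfl⟩ := hφ b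
    exact ⟨Ideal.Quotient.mk _ f, rfl⟩
  have hkerψ := ker_liftₐ_eq φ F hF σ j₀ hj₀ ψ hψm
  let qC : Ideal C := q.comap ψ.toRingHom
  have hqC : qC.IsPrime := Ideal.comap_isPrime _ _
  have hminor : Ideal.Quotient.mk (Ideal.span (Set.range (F ∘ σ)))
      (Matrix.det (Matrix.of fun j i => MvPolynomial.pderiv (I i) ((F ∘ σ) j))) ∉ qC := hσ
  have hsm : Algebra.FormallySmooth k (Localization.AtPrime qC) :=
    K563.Jac.isSmoothAt_of_minor (F ∘ σ) qC I hminor
  let P := Localization.AtPrime qC
  obtain ⟨hfin, hfree, hrank⟩ := finrank_eq_two (Ideal.Quotient.mkₐ k (Ideal.span (Set.range (F ∘ σ))))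
    Ideal.Quotient.mk_surjective (F ∘ σ) Ideal.mk_ker hn qC I hminor P
  have hftC : Algebra.FiniteType k C := inferInstance
  have : Algebra.EssFiniteType C P := Algebra.EssFiniteType.of_isLocalization P qC.primeCompl
  have hess : Algebra.EssFiniteType k P := Algebra.EssFiniteType.comp k C P
  have hT : Submonoid.map ψ.toRingHom qC.primeCompl = q.primeCompl := by
    ext x
    constructor
    · rintro ⟨y, hy, rfl⟩
      exact hy
    · intro hx
      obtain ⟨y, rfl⟩ := hψ x
      exact ⟨y, hx, rfl⟩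
  let π : P →+* L := IsLocalization.map L ψ.toRingHom (hT.symm ▸ qC.primeCompl.le_comap_map)
  have hkerπ : RingHom.ker π = Ideal.span {algebraMap C P (Ideal.Quotient.mk _ (F j₀))} := by
    have h1 : RingHom.ker π = (RingHom.ker ψ.toRingHom).map (algebraMap C P) :=
      IsLocalization.ker_map L ψ.toRingHom hT
    rw [h1, hkerψ, Ideal.map_span, Set.image_singleton]
  have hπ : Function.Surjective π := by
    intro y
    obtain ⟨b, s, rfl⟩ := IsLocalization.exists_mk'_eq q.primeCompl y
    obtain ⟨b, rfl⟩ := hψ b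
    obtain ⟨s', hs'⟩ := hψ s
    have hs'' : s' ∈ qC.primeCompl := by
      intro h
      have : ψ s' ∈ q := h
      rw [hs'] at this
      exact s.2 this
    refine ⟨IsLocalization.mk' P b ⟨s', hs''⟩, ?_⟩
    rw [IsLocalization.map_mk']
    congr 1
    exact Subtype.ext hs'
  let _ : Algebra P L := π.toAlgebra
  have htow : IsScalarTower k P L := IsScalarTower.of_algebraMap_eq fun x => by
    change _ = π (algebraMap k P x)
    rw [IsScalarTower.algebraMap_apply k C P, IsLocalization.map_eq]
    change _ = algebraMap B L (ψ (algebraMap k C x))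
    rw [AlgHom.commutes, ← IsScalarTower.algebraMap_apply k B L]
  exact nodeLike_of_quot k hrank hπ _ hkerπ hreg hI

/-- **Nodes from the singular scheme.**  Let `B` be the quotient of a polynomial ring in `c + 1` variables over a
field by `c` equations and `q` a prime containing the first Fitting ideal of the differentials. If the quotient by
this Fitting ideal is unramified over the field and `B_q` has positive depth, then `B_q` is node-like with residue
field unramified over `k`. -/
theorem main (φ : MvPolynomial (Fin n) k →ₐ[k] B) (hφ : Function.Surjective φ)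
    (F : Fin c → MvPolynomial (Fin n) k) (hF : RingHom.ker φ.toRingHom = Ideal.span (Set.range F))
    (hn : n = c + 1) (q : Ideal B) [q.IsPrime] (hq : Fitt.ideal B Ω[B⁄k] 1 ≤ q)
    [hunr : Algebra.FormallyUnramified k (B ⧸ Fitt.ideal B Ω[B⁄k] 1)]
    (L : Type u) [CommRing L] [IsLocalRing L] [Algebra B L] [Algebra k L] [IsScalarTower k B L]
    [IsLocalization.AtPrime L q] (hreg : ∃ t ∈ maximalIdeal L, t ∈ nonZeroDivisors L) :
    NodeLike L ∧ Algebra.FormallyUnramified k (ResidueField L) := by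
  have hft : Algebra.FiniteType k B := Algebra.FiniteType.of_surjective φ hφ
  have : Algebra.EssFiniteType B L := Algebra.EssFiniteType.of_isLocalization L q.primeCompl
  have hess : Algebra.EssFiniteType k L := Algebra.EssFiniteType.comp k B L
  have : Algebra.FormallyEtale B L := Algebra.FormallyEtale.of_isLocalization q.primeCompl
  have hNL : IsNoetherianRing L := Algebra.EssFiniteType.isNoetherianRing k L
  have hIL := NodeSel.ideal_map_eq k (B := B) (T := L) 1
  have hqL : q.map (algebraMap B L) = maximalIdeal L := IsLocalization.AtPrime.map_eq_maximalIdeal q L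
  have hle : (Fitt.ideal B Ω[B⁄k] 1).map (algebraMap B L) ≤ maximalIdeal L :=
    (Ideal.map_mono hq).trans hqL.le
  have hunr' := formallyUnramified_quotient_map k L (Fitt.ideal B Ω[B⁄k] 1)
  have hI := QuotRel.eq_maximalIdeal_of_formallyUnramified k L _ hle
  have hres : Algebra.FormallyUnramified k (ResidueField L) := by
    rw [hI] at hunr'
    exact hunr'
  rw [hI] at hIL
  have hrk : Module.finrank (ResidueField L) (ResidueField L ⊗[L] Ω[L⁄k]) ≤ 2 := by
    by_contra hcon
    have h1 := NodeLoc.ideal_one_le_sq (L := L) (M := Ω[L⁄k]) (by omega)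
    rw [hIL] at h1
    have h2 : maximalIdeal L = ⊥ := by
      refine Submodule.eq_bot_of_le_smul_of_le_jacobson_bot (maximalIdeal L) (maximalIdeal L)
        (IsNoetherian.noetherian _) ?_ (IsLocalRing.maximalIdeal_le_jacobson _)
      rw [smul_eq_mul, ← pow_two]
      exact h1
    obtain ⟨t, ht, htr⟩ := hreg
    rw [h2] at ht
    have h3 : t = 0 := ht
    exact nonZeroDivisors.ne_zero htr h3
  have hF2 : ¬ Fitt.ideal B Ω[B⁄k] 2 ≤ q := by
    intro hcon
    have h1 := NodeSel.ideal_eq_top_of_finrank_le (L := L) (M := Ω[L⁄k]) 2 hrk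
    rw [NodeSel.ideal_map_eq k (B := B) (T := L)] at h1
    have h2 := (Ideal.map_mono (f := algebraMap B L) hcon).trans hqL.le
    rw [h1] at h2
    exact (maximalIdeal.isMaximal L).ne_top (top_le_iff.mp h2)
  refine ⟨?_, hres⟩
  rcases c with _ | c
  · exfalso
    have h1 : Fitt.ideal B Ω[B⁄k] 1 = ⊤ :=
      K360.FittBasic.ideal_eq_top_of_card_le (fun i => D k B (φ (X i))) (FitJac.span_D_eq φ hφ)
        (by simp [hn])
    rw [h1] at hq
    exact Ideal.IsPrime.ne_top ‹_› (top_le_iff.mp hq)
  · obtain ⟨σ, I, hσ⟩ := NodeSel.exists_select φ hφ F hF (c' := c) (r := 2) (by omega) q hF2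
    exact main_aux φ hφ F hF (by omega) q L hreg hIL σ I hσ

end Main

end K563.NodeMain
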