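import Groth.Agent.Synt.K563.NodeLoc
import Groth.Agent.Synt.K563.Jac

/-!
# Fitting ideals of differentials: localization, selection of equations
-/

set_option autoImplicit false

universe u v

open KaehlerDifferential IsLocalRing TensorProduct MvPolynomial

namespace K563.NodeSel

open Groth.Agent.Flat2C.FittingZero (rel mem_rel)

/-- Fitting ideals of differentials commute with formally étale base change. -/
theorem ideal_map_eq (k : Type*) {B T : Type*} [CommRing k] [CommRing B] [CommRing T] [Algebra k B]
    [Algebra k T] [Algebra B T] [IsScalarTower k B T] [Algebra.FormallyEtale B T] [Module.Finite B Ω[B⁄k]]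
    (r : ℕ) : Fitt.ideal T Ω[T⁄k] r = (Fitt.ideal B Ω[B⁄k] r).map (algebraMap B T) := by
  rw [← K360.FittBasic.ideal_baseChange T r]
  exact (K360.FittBasic.ideal_congr (tensorKaehlerEquivOfFormallyEtale k B T) r).symm

/-- The first Fitting ideal in a local ring is everything beyond the minimal number of generators. -/
theorem ideal_eq_top_of_finrank_le {L : Type u} [CommRing L] [IsLocalRing L] {M : Type v} [AddCommGroup M]
    [Module L M] [Module.Finite L M] (r : ℕ)
    (h : Module.finrank (ResidueField L) (ResidueField L ⊗[L] M) ≤ r) : Fitt.ideal L M r = ⊤ := by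
  let b := Module.finBasis (ResidueField L) (ResidueField L ⊗[L] M)
  have hsurj := TensorProduct.mk_surjective L M (ResidueField L) Ideal.Quotient.mk_surjective
  choose x hx using fun i => hsurj (b i)
  have hspan := IsLocalRing.span_eq_top_of_tmul_eq_basis x b hx
  exact K360.FittBasic.ideal_eq_top_of_card_le x hspan (by simpa using h)

section Select

variable {k : Type u} [CommRing k] {n c c' r : ℕ} {B : Type u} [CommRing B] [Algebra k B]

/-- If a Fitting ideal of the differentials is not contained in a prime, a minor of the appropriate size of the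
Jacobian matrix is not in the prime. -/
theorem exists_select (φ : MvPolynomial (Fin n) k →ₐ[k] B) (hφ : Function.Surjective φ)
    (F : Fin c → MvPolynomial (Fin n) k) (hF : RingHom.ker φ.toRingHom = Ideal.span (Set.range F))
    (hn : c' = n - r) (q : Ideal B) (h : ¬ Fitt.ideal B Ω[B⁄k] r ≤ q) :
    ∃ (σ : Fin c' ↪ Fin c) (I : Fin c' ↪ Fin n), φ ((Matrix.of fun i j => pderiv (I j) (F (σ i))).det) ∉ q := by
  classical
  by_contra hcon
  push Not at hcon
  apply h
  rw [K360.FittMinors.ideal_eq_minors (κ := Fin c') (fun i => D k B (φ (X i))) (FitJac.span_D_eq φ hφ) r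
    (by simp [hn]), Ideal.span_le]
  rintro _ ⟨z, e, hz, rfl⟩
  have h1 : ∀ b, z b ∈ Submodule.span B (Set.range fun i => K360.JacPres.jac φ (F i)) := fun b => by
    rw [FitJac.rel_D_eq φ hφ F hF, mem_rel]
    exact hz b
  let res : (Fin n → B) →ₗ[B] (Fin c' → B) := LinearMap.funLeft B B e
  have h2 : ∀ b, res (z b) ∈ Submodule.span B (Set.range fun i => res (K360.JacPres.jac φ (F i))) := fun b => by
    have := Submodule.mem_map_of_mem (f := res) (h1 b)
    rw [Submodule.map_span, ← Set.range_comp] at this
    exact this
  have h3 := K360.FittBasic.det_mem_span' (fun _ => Set.range fun i => res (K360.JacPres.jac φ (F i)))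
    (Matrix.of fun b => res (z b)) h2
  have h4 : (Matrix.of fun a b => z b (e a)).det = (Matrix.of fun b => res (z b)).det := by
    rw [← Matrix.det_transpose]
    rfl
  rw [SetLike.mem_coe, h4]
  refine Ideal.span_le.mpr ?_ h3
  rintro _ ⟨u, hu, rfl⟩
  choose σ hσ using hu
  have h5 : u = Matrix.of fun i j => φ (pderiv (e j) (F (σ i))) := by
    ext i j
    rw [← hσ i]
    rfl
  rw [SetLike.mem_coe, h5]
  by_cases hσi : Function.Injective σ
  · by_cases he : Function.Injective e
    · have := hcon ⟨σ, hσi⟩ ⟨e, he⟩
      rw [AlgHom.map_det] at this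
      exact this
    · rw [Function.not_injective_iff] at he
      obtain ⟨a, b, hab, hne⟩ := he
      rw [Matrix.det_zero_of_column_eq hne fun i => by rw [Matrix.of_apply, Matrix.of_apply, hab]]
      exact q.zero_mem
  · rw [Function.not_injective_iff] at hσi
    obtain ⟨a, b, hab, hne⟩ := hσi
    rw [Matrix.det_zero_of_row_eq hne (by ext j; rw [Matrix.of_apply, Matrix.of_apply, hab])]
    exact q.zero_mem

/-- Fitting ideals of the differentials vanish below the expected dimension. -/
theorem ideal_eq_bot (φ : MvPolynomial (Fin n) k →ₐ[k] B) (hφ : Function.Surjective φ)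
    (F : Fin c → MvPolynomial (Fin n) k) (hF : RingHom.ker φ.toRingHom = Ideal.span (Set.range F))
    (hn : n = c + 1 + r) : Fitt.ideal B Ω[B⁄k] r = ⊥ := by
  have h1 : Set.range (Fin.cons (0 : MvPolynomial (Fin n) k) F : Fin (c + 1) → MvPolynomial (Fin n) k) =
      insert 0 (Set.range F) := Fin.range_cons 0 F
  have h2 : RingHom.ker φ.toRingHom = Ideal.span (Set.range
      (Fin.cons (0 : MvPolynomial (Fin n) k) F : Fin (c + 1) → MvPolynomial (Fin n) k)) := by
    rw [h1, hF, Ideal.span_insert_zero]
  rw [FitJac.ideal_kaehler_eq φ hφ _ h2 hn, Ideal.span_eq_bot]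
  rintro _ ⟨I, rfl⟩
  exact Matrix.det_eq_zero_of_row_eq_zero 0 fun j => by simp

end Select

end K563.NodeSel
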