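import Groth.Agent.Synt.K563.FitJac
import Mathlib.RingTheory.Unramified.Field
import Mathlib.RingTheory.Etale.Kaehler

/-!
# Differentials of quotients: relations, Fitting ideals, unramified local algebras over fields
-/

set_option autoImplicit false

universe u v

open KaehlerDifferential IsLocalRing TensorProduct

namespace K563.QuotRel

open Groth.Agent.Flat2C.FittingZero (rel mem_rel)

/-- A local algebra essentially of finite type and formally unramified over a field is a field. -/
theorem isField_of_formallyUnramified (k R : Type u) [Field k] [CommRing R] [Algebra k R]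
    [Algebra.EssFiniteType k R] [Algebra.FormallyUnramified k R] [IsLocalRing R] : IsField R := by
  have := Algebra.FormallyUnramified.finite_of_free (R := k) (S := R)
  have : IsArtinianRing R := isArtinian_of_tower k inferInstance
  have : IsReduced R := Algebra.FormallyUnramified.isReduced_of_field k R
  exact IsArtinianRing.isField_of_isReduced_of_isLocalRing R

/-- An ideal of a local algebra essentially of finite type over a field with unramified quotient is the maximal
ideal. -/
theorem eq_maximalIdeal_of_formallyUnramified (k R : Type u) [Field k] [CommRing R] [Algebra k R]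
    [Algebra.EssFiniteType k R] [IsLocalRing R] (I : Ideal R) (hI : I ≤ maximalIdeal R)
    [Algebra.FormallyUnramified k (R ⧸ I)] : I = maximalIdeal R := by
  have hne : I ≠ ⊤ := fun h => (maximalIdeal.isMaximal R).ne_top (top_le_iff.mp (h ▸ hI))
  have : Nontrivial (R ⧸ I) := Ideal.Quotient.nontrivial_iff.mpr hne
  have : IsLocalRing (R ⧸ I) := IsLocalRing.of_surjective' (Ideal.Quotient.mk I) Ideal.Quotient.mk_surjective
  have : Algebra.EssFiniteType k (R ⧸ I) := Algebra.EssFiniteType.comp k R (R ⧸ I)
  have h1 := isField_of_formallyUnramified k (R ⧸ I)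
  have h2 : I.IsMaximal := Ideal.Quotient.maximal_of_isField _ h1
  exact IsLocalRing.eq_maximalIdeal h2

section Rel

variable {k P L : Type*} [CommRing k] [CommRing P] [CommRing L] [Algebra k P] [Algebra k L] [Algebra P L]
  [IsScalarTower k P L] {ι : Type*} [Fintype ι] [DecidableEq ι] (B : Module.Basis ι P Ω[P⁄k])
  (hs : Function.Surjective (algebraMap P L))

theorem one_tmul_eq (z : Ω[P⁄k]) : (1 : L) ⊗ₜ[P] z =
    ∑ i, algebraMap P L (B.repr z i) • (B.baseChange L) i := by
  conv_lhs => rw [← B.sum_repr z]
  rw [TensorProduct.tmul_sum]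
  refine Finset.sum_congr rfl fun i _ => ?_
  rw [Module.Basis.baseChange_apply, TensorProduct.tmul_smul, algebraMap_smul]

theorem mapBaseChange_basis (i : ι) :
    mapBaseChange k P L ((B.baseChange L) i) = KaehlerDifferential.map k k P L (B i) := by
  rw [Module.Basis.baseChange_apply, mapBaseChange_tmul, one_smul]

include hs in
theorem span_map_eq_top :
    Submodule.span L (Set.range fun i => KaehlerDifferential.map k k P L (B i)) = ⊤ := by
  rw [eq_top_iff]
  rintro w -
  obtain ⟨t, rfl⟩ := mapBaseChange_surjective k P L hs w
  rw [← (B.baseChange L).sum_repr t, map_sum]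
  refine Submodule.sum_mem _ fun j _ => ?_
  rw [map_smul]
  refine Submodule.smul_mem _ _ (Submodule.subset_span ⟨j, ?_⟩)
  rw [mapBaseChange_basis]

include hs in
theorem rel_map_eq {c : ℕ} (G : Fin c → P)
    (hG : RingHom.ker (algebraMap P L) = Ideal.span (Set.range G)) :
    Submodule.span L (Set.range fun j => fun i => algebraMap P L (B.repr (D k P (G j)) i)) =
      rel (R := L) (fun i => KaehlerDifferential.map k k P L (B i)) := by
  have hG0 : ∀ j, algebraMap P L (G j) = 0 := fun j => by
    rw [← RingHom.mem_ker, hG]
    exact Ideal.subset_span ⟨j, rfl⟩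
  have hmap : ∀ v : ι → L, mapBaseChange k P L (∑ i, v i • (B.baseChange L) i) =
      ∑ i, v i • KaehlerDifferential.map k k P L (B i) := fun v => by
    rw [map_sum]
    refine Finset.sum_congr rfl fun i _ => ?_
    rw [map_smul, mapBaseChange_basis]
  apply le_antisymm
  · refine Submodule.span_le.mpr ?_
    rintro _ ⟨j, rfl⟩
    rw [SetLike.mem_coe, mem_rel, ← hmap, ← one_tmul_eq, mapBaseChange_tmul, one_smul, map_D, hG0,
      map_zero]
  · intro v hv
    rw [mem_rel, ← hmap, exact_kerCotangentToTensor_mapBaseChange k P L hs] at hv
    obtain ⟨g, hg⟩ := hv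
    obtain ⟨⟨g, hgk⟩, rfl⟩ := Ideal.toCotangent_surjective _ g
    rw [kerCotangentToTensor_toCotangent] at hg
    change (1 : L) ⊗ₜ[P] D k P g = _ at hg
    rw [hG] at hgk
    obtain ⟨a, ha⟩ := (Submodule.mem_span_range_iff_exists_fun P).1 hgk
    have h2 : (1 : L) ⊗ₜ[P] D k P g =
        ∑ i, (∑ j, algebraMap P L (a j) * algebraMap P L (B.repr (D k P (G j)) i)) • (B.baseChange L) i := by
      rw [← ha, map_sum, TensorProduct.tmul_sum]
      have h3 : ∀ j, (1 : L) ⊗ₜ[P] D k P (a j • G j) =
          ∑ i, (algebraMap P L (a j) * algebraMap P L (B.repr (D k P (G j)) i)) • (B.baseChange L) i := by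
        intro j
        rw [smul_eq_mul, Derivation.leibniz, TensorProduct.tmul_add, TensorProduct.tmul_smul,
          TensorProduct.tmul_smul, ← algebraMap_smul L (G j), hG0, zero_smul, add_zero,
          ← algebraMap_smul L (a j), one_tmul_eq B, Finset.smul_sum]
        refine Finset.sum_congr rfl fun i _ => ?_
        rw [mul_smul]
      simp only [h3]
      rw [Finset.sum_comm]
      refine Finset.sum_congr rfl fun i _ => ?_
      rw [Finset.sum_smul]
    rw [h2] at hg
    have h4 : v = fun i => ∑ j, algebraMap P L (a j) * algebraMap P L (B.repr (D k P (G j)) i) := by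
      funext i
      have := congrArg (fun t => (B.baseChange L).repr t i) hg
      simp only [map_sum, map_smul, Module.Basis.repr_self, Finsupp.smul_single, smul_eq_mul, mul_one,
        Finsupp.coe_finsetSum, Finset.sum_apply, Finsupp.single_apply, Finset.sum_ite_eq',
        Finset.mem_univ, if_true] at this
      exact this.symm
    have h5 : v = ∑ j, algebraMap P L (a j) •
        (fun i => algebraMap P L (B.repr (D k P (G j)) i) : ι → L) := by
      rw [h4]
      funext i
      rw [Finset.sum_apply]
      rfl
    rw [h5]
    exact Submodule.sum_mem _ fun j _ => Submodule.smul_mem _ _ (Submodule.subset_span ⟨j, rfl⟩)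

end Rel

end K563.QuotRel
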