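import Mathlib.RingTheory.Regular.RegularSequence
import Mathlib.RingTheory.AdjoinRoot
import Mathlib.RingTheory.Localization.Away.AdjoinRoot
import Mathlib.RingTheory.Localization.Ideal
import Mathlib.RingTheory.Ideal.Quotient.Operations
import Mathlib.Algebra.MvPolynomial.Equiv

/-!
# Regular presentations of basic opens

If `fs` is weakly regular on `S_h`, then `h X - 1, fs` is weakly regular in `S[X]`.
-/

set_option autoImplicit false

universe u

namespace K563.RegPres

open Polynomial RingTheory.Sequence Pointwise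

section Poly

variable {S : Type u} [CommRing S] (h : S)

theorem isSMulRegular_C_mul_X_sub_one : IsSMulRegular S[X] (C h * X - 1 : S[X]) := by
  rw [isSMulRegular_iff_right_eq_zero_of_smul]
  intro g hg
  have h1 : g = C h * X * g := by
    have h2 : (C h * X - 1) * g = 0 := hg
    rw [sub_mul, one_mul, sub_eq_zero] at h2
    exact h2.symm
  ext n
  rw [coeff_zero]
  induction n with
  | zero =>
    rw [h1, mul_assoc, coeff_C_mul, X_mul, coeff_mul_X_zero, mul_zero]
  | succ n ih =>
    rw [h1, mul_assoc, coeff_C_mul, X_mul, coeff_mul_X, ih, mul_zero]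

theorem isWeaklyRegular_cons (fs : List S) (hfs : IsWeaklyRegular (AdjoinRoot (C h * X - 1 : S[X])) fs) :
    IsWeaklyRegular S[X] ((C h * X - 1 : S[X]) :: fs.map C) := by
  rw [isWeaklyRegular_cons_iff]
  refine ⟨isSMulRegular_C_mul_X_sub_one h, ?_⟩
  have hsub : ((C h * X - 1 : S[X]) • (⊤ : Submodule S[X] S[X])) = Ideal.span {(C h * X - 1 : S[X])} := by
    rw [← Submodule.ideal_span_singleton_smul, smul_eq_mul, Ideal.mul_top]
  let e : QuotSMulTop (C h * X - 1 : S[X]) S[X] ≃ₗ[S[X]] (S[X] ⧸ Ideal.span {(C h * X - 1 : S[X])}) :=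
    Submodule.quotEquivOfEq _ _ hsub
  refine ((e.toAddEquiv).isWeaklyRegular_congr (bs := fs) ?_).mpr hfs
  rw [List.forall₂_map_left_iff]
  refine List.forall₂_same.mpr fun s _ x => ?_
  change e (C s • x) = _
  rw [map_smul]
  obtain ⟨y, hy⟩ := Ideal.Quotient.mk_surjective (e x)
  change C s • (e x) = s • (e x)
  rw [← hy]
  change Ideal.Quotient.mk _ (C s * y) = Ideal.Quotient.mk _ (s • y)
  rw [Polynomial.smul_eq_C_mul]

theorem nonempty_quot_equiv {A : Type u} [CommRing A] [Algebra A S] (I : Ideal S) :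
    Nonempty ((S[X] ⧸ (Ideal.span {(C h * X - 1 : S[X])} ⊔ I.map (C : S →+* S[X]))) ≃ₐ[A]
      Localization.Away (Ideal.Quotient.mk I h)) := by
  have hloc : IsLocalization.Away h (AdjoinRoot (C h * X - 1 : S[X])) := IsLocalization.adjoin_inv h
  let L := AdjoinRoot (C h * X - 1 : S[X])
  have h1 : IsLocalization.Away (Ideal.Quotient.mk I h) (L ⧸ I.map (algebraMap S L)) := by
    have h2 : IsLocalization (Algebra.algebraMapSubmonoid (S ⧸ I) (Submonoid.powers h))
      (L ⧸ I.map (algebraMap S L)) := inferInstance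
    have h3 : Algebra.algebraMapSubmonoid (S ⧸ I) (Submonoid.powers h) =
        Submonoid.powers (Ideal.Quotient.mk I h) := Submonoid.map_powers _ _
    rwa [h3] at h2
  have e1 : (L ⧸ I.map (algebraMap S L)) ≃ₐ[S ⧸ I] Localization.Away (Ideal.Quotient.mk I h) :=
    IsLocalization.algEquiv (Submonoid.powers (Ideal.Quotient.mk I h)) _ _
  have h4 : IsScalarTower A (S ⧸ I) (L ⧸ I.map (algebraMap S L)) := by
    refine IsScalarTower.of_algebraMap_eq fun a => ?_
    rfl
  have e2 := DoubleQuot.quotQuotEquivQuotSupₐ A (Ideal.span {(C h * X - 1 : S[X])}) (I.map (C : S →+* S[X]))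
  have h5 : (I.map (C : S →+* S[X])).map (Ideal.Quotient.mkₐ A (Ideal.span {(C h * X - 1 : S[X])})) =
      I.map (algebraMap S L) := by
    change (I.map (C : S →+* S[X])).map (Ideal.Quotient.mk (Ideal.span {(C h * X - 1 : S[X])})) = _
    rw [Ideal.map_map]
    rfl
  have e3 := Ideal.quotientEquivAlgOfEq A h5
  exact ⟨e2.symm.trans (e3.trans (e1.restrictScalars A))⟩

theorem isRegular_cons (fs : List S) (hfs : IsWeaklyRegular (AdjoinRoot (C h * X - 1 : S[X])) fs)
    [Nontrivial (Localization.Away (Ideal.Quotient.mk (Ideal.ofList fs) h))] :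
    IsRegular S[X] ((C h * X - 1 : S[X]) :: fs.map C) := by
  refine ⟨isWeaklyRegular_cons h fs hfs, fun htop => ?_⟩
  rw [smul_eq_mul, Ideal.mul_top, Ideal.ofList_cons, ← Ideal.map_ofList] at htop
  obtain ⟨e⟩ := nonempty_quot_equiv (A := S) h (Ideal.ofList fs)
  have h1 : Nontrivial (S[X] ⧸ (Ideal.span {(C h * X - 1 : S[X])} ⊔ (Ideal.ofList fs).map (C : S →+* S[X]))) :=
    e.toEquiv.nontrivial
  exact Ideal.Quotient.nontrivial_iff.mp h1 htop.symm

end Poly

/-- A regular presentation of a basic open of `A[x_1..x_n]/(F)`. -/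
theorem exists_regular_presentation {A : Type u} [CommRing A] {n : ℕ} (h : MvPolynomial (Fin n) A)
    (fs : List (MvPolynomial (Fin n) A)) (hfs : IsWeaklyRegular (Localization.Away h) fs)
    [Nontrivial (Localization.Away (Ideal.Quotient.mk (Ideal.ofList fs) h))] :
    ∃ (d : ℕ) (P : Fin d → MvPolynomial (Fin (n + 1)) A),
      IsRegular (MvPolynomial (Fin (n + 1)) A) (List.ofFn P) ∧
      Nonempty (Localization.Away (Ideal.Quotient.mk (Ideal.ofList fs) h) ≃ₐ[A]
        (MvPolynomial (Fin (n + 1)) A ⧸ Ideal.ofList (List.ofFn P))) := by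
  let S := MvPolynomial (Fin n) A
  have hloc : IsLocalization.Away h (AdjoinRoot (Polynomial.C h * Polynomial.X - 1 : S[X])) :=
    IsLocalization.adjoin_inv h
  have e0 : Localization.Away h ≃ₐ[S] (AdjoinRoot (Polynomial.C h * Polynomial.X - 1 : S[X])) :=
    IsLocalization.algEquiv (Submonoid.powers h) _ _
  have hfs' : IsWeaklyRegular (AdjoinRoot (Polynomial.C h * Polynomial.X - 1 : S[X])) fs :=
    (e0.toLinearEquiv.isWeaklyRegular_congr fs).mp hfs
  have hreg := isRegular_cons h fs hfs'
  let l : List S[X] := (Polynomial.C h * Polynomial.X - 1 : S[X]) :: fs.map Polynomial.C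
  let E : S[X] ≃ₐ[A] MvPolynomial (Fin (n + 1)) A := (MvPolynomial.finSuccEquiv A n).symm
  let l' := l.map E
  have hreg' : IsRegular (MvPolynomial (Fin (n + 1)) A) l' := by
    refine ((E.toRingEquiv.toAddEquiv).isRegular_congr (as := l) (bs := l') ?_).mp hreg
    rw [List.forall₂_map_right_iff]
    exact List.forall₂_same.mpr fun r _ x => map_mul E r x
  have hl' : List.ofFn l'.get = l' := List.ofFn_get l'
  refine ⟨l'.length, l'.get, by rw [hl']; exact hreg', ?_⟩
  rw [hl']
  obtain ⟨e⟩ := nonempty_quot_equiv (A := A) h (Ideal.ofList fs)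
  have h1 : Ideal.ofList l = Ideal.span {(Polynomial.C h * Polynomial.X - 1 : S[X])} ⊔
      (Ideal.ofList fs).map (Polynomial.C : S →+* S[X]) := by
    rw [Ideal.ofList_cons, Ideal.map_ofList]
  have h2 : Ideal.ofList l' = (Ideal.ofList l).map (E : S[X] →+* MvPolynomial (Fin (n + 1)) A) := by
    rw [Ideal.map_ofList]
    rfl
  exact ⟨e.symm.trans ((Ideal.quotientEquivAlgOfEq A h1).symm.trans (Ideal.quotientEquivAlg _ _ E h2))⟩

end K563.RegPres
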