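import Groth.Agent.Synt.K563.GCI2
import Groth.Agent.Synt.K562.FieldCI
import Groth.Agent.Ega4dB.FlatNak
import Groth.Agent.Ega43.FibChev
import Groth.Agent.Ega43.FibSpec
import Groth.Agent.Ega4C.SkFlat
import Groth.Agent.S2842

/-!
# Lifting a complete intersection presentation of the fibre

`R → S` finitely presented, `S_q` flat over `R`, fibre local ring at `q` a complete intersection: near `q` the ideal of
`S` in a polynomial ring is generated by a sequence which is regular in the fibre.
-/

set_option autoImplicit false

namespace K563.RelNhd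

open IsLocalRing RingTheory.Sequence K563.Pres K563.DimLoc Groth.Agent

universe u

/-- Generators of the kernel `J` of `A → A ⧸ J` (flat over `R`) can be tested modulo an ideal `p` of `R` contained in the
maximal ideal. -/
theorem eq_ofList_of_le {R A : Type u} [CommRing R] [CommRing A] [Algebra R A] [IsLocalRing A] (p : Ideal R)
    (hp : p.map (algebraMap R A) ≤ maximalIdeal A) (J : Ideal A) (hJ : J.FG) [Module.Flat R (A ⧸ J)]
    (hs : List A) (hsJ : ∀ h ∈ hs, h ∈ J) (heq : J ≤ Ideal.ofList hs ⊔ p.map (algebraMap R A)) :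
    J = Ideal.ofList hs := by
  refine le_antisymm ?_ (Ideal.span_le.mpr hsJ)
  have hle : Ideal.ofList hs ≤ J := Ideal.span_le.mpr hsJ
  have h1 : J ≤ Ideal.ofList hs ⊔ maximalIdeal A • J := by
    intro j hj
    obtain ⟨a, ha, m, hm, rfl⟩ := Submodule.mem_sup.mp (heq hj)
    have hmJ : m ∈ J := by
      have := J.sub_mem hj (hle ha)
      simpa using this
    have h2 := Ega4dB.FlatNak.inf_map_le_of_flat J p ⟨hmJ, hm⟩
    exact Submodule.add_mem_sup ha (Ideal.mul_mono_left hp h2)
  exact Submodule.le_of_le_smul_of_le_jacobson_bot hJ (maximalIdeal_le_jacobson _) h1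

theorem map_le_maximalIdeal {R S : Type u} [CommRing R] [CommRing S] [Algebra R S] (q : Ideal S) [q.IsPrime] :
    (q.comap (algebraMap R S)).map (algebraMap R (Localization.AtPrime q)) ≤
      maximalIdeal (Localization.AtPrime q) := by
  rw [Ideal.map_le_iff_le_comap]
  intro a ha
  rw [Ideal.mem_comap, IsScalarTower.algebraMap_apply R S (Localization.AtPrime q),
    IsLocalization.AtPrime.to_map_mem_maximal_iff (Localization.AtPrime q) q]
  exact ha

section Core

variable {R S P : Type u} [CommRing R] [CommRing S] [CommRing P] [Algebra R S] [Algebra R P]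
  (φ : P →ₐ[R] S) (hφ : Function.Surjective φ) (q : Ideal S) [q.IsPrime] (P' : Ideal P) [P'.IsPrime]
  (hP' : P' = q.comap φ)

omit [q.IsPrime] [P'.IsPrime] in
include hP' in
theorem comap_eq : P'.comap (algebraMap R P) = q.comap (algebraMap R S) := by
  subst hP'
  ext x
  simp

/-- The map of fibre local rings. -/
noncomputable def fibMap : EGA4.FibLocRing R P P' →+* EGA4.FibLocRing R S q :=
  Ideal.quotientMap _ (Localization.localAlgHom P' q φ hP').toRingHom (by
    rw [← Ideal.map_le_iff_le_comap, Ideal.map_map, comap_eq φ q P' hP']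
    have h : (Localization.localAlgHom P' q φ hP').toRingHom.comp (algebraMap R (Localization.AtPrime P')) =
        algebraMap R (Localization.AtPrime q) := (Localization.localAlgHom P' q φ hP').comp_algebraMap
    rw [h])

include hφ in
theorem localAlgHom_surjective : Function.Surjective (Localization.localAlgHom P' q φ hP') :=
  K562.FieldCI.localRingHom_surjective P' q φ.toRingHom hP' hφ

include hφ in
theorem fibMap_surjective : Function.Surjective (fibMap φ q P' hP') :=
  Ideal.quotientMap_surjective (localAlgHom_surjective φ hφ q P' hP')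

include hφ in
theorem ker_localAlgHom : RingHom.ker (Localization.localAlgHom P' q φ hP').toRingHom =
    (RingHom.ker φ.toRingHom).map (algebraMap P (Localization.AtPrime P')) :=
  K562.FieldCI.ker_localRingHom P' q φ.toRingHom hP' hφ

include hφ in
theorem ker_fibMap : RingHom.ker (fibMap φ q P' hP') =
    ((RingHom.ker φ.toRingHom).map (algebraMap P (Localization.AtPrime P'))).map (Ideal.Quotient.mk _) := by
  rw [← ker_localAlgHom φ hφ q P' hP']
  apply le_antisymm
  · intro x hx
    obtain ⟨x, rfl⟩ := Ideal.Quotient.mk_surjective x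
    have h1 : Ideal.Quotient.mk ((q.comap (algebraMap R S)).map (algebraMap R (Localization.AtPrime q)))
        ((Localization.localAlgHom P' q φ hP').toRingHom x) = 0 := hx
    rw [Ideal.Quotient.eq_zero_iff_mem] at h1
    have h2 : (q.comap (algebraMap R S)).map (algebraMap R (Localization.AtPrime q)) =
        ((P'.comap (algebraMap R P)).map (algebraMap R (Localization.AtPrime P'))).map
          (Localization.localAlgHom P' q φ hP').toRingHom := by
      rw [Ideal.map_map, comap_eq φ q P' hP']
      have h : (Localization.localAlgHom P' q φ hP').toRingHom.comp (algebraMap R (Localization.AtPrime P')) =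
          algebraMap R (Localization.AtPrime q) := (Localization.localAlgHom P' q φ hP').comp_algebraMap
      rw [h]
    rw [h2, Ideal.mem_map_iff_of_surjective (Localization.localAlgHom P' q φ hP').toRingHom
      (localAlgHom_surjective φ hφ q P' hP')] at h1
    obtain ⟨y, hy, hyx⟩ := h1
    have h3 : Ideal.Quotient.mk ((P'.comap (algebraMap R P)).map (algebraMap R (Localization.AtPrime P'))) x =
        Ideal.Quotient.mk _ (x - y) := by
      rw [Ideal.Quotient.eq]
      simpa using hy
    rw [h3]
    refine Ideal.mem_map_of_mem _ ?_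
    rw [RingHom.mem_ker, map_sub, hyx, sub_self]
  · rw [Ideal.map_le_iff_le_comap]
    intro x hx
    rw [Ideal.mem_comap, RingHom.mem_ker]
    change Ideal.Quotient.mk _ ((Localization.localAlgHom P' q φ hP').toRingHom x) = 0
    rw [RingHom.mem_ker.mp hx, map_zero]

include hP' in
/-- Lifting regular generators of the kernel on the fibre local rings. -/
theorem exists_lift (hφ : Function.Surjective φ) (hfg : (RingHom.ker φ.toRingHom).FG)
    [Module.Flat R (Localization.AtPrime q)] (hreg : IsRegularLocalRing (EGA4.FibLocRing R P P'))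
    [hloc : IsLocalRing (EGA4.FibLocRing R S q)]
    (hCI : Pi1.IsCompleteIntersection (EGA4.FibLocRing R S q)) :
    ∃ (c : ℕ) (F : Fin c → P), (∀ i, φ (F i) = 0) ∧
      (RingHom.ker φ.toRingHom).map (algebraMap P (Localization.AtPrime P')) =
        (Ideal.span (Set.range F)).map (algebraMap P (Localization.AtPrime P')) ∧
      ringKrullDim (EGA4.FibLocRing R S q) + c = ringKrullDim (EGA4.FibLocRing R P P') ∧
      IsRegular (EGA4.FibLocRing R P P') (List.ofFn fun i =>
        (Ideal.Quotient.mk _ (algebraMap P (Localization.AtPrime P') (F i)) : EGA4.FibLocRing R P P')) := by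
  rw [S2842.isCompleteIntersection_iff_of_surjective (fibMap φ q P' hP')
    (fibMap_surjective φ hφ q P' hP')] at hCI
  obtain ⟨rs, hrs, hspan⟩ := hCI
  have hker := ker_fibMap φ hφ q P' hP'
  set A := Localization.AtPrime P' with hA
  set J : Ideal A := (RingHom.ker φ.toRingHom).map (algebraMap P A) with hJ
  set pA : Ideal A := (P'.comap (algebraMap R P)).map (algebraMap R A) with hpA
  have hmem : ∀ i : Fin rs.length, ∃ j ∈ J, Ideal.Quotient.mk pA j = rs.get i := by
    intro i
    have h1 : rs.get i ∈ J.map (Ideal.Quotient.mk pA) := by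
      rw [← hker, ← hspan]
      exact Ideal.subset_span (List.get_mem rs i)
    exact (Ideal.mem_map_iff_of_surjective _ Ideal.Quotient.mk_surjective).mp h1
  choose j hj hj' using hmem
  have hex : ∀ i : Fin rs.length, ∃ a : P, φ a = 0 ∧
      ∃ s ∉ P', j i * algebraMap _ A s = algebraMap _ _ a := by
    intro i
    obtain ⟨⟨a, s⟩, has⟩ := (IsLocalization.mem_map_algebraMap_iff P'.primeCompl _).mp (hj i)
    exact ⟨a, a.2, s, s.2, has⟩
  choose F hF s hs hFs using hex
  have hunit : ∀ i, IsUnit (algebraMap P A (s i)) := fun i =>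
    IsLocalization.map_units A (⟨s i, hs i⟩ : P'.primeCompl)
  have hspanF : Ideal.ofList (List.ofFn fun i => (Ideal.Quotient.mk pA (algebraMap P A (F i)))) =
      Ideal.ofList rs := by
    apply le_antisymm
    · rw [Ideal.ofList, Ideal.span_le]
      intro x hx
      obtain ⟨i, rfl⟩ := (List.mem_ofFn' _ _).mp hx
      change Ideal.Quotient.mk pA (algebraMap P A (F i)) ∈ Ideal.ofList rs
      rw [← hFs i, map_mul, hj' i]
      exact Ideal.mul_mem_right _ _ (Ideal.subset_span (List.get_mem rs i))
    · rw [Ideal.ofList, Ideal.span_le]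
      intro x hx
      obtain ⟨i, rfl⟩ := List.get_of_mem hx
      have hu : IsUnit (Ideal.Quotient.mk pA (algebraMap P A (s i))) := (hunit i).map _
      refine (Ideal.mul_unit_mem_iff_mem _ hu).mp ?_
      rw [← hj' i, ← map_mul, hFs i]
      exact Ideal.subset_span ((List.mem_ofFn' _ _).mpr ⟨i, rfl⟩)
  have hne : Ideal.ofList rs ≠ ⊤ := by
    intro h
    exact hrs.top_ne_smul (by rw [h, smul_eq_mul, Ideal.mul_top])
  have hmax : ∀ r ∈ (List.ofFn fun i => (Ideal.Quotient.mk pA (algebraMap P A (F i)))),
      r ∈ maximalIdeal (EGA4.FibLocRing R P P') := by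
    intro r hr
    have h1 : r ∈ Ideal.ofList rs := by
      rw [← hspanF]
      exact Ideal.subset_span hr
    exact IsLocalRing.le_maximalIdeal hne h1
  have hdim := ringKrullDim_add_length_eq_ringKrullDim_of_isRegular rs hrs
  have hdim2 : ringKrullDim (EGA4.FibLocRing R P P' ⧸ Ideal.ofList rs) =
      ringKrullDim (EGA4.FibLocRing R S q) := by
    exact (ringKrullDim_eq_of_ringEquiv (Ideal.quotEquivOfEq hspan)).trans
      (ringKrullDim_eq_of_ringEquiv (RingHom.quotientKerEquivOfSurjective
        (f := fibMap φ q P' hP') (fibMap_surjective φ hφ q P' hP')))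
  have hregF : IsRegular (EGA4.FibLocRing R P P')
      (List.ofFn fun i => (Ideal.Quotient.mk pA (algebraMap P A (F i)))) := by
    refine Models.CMSeq.isRegular_of_ringKrullDim_le _ hmax ?_
    rw [List.length_ofFn, hspanF]
    exact hdim.le
  refine ⟨rs.length, F, hF, ?_, ?_, hregF⟩
  · -- Nakayama
    have hfl : Module.Flat R (A ⧸ J) := by
      have e := Ideal.quotientKerAlgEquivOfSurjective (f := Localization.localAlgHom P' q φ hP')
        (localAlgHom_surjective φ hφ q P' hP')
      have e2 : (A ⧸ J) ≃ₐ[R] A ⧸ RingHom.ker (Localization.localAlgHom P' q φ hP') :=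
        Ideal.quotientEquivAlgOfEq R (ker_localAlgHom φ hφ q P' hP').symm
      exact Module.Flat.of_linearEquiv (e2.trans e).toLinearEquiv
    have hofF : Ideal.ofList (List.ofFn fun i => algebraMap P A (F i)) =
        (Ideal.span (Set.range F)).map (algebraMap P A) := K563.GCI.ofList_ofFn_eq_map _ F
    rw [← hofF]
    refine eq_ofList_of_le (P'.comap (algebraMap R P)) (map_le_maximalIdeal P') J
      (hfg.map _) _ ?_ ?_
    · intro x hx
      obtain ⟨i, rfl⟩ := (List.mem_ofFn' _ _).mp hx
      exact Ideal.mem_map_of_mem _ (hF i)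
    · have h1 : J.map (Ideal.Quotient.mk pA) ≤
          (Ideal.ofList (List.ofFn fun i => algebraMap P A (F i))).map (Ideal.Quotient.mk pA) := by
        rw [← hker, ← hspan, ← hspanF, Ideal.map_ofList, List.map_ofFn]
        exact le_rfl
      have h2 := Ideal.map_le_iff_le_comap.mp h1
      rw [Ideal.comap_map_of_surjective' _ Ideal.Quotient.mk_surjective, Ideal.mk_ker] at h2
      exact h2
  · rw [← hdim2]
    exact hdim

end Core

end K563.RelNhd
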