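import Groth.Agent.Synt.K563.NodeMain
import Groth.Agent.Synt.K563.FieldSch
import Groth.Agent.Synt.K563.FibDim
import Groth.Agent.SDiv.K474.FittOmega2
import Groth.Agent.CurvesB.NodeCriterion
import Groth.Agent.CalgB.CMPoly
import Groth.Agent.S9142
import Groth.Agent.S1617
import Groth.Agent.S1146

/-!
# Complete intersection curves over a field with unramified singular locus are at worst nodal
-/

set_option autoImplicit false

universe u

open CategoryTheory CategoryTheory.Limits AlgebraicGeometry TopologicalSpace IsLocalRing MvPolynomial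

namespace K563.SingCore

open K563.Pres K563.FieldSch Groth.Agent.CurvesB.Node Groth.Agent.SDiv.K474 Groth.Agent.CurvesB.OmegaDer

section Algebra

/-- A Cohen-Macaulay local ring of positive dimension has a regular element in its maximal ideal. -/
theorem exists_nonZeroDivisor (L : Type u) [CommRing L] [LocCoh.IsCohenMacaulayLocalRing L]
    (h : ringKrullDim L = 1) : ∃ t ∈ maximalIdeal L, t ∈ nonZeroDivisors L := by
  obtain ⟨rs, hI, hw, hlen⟩ := Groth.Agent.CalgB.CMPoly.exists_seq_of_isCohenMacaulayLocalRing L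
  rw [h] at hlen
  have hlen' : rs.length = 1 := by exact_mod_cast hlen
  obtain ⟨t, rfl⟩ := List.length_eq_one_iff.mp hlen'
  refine ⟨t, hI t (by simp), ?_⟩
  have h1 : IsSMulRegular L t := ((RingTheory.Sequence.isWeaklyRegular_cons_iff L t []).mp hw).1
  rw [mem_nonZeroDivisors_iff]
  refine ⟨fun x hx => ?_, fun x hx => ?_⟩
  · exact h1 (by simpa using hx)
  · exact h1 (by simpa [mul_comm] using hx)

/-- Differentials do not change when the base ring is replaced by a quotient. -/
theorem nonempty_equiv_of_surjective (k R A : Type u) [CommRing k] [CommRing R] [CommRing A] [Algebra k R]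
    [Algebra k A] [Algebra R A] [IsScalarTower k R A] (h : Function.Surjective (algebraMap k R)) :
    Nonempty (Ω[A⁄k] ≃ₗ[A] Ω[A⁄R]) := by
  have h1 : Algebra.FormallyUnramified k R := Algebra.FormallyUnramified.of_surjective (Algebra.ofId k R) h
  have h2 : Subsingleton (Ω[R⁄k]) := inferInstance
  have h3 : Subsingleton (TensorProduct R A (Ω[R⁄k])) := inferInstance
  refine ⟨LinearEquiv.ofBijective (KaehlerDifferential.map k R A A) ⟨?_, KaehlerDifferential.map_surjective k R A⟩⟩
  rw [← LinearMap.ker_eq_bot, eq_bot_iff]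
  intro x hx
  obtain ⟨y, rfl⟩ := (KaehlerDifferential.exact_mapBaseChange_map k R A x).mp hx
  rw [Subsingleton.elim y 0, map_zero]
  exact zero_mem _

variable (k : Type u) [Field k] {B : Type u} [CommRing B] [Algebra k B]

theorem nodeLike {n c : ℕ} (hn : n = c + 1) (h : HasPres k B n c)
    (hd : ringKrullDim B = ((n - c : ℕ) : WithBot ℕ∞)) (q : Ideal B) [q.IsPrime]
    (hq : Fitt.ideal B Ω[B⁄k] 1 ≤ q)
    [hunr : Algebra.FormallyUnramified k (B ⧸ Fitt.ideal B Ω[B⁄k] 1)]
    (L : Type u) [CommRing L] [IsLocalRing L] [Algebra B L] [Algebra k L] [IsScalarTower k B L]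
    [IsLocalization.AtPrime L q] (hL : ringKrullDim L = 1) :
    NodeLike L ∧ Algebra.FormallyUnramified k (ResidueField L) := by
  have hG : Synt.IsGlobalCI k B := (isGlobalCI_iff k B).mpr (Or.inr ⟨n, c, by omega, h, hd⟩)
  have hLCI : Synt.IsLCIOver k B := by
    rw [K563.GCI2.isLCIOver_iff]
    exact ⟨h.finiteType, fun q _ => K563.GCI.isCI_atPrime_of_isGlobalCI hG q⟩
  have hCM := Groth.Agent.S9142.result k B hLCI
  have h1 : LocCoh.IsCohenMacaulayLocalRing (Localization.AtPrime q) :=
    hCM.isCohenMacaulayLocalRing_localization q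
  have e : Localization.AtPrime q ≃ₐ[B] L := IsLocalization.algEquiv q.primeCompl _ _
  have h2 : LocCoh.IsCohenMacaulayLocalRing L :=
    Groth.Agent.CalgB.CMPoly.isCohenMacaulayLocalRing_of_ringEquiv e.toRingEquiv
  obtain ⟨φ, r, hφ, hker⟩ := h
  exact K563.NodeMain.main φ hφ r hker hn q hq L (exists_nonZeroDivisor L hL)

end Algebra

section Scheme

/-- If a closed subscheme is formally unramified over the base, so is its ring of functions on affine opens. -/
theorem quot_formallyUnramified {X S : Scheme.{u}} (f : X ⟶ S) (J : X.IdealSheafData)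
    (h : FormallyUnramified (J.subschemeι ≫ f)) (U : X.affineOpens) (V : S.affineOpens)
    (e : U.1 ≤ f ⁻¹ᵁ V.1) :
    ((Ideal.Quotient.mk (J.ideal U)).comp (f.appLE V.1 U.1 e).hom).FormallyUnramified := by
  have hW : IsAffineOpen (J.subschemeι ⁻¹ᵁ U.1) := U.2.preimage _
  have h0 : ((J.subschemeι ≫ f).appLE V.1 (J.subschemeι ⁻¹ᵁ U.1)
      (fun w hw => e hw)).hom.FormallyUnramified :=
    HasRingHomProperty.appLE (P := @FormallyUnramified) _ h V ⟨_, hW⟩ _
  have h1 : (J.subschemeι ≫ f).appLE V.1 (J.subschemeι ⁻¹ᵁ U.1) (fun w hw => e hw) =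
      f.appLE V.1 U.1 e ≫ J.subschemeι.app U.1 := by
    rw [← Scheme.Hom.appLE_comp_appLE _ _ V.1 U.1 (J.subschemeι ⁻¹ᵁ U.1) e le_rfl,
      Scheme.Hom.app_eq_appLE]
  rw [h1, CommRingCat.hom_comp] at h0
  have hsurj := J.subschemeι_app_surjective U
  have hker := J.ker_subschemeι_app U
  let ψ : Γ(X, U.1) ⧸ J.ideal U →+* Γ(J.subscheme, J.subschemeι ⁻¹ᵁ U.1) :=
    Ideal.Quotient.lift _ (J.subschemeι.app U.1).hom (fun a ha => by
      rw [← hker] at ha; exact ha)
  have hψ : (J.subschemeι.app U.1).hom = ψ.comp (Ideal.Quotient.mk (J.ideal U)) := rfl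
  have hψs : Function.Bijective ψ := by
    constructor
    · rw [injective_iff_map_eq_zero]
      intro a
      obtain ⟨a, rfl⟩ := Ideal.Quotient.mk_surjective a
      intro ha
      rw [Ideal.Quotient.eq_zero_iff_mem, ← hker]
      exact ha
    · intro b
      obtain ⟨a, rfl⟩ := hsurj b
      exact ⟨Ideal.Quotient.mk _ a, rfl⟩
  let ε := RingEquiv.ofBijective ψ hψs
  rw [hψ] at h0
  have h2 : (Ideal.Quotient.mk (J.ideal U)).comp (f.appLE V.1 U.1 e).hom =
      (ε.symm : _ →+* _).comp ((ψ.comp (Ideal.Quotient.mk (J.ideal U))).comp (f.appLE V.1 U.1 e).hom) := by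
    refine RingHom.ext fun x => ?_
    exact (ε.symm_apply_apply _).symm
  rw [h2]
  exact RingHom.FormallyUnramified.comp h0 (RingHom.FormallyUnramified.of_surjective ε.symm.surjective)

/-- Local dimension on an affine open. -/
theorem localDim_primeIdealOf {X : Scheme.{u}} {U : X.Opens} (hU : IsAffineOpen U) (y : X) (hy : y ∈ U) :
    FlatMor.localDim (PrimeSpectrum Γ(X, U)) (hU.primeIdealOf ⟨y, hy⟩) = FlatMor.localDim X y := by
  have h := Groth.Agent.S1146.result hU.fromSpec (hU.primeIdealOf ⟨y, hy⟩)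
  have h2 : hU.fromSpec (hU.primeIdealOf ⟨y, hy⟩) = y := hU.fromSpec_primeIdealOf ⟨y, hy⟩
  rw [h2] at h
  exact h

variable (k : Type u) [Field k] {X : Scheme.{u}} (p : X ⟶ Spec (CommRingCat.of k))

open Groth.Agent in
theorem ideal_eq [LocallyOfFiniteType p] [QuasiSeparated p] {U : X.Opens} (hU : IsAffineOpen U) :
    letI := (str k p U).hom.toAlgebra
    (Fitt.sheafIdeal (Omega.sheaf p) 1).ideal ⟨U, hU⟩ = Fitt.ideal Γ(X, U) Ω[Γ(X, U)⁄k] 1 := by
  let _ := (str k p U).hom.toAlgebra
  have hfin : Algebra.FiniteType k Γ(X, U) := finiteType_str k p hU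
  have h1 := FittOmega.isFT_omega p
  have hq : Coh.IsQCoh (Omega.sheaf p) := Vancyc.H878.OmegaRank.isQCoh_omega p
  rw [FittSheaf.sheafIdeal_ideal _ hq h1]
  let _ : Algebra Γ(Spec (CommRingCat.of k), ⊤) Γ(X, U) := algX p (U := ⊤) (W := U) le_top
  let _ : Algebra k Γ(Spec (CommRingCat.of k), ⊤) := (Scheme.ΓSpecIso (CommRingCat.of k)).inv.hom.toAlgebra
  have ht : IsScalarTower k Γ(Spec (CommRingCat.of k), ⊤) Γ(X, U) := .of_algebraMap_eq' rfl
  obtain ⟨E⟩ := FittOmega.nonempty_equiv p (U := ⊤) (W := U) le_top (isAffineOpen_top _) hU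
  obtain ⟨E'⟩ := nonempty_equiv_of_surjective k Γ(Spec (CommRingCat.of k), ⊤) Γ(X, U)
    (Scheme.ΓSpecIso (CommRingCat.of k)).symm.commRingCatIsoToRingEquiv.surjective
  exact (K360.FittBasic.ideal_congr (E'.trans E) 1).symm

theorem ideal_le_of_mem_support (J : X.IdealSheafData) {U : X.Opens} (hU : IsAffineOpen U) (y : X)
    (hy : y ∈ U) (hs : y ∈ J.support) : J.ideal ⟨U, hU⟩ ≤ (hU.primeIdealOf ⟨y, hy⟩).asIdeal := by
  rw [Scheme.IdealSheafData.mem_support_iff_of_mem (U := ⟨U, hU⟩) hy, Scheme.mem_zeroLocus_iff] at hs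
  intro g hg
  by_contra hcon
  exact hs g hg ((mem_basicOpen_iff hU y hy g).mpr hcon)

variable [LocallyOfFiniteType p] [QuasiSeparated p]

/-- The points of the singular subscheme of a one-dimensional local complete intersection over a field are nodes if
this subscheme is unramified over the field. -/
theorem isNode_of_mem_support (hci : ∀ x : X, Pi1.IsCompleteIntersection (X.presheaf.stalk x))
    (hunr : FormallyUnramified ((Fitt.sheafIdeal (Omega.sheaf p) 1).subschemeι ≫ p)) (y : X)
    (hdim : FlatMor.localDim X y = 1)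
    (hy : IsClosed ({y} : Set X)) (hs : y ∈ (Fitt.sheafIdeal (Omega.sheaf p) 1).support) :
    @Curv2.IsNode k _ X ⟨p⟩ y := by
  let _ : X.Over (Spec (CommRingCat.of k)) := ⟨p⟩
  have hp' : X ↘ Spec (CommRingCat.of k) = p := rfl
  have hft : LocallyOfFiniteType (X ↘ Spec (CommRingCat.of k)) := ‹LocallyOfFiniteType p›
  obtain ⟨⟨U, hU⟩, hyU, hG⟩ := exists_globalCI k p hci y
  have hideal := ideal_eq k p hU
  have hquot := quot_formallyUnramified p _ hunr ⟨U, hU⟩ ⟨⊤, isAffineOpen_top _⟩ le_top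
  have hle := ideal_le_of_mem_support _ hU y hyU hs
  let _ : Algebra k Γ(X, U) := (str k p U).hom.toAlgebra
  rw [isGlobalCI_iff] at hG
  let Q := hU.primeIdealOf ⟨y, hyU⟩
  have hQ : Q.asIdeal.IsPrime := Q.2
  obtain ⟨n, c, hcn, hP, hd⟩ : ∃ n c : ℕ, c ≤ n ∧ HasPres k Γ(X, U) n c ∧
      ringKrullDim Γ(X, U) = ((n - c : ℕ) : WithBot ℕ∞) := by
    rcases hG with hG | hG
    · exact absurd (@Subsingleton.elim _ (by
        have : Subsingleton Γ(X, U) := hG
        infer_instance) Q.asIdeal ⊤) hQ.ne_top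
    · exact hG
  have hn : n = c + 1 := by
    have h1 := K563.FibDim.localDim_eq_of_hasPres k hP hd.le Q
    rw [localDim_primeIdealOf hU y hyU, hdim] at h1
    have h2 : 1 = n - c := by exact_mod_cast h1
    omega
  rw [hideal] at hle
  have hunr' : Algebra.FormallyUnramified k (Γ(X, U) ⧸ Fitt.ideal Γ(X, U) Ω[Γ(X, U)⁄k] 1) := by
    rw [hideal] at hquot
    exact RingHom.FormallyUnramified.comp (f := (Scheme.ΓSpecIso (CommRingCat.of k)).inv.hom)
      (RingHom.FormallyUnramified.of_surjective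
        (Scheme.ΓSpecIso (CommRingCat.of k)).symm.commRingCatIsoToRingEquiv.surjective) hquot
  let _ : Algebra Γ(X, U) (X.presheaf.stalk y) := X.presheaf.algebra_section_stalk ⟨y, hyU⟩
  have hloc := hU.isLocalization_stalk ⟨y, hyU⟩
  let _ : Algebra k (X.presheaf.stalk y) := Curv2.stalkAlgebra k X y
  have htow : IsScalarTower k Γ(X, U) (X.presheaf.stalk y) := by
    refine .of_algebraMap_eq' ?_
    have h1 := str_germ k p y hyU
    have h2 : strStalk k p y = CommRingCat.ofHom (Curv2.stalkMap k X y) := by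
      have h3 : p.appLE ⊤ ⊤ le_top = p.appTop := p.appLE_eq_app (U := ⊤)
      rw [strStalk, Curv2.stalkMap, Coh.toGlobal, h3]
      rfl
    rw [h2] at h1
    exact congrArg CommRingCat.Hom.hom h1.symm
  have hL : ringKrullDim (X.presheaf.stalk y) = 1 := by
    rw [← Groth.Agent.S1617.result k X y hy, hdim]
  obtain ⟨h3, h4⟩ := nodeLike k hn hP hd Q.asIdeal hle (X.presheaf.stalk y) hL
  rw [isNode_iff_resFS]
  exact ⟨(resFS_iff p y).mpr h4, h3⟩

/-- **Complete intersection curves with unramified singular locus.** -/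
theorem smooth_or_isNode (hci : ∀ x : X, Pi1.IsCompleteIntersection (X.presheaf.stalk x))
    (hunr : FormallyUnramified ((Fitt.sheafIdeal (Omega.sheaf p) 1).subschemeι ≫ p))
    (hdim : ∀ y : X, FlatMor.localDim X y = 1) (y : X) (hy : IsClosed ({y} : Set X)) :
    (∃ W : X.Opens, y ∈ W ∧ Smooth (W.ι ≫ p)) ∨ @Curv2.IsNode k _ X ⟨p⟩ y := by
  by_cases hs : y ∈ (Fitt.sheafIdeal (Omega.sheaf p) 1).support
  · exact Or.inr (isNode_of_mem_support k p hci hunr y (hdim y) hy hs)
  · left
    have : LocallyOfFinitePresentation p := LocallyOfFinitePresentation.iff_locallyOfFiniteType.mpr inferInstance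
    rw [← FittOmega2.mem_smoothLocus_iff_exists]
    exact (FittOmega2.mem_smoothLocus_iff_of_isField (K := CommRingCat.of k) (Field.toIsField k) p 1 y
      (hdim y)).mpr hs

end Scheme

end K563.SingCore
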