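import Groth.Agent.Synt.K563.SchNhd
import Groth.Agent.Synt.K561.SynLci

/-!
# Base change of syntomic ring maps and of complete intersection fibre rings
-/

set_option autoImplicit false

universe u

open AlgebraicGeometry CategoryTheory K563.SchDict K563.SchDict2 K563.SchNhd TensorProduct Groth.Agent

namespace K563.SynBC

variable {R S R' S' : Type u} [CommRing R] [CommRing S] [CommRing R'] [CommRing S'] [Algebra R S] [Algebra R R']
  [Algebra S S'] [Algebra R' S'] [Algebra R S'] [IsScalarTower R S S'] [IsScalarTower R R' S']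

theorem isPullback_of_isPushout [h : Algebra.IsPushout R R' S S'] :
    IsPullback (Spec.map (CommRingCat.ofHom (algebraMap S S'))) (Spec.map (CommRingCat.ofHom (algebraMap R' S')))
      (Spec.map (CommRingCat.ofHom (algebraMap R S))) (Spec.map (CommRingCat.ofHom (algebraMap R R'))) := by
  have h' : Algebra.IsPushout R S R' S' := h.symm
  exact isPullback_SpecMap_of_isPushout _ _ _ _ (CommRingCat.isPushout_of_isPushout R S R' S')

theorem isSyntomic_of_isPushout [Algebra.IsPushout R R' S S'] (h : Synt.IsSyntomic R S) :
    Synt.IsSyntomic R' S' := by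
  rw [← isSyntomicMor_spec_iff] at h ⊢
  exact isSyntomicMor_of_isPullback isPullback_of_isPushout h

attribute [local instance] K563.SynNhd.isLocalRing_fib

theorem isCI_fibLocRing_iff_fiberStalk (q : PrimeSpectrum S) :
    Pi1.IsCompleteIntersection (EGA4.FibLocRing R S q.asIdeal) ↔
      Pi1.IsCompleteIntersection (CInt.fiberStalk (Spec.map (CommRingCat.ofHom (algebraMap R S))) q) := by
  obtain ⟨e⟩ := K561.SynLci.nonempty_fibLocRing_spec (A := R) (B := S) q
  exact Ega4dB.CITransport.isCompleteIntersection_iff_of_ringEquiv e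

theorem isCI_fibLocRing_iff_of_isPushout [Algebra.IsPushout R R' S S'] [Algebra.FiniteType R S]
    (q : PrimeSpectrum S') :
    Pi1.IsCompleteIntersection (EGA4.FibLocRing R S (q.asIdeal.comap (algebraMap S S'))) ↔
      Pi1.IsCompleteIntersection (EGA4.FibLocRing R' S' q.asIdeal) := by
  have hft : LocallyOfFiniteType (Spec.map (CommRingCat.ofHom (algebraMap R S))) := by
    rw [HasRingHomProperty.Spec_iff (P := @LocallyOfFiniteType)]
    exact RingHom.finiteType_algebraMap.mpr inferInstance
  rw [isCI_fibLocRing_iff_fiberStalk]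
  have h := Ega4dB.CIFibre.isCI_fiberStalk_iff_of_isPullback
    (isPullback_of_isPushout (R := R) (S := S) (R' := R') (S' := S')) q
  rw [← h]
  exact isCI_fibLocRing_iff_fiberStalk (R := R) (S := S) (PrimeSpectrum.comap (algebraMap S S') q)

end K563.SynBC
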