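import Groth.Agent.Synt.K563.SynBC
import Groth.Agent.FlatB.FlatDescGlobal
import Groth.Agent.S2863

/-!
# Descent of syntomic to finite type subalgebras

If `A` is Noetherian, `B` of finite type over `A`, `R` an `A`-algebra and `R ⊗[A] B` syntomic over `R`, then
`A₂ ⊗[A] B` is syntomic over `A₂` for some finite type `A`-algebra `A₂` mapping to `R`.
-/

set_option autoImplicit false

universe u

open TensorProduct PrimeSpectrum AlgebraicGeometry CategoryTheory Groth.Agent K563.SynBC K563.SynNhd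

namespace K563.SynModel

attribute [local instance] Algebra.TensorProduct.rightAlgebra K563.SynNhd.isLocalRing_fib

variable {A C R : Type u} [CommRing A] [CommRing C] [Algebra A C] [CommRing R] [Algebra A R]

theorem isOpen_ci [Module.Flat A C] [Algebra.FinitePresentation A C] :
    IsOpen {x : PrimeSpectrum C | Pi1.IsCompleteIntersection (EGA4.FibLocRing A C x.asIdeal)} := by
  let f := Spec.map (CommRingCat.ofHom (algebraMap A C))
  have h1 : Flat f := by
    rw [HasRingHomProperty.Spec_iff (P := @Flat)]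
    exact RingHom.flat_algebraMap_iff.mpr inferInstance
  have h2 : LocallyOfFinitePresentation f := by
    rw [HasRingHomProperty.Spec_iff (P := @LocallyOfFinitePresentation)]
    exact RingHom.finitePresentation_algebraMap.mpr inferInstance
  have h3 := S2863.isOpen_ciLocus f
  have h4 : {x : PrimeSpectrum C | Pi1.IsCompleteIntersection (EGA4.FibLocRing A C x.asIdeal)} =
      {x : ↥(Spec (CommRingCat.of C)) | Pi1.IsCompleteIntersection (CInt.fiberStalk f x)} :=
    Set.ext fun x => isCI_fibLocRing_iff_fiberStalk (R := A) (S := C) x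
  exact (congrArg (IsOpen (X := ↥(Spec (CommRingCat.of C)))) h4).mpr h3

theorem exists_subalgebra_of_flat [IsNoetherianRing A] [Algebra.FiniteType A C] [Module.Flat A C]
    (h : Synt.IsSyntomic R (R ⊗[A] C)) :
    ∃ A₂ : Subalgebra A R, A₂.FG ∧ Synt.IsSyntomic A₂ (A₂ ⊗[A] C) := by
  have hfp : Algebra.FinitePresentation A C := Algebra.FinitePresentation.of_finiteType.mp inferInstance
  have hNC : IsNoetherianRing C := Algebra.FiniteType.isNoetherianRing A C
  let U : Set (PrimeSpectrum C) := {x | Pi1.IsCompleteIntersection (EGA4.FibLocRing A C x.asIdeal)}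
  have hU : IsOpen U := isOpen_ci
  have hZ : Topology.IsConstructible Uᶜ := by
    have : Topology.IsConstructible U :=
      IsRetrocompact.isConstructible hU (fun V _ _ => TopologicalSpace.NoetherianSpace.isCompact _)
    exact this.compl
  have hC : Topology.IsConstructible (comap (algebraMap A C) '' Uᶜ) :=
    isConstructible_comap_image (RingHom.finitePresentation_algebraMap.mpr hfp) hZ
  have hempty : comap (algebraMap A R) ⁻¹' (comap (algebraMap A C) '' Uᶜ) = ∅ := by
    rw [Set.eq_empty_iff_forall_notMem]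
    rintro q ⟨z, hz, hzq⟩
    obtain ⟨r, hr1, hr2⟩ := Desc.EtaleSource.exists_comap_tensorProduct (R := A) (S := R)
      (T := C) q z hzq.symm
    apply hz
    have h1 := (isSyntomic_iff_fibLocRing.mp h).2.2 r.asIdeal
    rw [← isCI_fibLocRing_iff_of_isPushout (R := A) (S := C) (R' := R) (S' := R ⊗[A] C)] at h1
    have h2 : r.asIdeal.comap (algebraMap C (R ⊗[A] C)) = z.asIdeal :=
      congrArg PrimeSpectrum.asIdeal hr2
    exact (isCI_fibLocRing_congr h2).mp h1
  obtain ⟨s, hs⟩ := Flat2G.ApproxFactor.constructible hC hempty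
  let A₂ : Subalgebra A R := Algebra.adjoin A (s : Set R)
  have hA₂ := hs A₂ Algebra.subset_adjoin
  refine ⟨A₂, ⟨s, rfl⟩, isSyntomic_iff_fibLocRing.mpr ⟨inferInstance, inferInstance, fun x hx => ?_⟩⟩
  rw [← isCI_fibLocRing_iff_of_isPushout (R := A) (S := C) (R' := A₂) (S' := A₂ ⊗[A] C) ⟨x, hx⟩]
  by_contra hcon
  rw [Set.eq_empty_iff_forall_notMem] at hA₂
  apply hA₂ (comap (algebraMap A₂ (A₂ ⊗[A] C)) ⟨x, hx⟩)
  refine ⟨comap (algebraMap C (A₂ ⊗[A] C)) ⟨x, hx⟩, hcon, ?_⟩
  rw [← PrimeSpectrum.comap_comp_apply, ← PrimeSpectrum.comap_comp_apply,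
    ← IsScalarTower.algebraMap_eq A A₂ (A₂ ⊗[A] C), ← IsScalarTower.algebraMap_eq A C (A₂ ⊗[A] C)]

theorem exists_syntomic_model [IsNoetherianRing A] [Algebra.FiniteType A C]
    (h : Synt.IsSyntomic R (R ⊗[A] C)) :
    ∃ (A₂ : Type u) (_ : CommRing A₂) (_ : Algebra A A₂) (_ : Algebra A₂ R),
      IsScalarTower A A₂ R ∧ Algebra.FiniteType A A₂ ∧ Synt.IsSyntomic A₂ (A₂ ⊗[A] C) := by
  have hfl : Module.Flat R (R ⊗[A] C) := h.1
  obtain ⟨A₁, _, _, _, h1, h2, h3⟩ := FlatB.FlatDescGlobal.exists_flat_model (A := A) (B := C) (R := R)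
  have hN : IsNoetherianRing A₁ := Algebra.FiniteType.isNoetherianRing A A₁
  have h4 : Synt.IsSyntomic R (R ⊗[A₁] (A₁ ⊗[A] C)) :=
    K562.Rel.isSyntomic_of_algEquiv (Algebra.TensorProduct.cancelBaseChange A A₁ R R C).symm h
  obtain ⟨A₂, hfg, h5⟩ := exists_subalgebra_of_flat (A := A₁) (C := A₁ ⊗[A] C) (R := R) h4
  have h6 : Algebra.FiniteType A₁ A₂ := (Subalgebra.fg_iff_finiteType _).mp hfg
  refine ⟨A₂, inferInstance, inferInstance, inferInstance, inferInstance,
    Algebra.FiniteType.trans (S := A₁) inferInstance h6, ?_⟩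
  exact K562.Rel.isSyntomic_of_algEquiv (Algebra.TensorProduct.cancelBaseChange A A₁ A₂ A₂ C) h5

end K563.SynModel
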